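import Cfsg.Agent.StabLength.OddFix
import Mathlib.GroupTheory.PGroup

/-!
# The inner part of order `81`

An element of order `13` cannot act on an inner part of order `81`: its fixed points would be a
radical of the commutator pairing.
-/

set_option autoImplicit false
set_option linter.unusedSectionVars false
set_option linter.style.haveILetI false

namespace CfsgLib.StabLength

open CfsgLib.SolvKGV

universe u v

variable {H : Type u} [Group H] [Finite H] {V : Type v} [AddCommGroup V] [DistribMulAction H V]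
  [Finite V] [Nontrivial V] {P : Prim H V}

theorem card_range_f (I : Inner.{u, v} P) :
    Nat.card I.f.range = I.B.relIndex (Subgroup.centralizer (P.A : Set H)) := by
  rw [← Subgroup.index_ker, I.ker_f]
  rfl

theorem not_thirteen_dvd (I : Inner.{u, v} P) (hM : I.M = 9) :
    ¬ 13 ∣ Nat.card I.f.range := by
  intro h13
  haveI := P.normalA
  haveI := I.normalB
  haveI : Fact (Nat.Prime 13) := ⟨by norm_num⟩
  set C := Subgroup.centralizer (P.A : Set H) with hC
  haveI : (I.B.subgroupOf C).Normal := I.normalB.subgroupOf C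
  rw [card_range_f, Subgroup.relIndex, Subgroup.index_eq_card] at h13
  obtain ⟨z, hz⟩ := exists_prime_orderOf_dvd_card' 13 h13
  obtain ⟨c₀, rfl⟩ := QuotientGroup.mk_surjective z
  -- an element of `13`-power order
  obtain ⟨j, k, hk, hjk⟩ := Nat.exists_eq_pow_mul_and_not_dvd (orderOf_pos c₀).ne' 13 (by norm_num)
  have hkC : (c₀ ^ k : C) ∉ I.B.subgroupOf C := fun h => hk <| by
    rw [← hz]
    exact orderOf_dvd_of_pow_eq_one
      (show (c₀ : C ⧸ I.B.subgroupOf C) ^ k = 1 by
        rw [← QuotientGroup.mk_pow]; exact (QuotientGroup.eq_one_iff _).2 h)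
  set c : H := ((c₀ ^ k : C) : H) with hc
  have hcC : c ∈ C := (c₀ ^ k : C).2
  have hcB : c ∉ I.B := fun h => hkC (Subgroup.mem_subgroupOf.2 h)
  have hcp : c ^ 13 ^ j = 1 := by
    rw [hc, ← SubmonoidClass.coe_pow, ← pow_mul, mul_comm, ← hjk, pow_orderOf_eq_one, OneMemClass.coe_one]
  have hsq : ∀ y ∈ I.B, y ^ 81 ∈ P.A := fun y hy => by
    have := pow_sq_mem I hy
    rw [hM] at this
    exact this
  -- commuting modulo `A` is commuting
  have hlift : ∀ y ∈ I.B, c * y * c⁻¹ * y⁻¹ ∈ P.A → c * y = y * c := by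
    intro y hy ha
    set a := c * y * c⁻¹ * y⁻¹ with hadef
    have e1 : c * y * c⁻¹ = a * y := by rw [hadef]; group
    have h81 : a ^ 81 = 1 := by
      have hcomm : Commute a y := (comm_A (I.BC hy) ha).symm
      have h1 : (c * y * c⁻¹) ^ 81 = y ^ 81 := by
        rw [conj_pow, comm_A hcC (hsq y hy), mul_inv_cancel_right]
      rw [e1, hcomm.mul_pow] at h1
      exact mul_eq_right.1 h1
    have hit : ∀ n : ℕ, c ^ n * y * (c ^ n)⁻¹ = a ^ n * y := by
      intro n
      induction n with
      | zero => simp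
      | succ n ih =>
        have e2 : c * a ^ n = a ^ n * c := comm_A hcC (P.A.pow_mem ha n)
        calc c ^ (n + 1) * y * (c ^ (n + 1))⁻¹ = c * (c ^ n * y * (c ^ n)⁻¹) * c⁻¹ := by
              rw [pow_succ']; group
          _ = (c * a ^ n) * y * c⁻¹ := by rw [ih]; group
          _ = a ^ n * (c * y * c⁻¹) := by rw [e2]; group
          _ = _ := by rw [e1, pow_succ]; group
    have h13j : a ^ 13 ^ j = 1 := by
      have h := hit (13 ^ j)
      rw [hcp, one_mul, inv_one, mul_one] at h
      exact mul_eq_right.1 h.symm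
    have ha1 : a = 1 := orderOf_eq_one_iff.1 (Nat.eq_one_of_dvd_coprimes
      (Nat.Coprime.pow_right j (by norm_num : Nat.Coprime 81 13))
      (orderOf_dvd_of_pow_eq_one h81) (orderOf_dvd_of_pow_eq_one h13j))
    rw [ha1, one_mul, mul_inv_eq_iff_eq_mul] at e1
    exact e1
  set A' := P.A.subgroupOf I.B with hA'
  haveI : A'.Normal := P.normalA.subgroupOf I.B
  let Q := I.B ⧸ A'
  let cj : H → (Q →* Q) := fun g =>
    QuotientGroup.map A' A' (MulAut.conjNormal g : I.B ≃* I.B).toMonoidHom fun x hx => by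
      rw [Subgroup.mem_comap, hA', Subgroup.mem_subgroupOf] at *
      show ((MulAut.conjNormal g x : I.B) : H) ∈ P.A
      rw [MulAut.conjNormal_apply]
      exact P.normalA.conj_mem _ hx g
  have hcj : ∀ g (b : I.B), cj g (b : Q) = ((MulAut.conjNormal g b : I.B) : Q) := fun g b => rfl
  letI : MulAction (Subgroup.zpowers c) Q :=
    { smul := fun n q => cj (n : H) q
      one_smul := fun q => QuotientGroup.induction_on q fun b => by
        show cj ((1 : Subgroup.zpowers c) : H) (b : Q) = _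
        rw [hcj, OneMemClass.coe_one, map_one, MulAut.one_apply]
      mul_smul := fun m n q => QuotientGroup.induction_on q fun b => by
        show cj ((m * n : Subgroup.zpowers c) : H) (b : Q) = cj (m : H) (cj (n : H) (b : Q))
        rw [hcj, hcj, hcj, Subgroup.coe_mul, map_mul, MulAut.mul_apply] }
  have hsmul : ∀ (n : Subgroup.zpowers c) (b : I.B),
      n • (b : Q) = ((MulAut.conjNormal (n : H) b : I.B) : Q) := fun n b => rfl
  have hp13 : IsPGroup 13 (Subgroup.zpowers c) := by
    refine IsPGroup.iff_orderOf.2 fun n => ?_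
    have h1 : orderOf n ∣ 13 ^ j := by
      refine orderOf_dvd_of_pow_eq_one (Subtype.ext ?_)
      obtain ⟨i, hi⟩ := Subgroup.mem_zpowers_iff.1 n.2
      rw [SubmonoidClass.coe_pow, ← hi, ← zpow_natCast, ← zpow_mul, mul_comm, zpow_mul, zpow_natCast,
        hcp, one_zpow, OneMemClass.coe_one]
    obtain ⟨i, -, hi⟩ := (Nat.dvd_prime_pow (Fact.out : Nat.Prime 13)).1 h1
    exact ⟨i, hi⟩
  have hcmem : c ∈ Subgroup.zpowers c := Subgroup.mem_zpowers c
  set K := I.B ⊓ Subgroup.centralizer ({c} : Set H) with hK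
  have hfixK : ∀ b : I.B, (∀ n : Subgroup.zpowers c, n • (b : Q) = (b : Q)) → (b : H) ∈ K := by
    intro b hb
    refine ⟨b.2, Subgroup.mem_centralizer_singleton_iff.2 ?_⟩
    have h := hb ⟨c, hcmem⟩
    rw [hsmul, eq_comm, QuotientGroup.eq, hA', Subgroup.mem_subgroupOf, Subgroup.coe_mul,
      Subgroup.coe_inv, MulAut.conjNormal_apply] at h
    refine (hlift b b.2 ?_).symm
    have h' := P.normalA.conj_mem _ h (b : H)
    simpa [mul_assoc] using h'
  have hcardQ : Nat.card Q = 81 := by
    have h := Subgroup.card_eq_card_quotient_mul_card_subgroup A'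
    rw [Nat.card_congr (Subgroup.subgroupOfEquivOfLe I.AB).toEquiv, I.card_B, mul_comm, hM] at h
    exact (Nat.eq_of_mul_eq_mul_right Nat.card_pos h).symm
  set Kb : Subgroup Q := (K.subgroupOf I.B).map (QuotientGroup.mk' A') with hKb
  have hfixeq : (MulAction.fixedPoints (Subgroup.zpowers c) Q : Set Q) = (Kb : Set Q) := by
    ext q
    obtain ⟨b, rfl⟩ := QuotientGroup.mk_surjective q
    constructor
    · intro hb
      exact ⟨b, hfixK b hb, rfl⟩
    · rintro ⟨b', hb', e⟩ n
      rw [← show ((b' : I.B) : Q) = (b : Q) from e, hsmul]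
      congr 1
      refine Subtype.ext ?_
      obtain ⟨i, hi⟩ := Subgroup.mem_zpowers_iff.1 n.2
      rw [MulAut.conjNormal_apply, ← hi]
      have hcb : Commute c (b' : H) := (Subgroup.mem_centralizer_singleton_iff.1 hb'.2).symm
      rw [(hcb.zpow_left i).eq, mul_inv_cancel_right]
  have hKcard : Nat.card Kb = 3 := by
    have h := hp13.card_modEq_card_fixedPoints Q
    rw [hcardQ, show Nat.card (MulAction.fixedPoints (Subgroup.zpowers c) Q) = Nat.card Kb from
      Nat.card_congr (Equiv.setCongr hfixeq)] at h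
    obtain ⟨i, hi, e⟩ := (Nat.dvd_prime_pow Nat.prime_three (m := 4)).1
      (by simpa [hcardQ] using Kb.card_subgroup_dvd_card)
    rw [e] at h ⊢
    interval_cases i
    · norm_num [Nat.ModEq] at h
    · rfl
    · norm_num [Nat.ModEq] at h
    · norm_num [Nat.ModEq] at h
    · exfalso
      have htop : Kb = ⊤ := Subgroup.eq_top_of_card_eq _ (e.trans (by rw [hcardQ]; rfl))
      have hcA : c ∈ P.A := I.cenB.le ⟨hcC, Subgroup.mem_centralizer_iff.2 fun y hy => by
        obtain ⟨b', hb', e'⟩ : ((⟨y, hy⟩ : I.B) : Q) ∈ Kb := htop ▸ Subgroup.mem_top _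
        have ha : (b' : H)⁻¹ * y ∈ P.A := by
          have := QuotientGroup.eq.1 e'
          rwa [hA', Subgroup.mem_subgroupOf, Subgroup.coe_mul, Subgroup.coe_inv] at this
        have hcb : Commute c (b' : H) := (Subgroup.mem_centralizer_singleton_iff.1 hb'.2).symm
        have hca : Commute c ((b' : H)⁻¹ * y) := comm_A hcC ha
        have := hcb.mul_right hca
        rw [mul_inv_cancel_left] at this
        exact this.symm.eq⟩
      exact hcB (I.AB hcA)
  haveI : Fact (Nat.Prime 3) := ⟨Nat.prime_three⟩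
  haveI : IsCyclic Kb := isCyclic_of_prime_card hKcard
  -- an element fixed modulo `A`, outside `A`
  obtain ⟨⟨q₀, b, hb, rfl⟩, hq₀⟩ : ∃ q : Kb, q ≠ 1 := by
    haveI : Nontrivial Kb := Finite.one_lt_card_iff_nontrivial.1 (by omega)
    exact exists_ne 1
  have hbA : (b : H) ∉ P.A := fun h => hq₀ (Subtype.ext ((QuotientGroup.eq_one_iff b).2 h))
  -- `K` is abelian
  have hKcomm : ∀ y ∈ K, (b : H) * y = y * b := by
    intro y hy
    let φ : (K.subgroupOf I.B) →* Kb :=
      ((QuotientGroup.mk' A').subgroupMap (K.subgroupOf I.B))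
    have hφ : φ.ker ≤ Subgroup.center (K.subgroupOf I.B) := by
      intro x hx
      have hxA : ((x : I.B) : H) ∈ P.A :=
        (QuotientGroup.eq_one_iff (x : I.B)).1 (congrArg Subtype.val (MonoidHom.mem_ker.1 hx))
      exact Subgroup.mem_center_iff.2 fun g => Subtype.ext (Subtype.ext (comm_A (I.BC (g : I.B).2) hxA))
    have h := commutative_of_cyclic_center_quotient φ hφ ⟨b, hb⟩ ⟨⟨y, hy.1⟩, hy⟩
    exact congrArg (fun z : K.subgroupOf I.B => ((z : I.B) : H)) h
  -- the centraliser of `b` in `B` is everything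
  set L := I.B ⊓ Subgroup.centralizer ({(b : H)} : Set H) with hL
  set Lb : Subgroup Q := (L.subgroupOf I.B).map (QuotientGroup.mk' A') with hLb
  have hALmem : ∀ {y}, y ∈ I.B → ∀ a ∈ P.A, y ∈ L → y * a ∈ L := fun hy a ha hyL =>
    L.mul_mem hyL ⟨I.AB ha, Subgroup.mem_centralizer_singleton_iff.2 (comm_A (I.BC b.2) ha).symm⟩
  have hcL : ∀ y ∈ I.B, c * y * c⁻¹ * y⁻¹ ∈ L := by
    intro y hy
    refine ⟨I.B.mul_mem (I.normalB.conj_mem y hy c) (I.B.inv_mem hy),
      Subgroup.mem_centralizer_singleton_iff.2 ?_⟩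
    set b' : H := (b : H)
    have hb'B : b' ∈ I.B := b.2
    have hcb : c * b' = b' * c := (Subgroup.mem_centralizer_singleton_iff.1 hb.2).symm
    set a := b' * y * b'⁻¹ * y⁻¹ with ha
    have haA : a ∈ P.A := I.com b' hb'B y hy
    have e1 : b' * (c * y * c⁻¹) * b'⁻¹ = a * (c * y * c⁻¹) := by
      calc b' * (c * y * c⁻¹) * b'⁻¹ = (b' * c) * y * ((b' * c))⁻¹ := by group
        _ = c * (b' * y * b'⁻¹) * c⁻¹ := by rw [← hcb]; group
        _ = (c * a) * y * c⁻¹ := by rw [ha]; group
        _ = _ := by rw [comm_A hcC haA]; group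
    have e2 : b' * y⁻¹ * b'⁻¹ = y⁻¹ * a⁻¹ := by rw [ha]; group
    have e3 : b' * (c * y * c⁻¹ * y⁻¹) * b'⁻¹ = c * y * c⁻¹ * y⁻¹ := by
      calc b' * (c * y * c⁻¹ * y⁻¹) * b'⁻¹
          = (b' * (c * y * c⁻¹) * b'⁻¹) * (b' * y⁻¹ * b'⁻¹) := by group
        _ = a * ((c * y * c⁻¹ * y⁻¹) * a⁻¹) := by rw [e1, e2]; group
        _ = a * (a⁻¹ * (c * y * c⁻¹ * y⁻¹)) := by
          rw [comm_A (I.BC (I.B.mul_mem (I.normalB.conj_mem y hy c) (I.B.inv_mem hy)))
            (P.A.inv_mem haA)]
        _ = _ := mul_inv_cancel_left _ _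
    exact (mul_inv_eq_iff_eq_mul.1 e3).symm
  have htop : Lb = ⊤ := by
    rw [eq_top_iff]
    intro q _
    obtain ⟨y, rfl⟩ := QuotientGroup.mk_surjective q
    have hinv : ∀ (n : Subgroup.zpowers c) (r : Q), (y : Q)⁻¹ * r ∈ Lb → (y : Q)⁻¹ * (n • r) ∈ Lb := by
      have hgen : ∀ g ∈ Subgroup.zpowers c, ∀ r : Q, (y : Q)⁻¹ * r ∈ Lb →
          (y : Q)⁻¹ * cj g r ∈ Lb := by
        intro g hg
        obtain ⟨i, rfl⟩ : ∃ i : ℕ, c ^ i = g :=
          (mem_powers_iff_mem_zpowers.2 hg : g ∈ Submonoid.powers c)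
        induction i with
        | zero =>
          intro r hr
          obtain ⟨x, rfl⟩ := QuotientGroup.mk_surjective r
          rw [hcj, pow_zero, map_one, MulAut.one_apply]
          exact hr
        | succ i ih =>
          intro r hr
          obtain ⟨x, rfl⟩ := QuotientGroup.mk_surjective r
          have h1 := ih (Subgroup.pow_mem _ hcmem i) _ hr
          rw [hcj] at h1
          rw [hcj, pow_succ', map_mul, MulAut.mul_apply]
          set w := MulAut.conjNormal (c ^ i) x
          have h2 : ((MulAut.conjNormal c w * w⁻¹ : I.B) : Q) ∈ Lb := by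
            refine ⟨MulAut.conjNormal c w * w⁻¹, ?_, rfl⟩
            show ((MulAut.conjNormal c w * w⁻¹ : I.B) : H) ∈ L
            rw [Subgroup.coe_mul, Subgroup.coe_inv, MulAut.conjNormal_apply]
            exact hcL _ w.2
          have hQc : ∀ s t : Q, s * t = t * s := fun s t => by
            induction s using QuotientGroup.induction_on with | H s => ?_
            induction t using QuotientGroup.induction_on with | H t => ?_
            rw [← QuotientGroup.mk_mul, ← QuotientGroup.mk_mul, QuotientGroup.eq, hA',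
              Subgroup.mem_subgroupOf]
            have h := I.com _ (I.B.inv_mem t.2) _ (I.B.inv_mem s.2)
            simpa [mul_assoc] using h
          have e : (y : Q)⁻¹ * (MulAut.conjNormal c w : I.B) =
              ((MulAut.conjNormal c w * w⁻¹ : I.B) : Q) * ((y : Q)⁻¹ * (w : Q)) := by
            rw [← mul_assoc, hQc _ (y : Q)⁻¹, mul_assoc, ← QuotientGroup.mk_mul, inv_mul_cancel_right]
          rw [e]
          exact mul_mem h2 h1
      exact fun n r hr => hgen n n.2 r hr
    letI : MulAction (Subgroup.zpowers c) {r : Q // (y : Q)⁻¹ * r ∈ Lb} :=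
      { smul := fun n r => ⟨n • r.1, hinv n r.1 r.2⟩
        one_smul := fun r => Subtype.ext (one_smul (Subgroup.zpowers c) r.1)
        mul_smul := fun m n r => Subtype.ext (mul_smul m n r.1) }
    have hcardT : Nat.card {r : Q // (y : Q)⁻¹ * r ∈ Lb} = Nat.card Lb :=
      Nat.card_congr ((Equiv.mulLeft ((y : Q)⁻¹)).subtypeEquiv fun r => Iff.rfl)
    obtain ⟨⟨r, hr⟩, hfix⟩ := hp13.nonempty_fixed_point_of_prime_not_dvd_card
      {r : Q // (y : Q)⁻¹ * r ∈ Lb} (by
        rw [hcardT]
        intro h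
        have := h.trans Lb.card_subgroup_dvd_card
        rw [hcardQ] at this
        norm_num at this)
    obtain ⟨x, rfl⟩ := QuotientGroup.mk_surjective r
    have hxK : (x : H) ∈ K := hfixK x fun n => congrArg Subtype.val (hfix n)
    have hxL : (x : Q) ∈ Lb :=
      ⟨x, ⟨x.2, Subgroup.mem_centralizer_singleton_iff.2 (hKcomm _ hxK).symm⟩, rfl⟩
    have h := Lb.mul_mem hxL (Lb.inv_mem hr)
    rwa [mul_inv_rev, inv_inv, mul_inv_cancel_left] at h
  refine hbA (I.cenB.le ⟨I.BC b.2, Subgroup.mem_centralizer_iff.2 fun y hy => ?_⟩)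
  obtain ⟨y', hy', e⟩ : ((⟨y, hy⟩ : I.B) : Q) ∈ Lb := htop ▸ Subgroup.mem_top _
  have ha : (y' : H)⁻¹ * y ∈ P.A := by
    have := QuotientGroup.eq.1 e
    rwa [hA', Subgroup.mem_subgroupOf, Subgroup.coe_mul, Subgroup.coe_inv] at this
  have hyL := hALmem y'.2 _ ha hy'
  rw [mul_inv_cancel_left] at hyL
  exact Subgroup.mem_centralizer_singleton_iff.1 hyL.2

end CfsgLib.StabLength
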