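import Cfsg.Agent.StabLength.OddSmall
import Cfsg.Agent.StabLength.OddNine
import Cfsg.Agent.RegOrbit.PowerSet

/-!
# Completely reducible groups of odd order have a vector with abelian stabiliser

A solvable group of odd order acting faithfully and completely reducibly on a finite group of odd
order has a nonzero vector whose stabiliser is abelian.
-/

set_option autoImplicit false
set_option linter.unusedSectionVars false
set_option linter.style.haveILetI false

namespace CfsgLib.StabLength

open CfsgLib.SolvKGV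

universe u

theorem pow_bound {k q c b : ℕ} (hb : 1 ≤ b) (hk : (b + 1) ^ k ≤ q * b ^ k) (h0 : c * b ^ k < q ^ b) :
    ∀ M, b ≤ M → c * M ^ k < q ^ M := by
  intro M hM
  induction M, hM using Nat.le_induction with
  | base => exact h0
  | succ M hM ih =>
    have h1 : (M + 1) ^ k * b ^ k ≤ (M * (b + 1)) ^ k := by
      rw [← mul_pow]; exact Nat.pow_le_pow_left (by nlinarith) k
    have h2 : (M + 1) ^ k ≤ q * M ^ k := by
      refine Nat.le_of_mul_le_mul_right (h1.trans ?_) (pow_pos (by omega : 0 < b) k)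
      calc (M * (b + 1)) ^ k = M ^ k * (b + 1) ^ k := mul_pow _ _ _
        _ ≤ M ^ k * (q * b ^ k) := Nat.mul_le_mul_left _ hk
        _ = _ := by ring
    calc c * (M + 1) ^ k ≤ c * (q * M ^ k) := Nat.mul_le_mul_left _ h2
      _ = c * M ^ k * q := by ring
      _ < q ^ M * q := Nat.mul_lt_mul_of_pos_right ih (by
          by_contra hq
          have : q = 0 := by omega
          rw [this, zero_mul] at hk
          exact absurd hk (not_le.2 (pow_pos (by omega) k)))
      _ = _ := (pow_succ q M).symm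

/-- The cases of the inner index below `45`. -/
theorem small_cases : ∀ M < 45, Odd M → 3 ≤ M →
    Squarefree M ∨ M = 9 ∨ M = 25 ∨ M = 27 := by
  intro M hM hodd h3
  interval_cases M <;> first
    | (exact absurd hodd (by decide))
    | omega
    | (left; decide +kernel)

section prim

variable {H : Type u} [Group H] [Finite H] [Group.IsSolvable H] {V : Type u} [AddCommGroup V]
  [DistribMulAction H V] [Finite V] [Nontrivial V]

/-- The primitive case with inner part. -/
theorem exists_good_inner (P : Prim H V) (hH : Odd (Nat.card H)) (hV : Odd (Nat.card V))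
    (I : Inner.{u, u} P) :
    ∃ v : V, v ≠ 0 ∧ DL (MulAction.stabilizer H v) 1 := by
  set C := Subgroup.centralizer (P.A : Set H) with hC
  obtain ⟨hMo, hM3⟩ := inner_M_odd I hH
  haveI : Fact P.p.Prime := ⟨P.prime⟩
  have hXodd : Odd (Nat.card I.f.range) :=
    hH.of_dvd_nat ((Subgroup.card_range_dvd I.f).trans (Subgroup.card_subgroup_dvd_card _))
  haveI : Group.IsSolvable I.f.range :=
    Group.isSolvable_of_surjective I.f.rangeRestrict_surjective
  have hfX : Faith I.f.range I.W := faith_units _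
  have hCR : RegOrbit.CR I.f.range := fun U hU => by
    obtain ⟨W', h1, h2⟩ := I.semi U fun h u hu => hU h h.2 u hu
    exact ⟨W', fun a ha v hv => h1 ⟨a, ha⟩ v hv, h2.inf_eq_bot, h2.sup_eq_top⟩
  have hX4 : Nat.card I.f.range ≤ I.M ^ 4 := by
    refine (RegOrbit.natCard_le_of_base (RegOrbit.base_of_odd hXodd inferInstance hCR)).trans ?_
    rw [I.card_W, ← pow_mul]
  -- the characteristic
  have hp3 : 3 ≤ P.p := by
    have : Odd P.p := hV.of_dvd_nat (P.card_eq ▸ dvd_pow_self P.p (Nat.mul_ne_zero
      (by have := P.e_pos; omega) (by have := P.m_pos; omega)))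
    obtain ⟨k, hk⟩ := this
    have := P.prime.two_le
    omega
  set q := P.p ^ P.e with hq
  have hqodd : Odd q := (Odd.pow (by
    rcases P.prime.eq_two_or_odd' with h | h
    · omega
    · exact h))
  have hrq : ∀ r : ℕ, r.Prime → r ∣ I.M → 3 ≤ r ∧ r ∣ q - 1 ∧ 2 * r + 1 ≤ q := by
    intro r hr hrM
    obtain ⟨h3, -, -, hd⟩ := inner_prime I hH hr hrM
    refine ⟨h3, hd, ?_⟩
    have h2 : 2 ∣ q - 1 := by
      obtain ⟨k, hk⟩ := hqodd
      exact ⟨k, by omega⟩
    have h := Nat.le_of_dvd (by
      have : 1 < q := Nat.one_lt_pow (by have := P.e_pos; omega) P.prime.one_lt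
      omega) (Nat.Coprime.mul_dvd_of_dvd_of_dvd
        (Nat.coprime_two_left.2 (hr.odd_of_ne_two (by omega))) h2 hd)
    omega
  obtain ⟨r₀, hr₀, hr₀M⟩ := Nat.exists_prime_and_dvd (by omega : I.M ≠ 1)
  have hq7 : 7 ≤ q := by
    obtain ⟨a, -, b⟩ := hrq r₀ hr₀ hr₀M
    omega
  have hrel : P.A.relIndex C = I.M ^ 2 * Nat.card I.f.range := by
    rw [card_range_f, ← Subgroup.relIndex_mul_relIndex P.A I.B C I.AB I.BC]
    congr 1
    have h1 := Subgroup.card_mul_index (P.A.subgroupOf I.B)
    rw [Nat.card_congr (Subgroup.subgroupOfEquivOfLe I.AB).toEquiv, I.card_B] at h1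
    exact Nat.eq_of_mul_eq_mul_left Nat.card_pos h1
  -- stabilisers meeting the centraliser trivially
  have hA : ∀ r : ℕ, 1 ≤ r → r ≤ I.M → (∀ s : ℕ, s.Prime → s ∣ I.M → r ≤ s) →
      (3 * (I.M ^ 2 * Nat.card I.f.range)) ^ (2 * r) < q ^ (I.M * (r - 1)) →
      ∃ v : V, v ≠ 0 ∧ DL (MulAction.stabilizer H v) 1 := by
    intro r h1 hrM hr hnum
    obtain ⟨v, hv0, hv⟩ := exists_free_centralizer I h1 hr (hrM.trans I.le_m) (by
      rw [hrel]
      exact hnum.trans_le (Nat.pow_le_pow_right (by omega) (Nat.mul_le_mul_right _ I.le_m)))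
    exact ⟨v, hv0, dl_one_of_inf_centralizer P _ fun s hs hsC => hv s hs hsC⟩
  have hA3 : (3 * (I.M ^ 2 * Nat.card I.f.range)) ^ 3 < q ^ I.M →
      ∃ v : V, v ≠ 0 ∧ DL (MulAction.stabilizer H v) 1 := fun hnum =>
    hA 3 (by norm_num) hM3 (fun s hs hsM => (hrq s hs hsM).1) (by
      rw [show 2 * 3 = 3 * 2 from rfl, pow_mul, show 3 - 1 = 2 from rfl, pow_mul q I.M 2]
      exact Nat.pow_lt_pow_left hnum (by norm_num))
  -- stabilisers meeting the inner part trivially
  have hB : C = ⊤ → (∀ a b : I.f.range, a * b = b * a) →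
      ∃ v : V, v ≠ 0 ∧ DL (MulAction.stabilizer H v) 1 := by
    intro hCtop hcomm
    have hnum : I.M ^ 9 < q ^ (2 * P.m) := by
      have h := pow_bound (k := 9) (q := 49) (c := 1) (b := 3) (by norm_num) (by norm_num)
        (by norm_num) I.M hM3
      rw [one_mul] at h
      calc I.M ^ 9 < 49 ^ I.M := h
        _ ≤ (q ^ 2) ^ I.M := Nat.pow_le_pow_left (Nat.pow_le_pow_left hq7 2) _
        _ ≤ (q ^ 2) ^ P.m := Nat.pow_le_pow_right (pow_pos (by omega) 2) I.le_m
        _ = _ := (pow_mul q 2 P.m).symm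
    obtain ⟨v, hv0, hv⟩ := exists_free_inner I (fun s hs hsM => (hrq s hs hsM).1) hnum
    refine ⟨v, hv0, ?_⟩
    have hmem : ∀ s : MulAction.stabilizer H v, (s : H) ∈ C := fun s => hCtop ▸ Subgroup.mem_top _
    let g : MulAction.stabilizer H v →* I.f.range :=
      I.f.rangeRestrict.comp ((MulAction.stabilizer H v).subtype.codRestrict C hmem)
    have hinj : Function.Injective g := (injective_iff_map_eq_one _).2 fun s hs => by
      have h : (⟨(s : H), hmem s⟩ : C) ∈ I.f.ker := MonoidHom.mem_ker.2 (congrArg Subtype.val hs)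
      rw [I.ker_f, Subgroup.mem_subgroupOf] at h
      exact Subtype.ext (hv s s.2 h)
    exact dl_one_of_comm fun a b => hinj (by rw [map_mul, map_mul, hcomm])
  -- the field when the centraliser is proper
  have hq27 : C ≠ ⊤ → 27 ≤ q ∧ (q ≠ 27 → 81 ≤ q) := by
    intro hne
    have he : 3 ≤ P.e := by
      obtain ⟨k, hk⟩ := odd_index_centralizer P hH
      have := P.index_le
      have h1 : C.index ≠ 1 := fun e => hne (Subgroup.index_eq_one.1 e)
      rw [← hC] at hk this
      omega
    have h27 : 27 ≤ q := le_trans (Nat.pow_le_pow_left hp3 3) (Nat.pow_le_pow_right (by omega) he)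
    refine ⟨h27, fun hne27 => ?_⟩
    rcases eq_or_lt_of_le he with he' | he'
    · have h5 : 5 ≤ P.p := by
        by_contra hlt
        have : P.p = 3 ∨ P.p = 4 := by omega
        rcases this with h | h
        · exact hne27 (by rw [hq, h, ← he']; rfl)
        · exact absurd P.prime (by rw [h]; norm_num)
      exact le_trans (by norm_num) (le_trans (Nat.pow_le_pow_left h5 3) (Nat.pow_le_pow_right (by omega) he))
    · exact le_trans (Nat.pow_le_pow_left hp3 4) (Nat.pow_le_pow_right (by omega) he')
  by_cases hbig : 45 ≤ I.M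
  · refine hA3 (lt_of_le_of_lt ?_ ((pow_bound (k := 18) (q := 7) (c := 27) (b := 45) (by norm_num)
      (by norm_num) (by norm_num) I.M hbig).trans_le (Nat.pow_le_pow_left hq7 _)))
    calc (3 * (I.M ^ 2 * Nat.card I.f.range)) ^ 3 ≤ (3 * (I.M ^ 2 * I.M ^ 4)) ^ 3 :=
          Nat.pow_le_pow_left (Nat.mul_le_mul_left _ (Nat.mul_le_mul_left _ hX4)) 3
      _ = 27 * I.M ^ 18 := by ring
  rcases small_cases I.M (by omega) hMo hM3 with hsq | h9 | h25 | h27
  · obtain ⟨hcomm, hX2⟩ := squarefree_sq I.M I.f.range I.W I.semi hfX hXodd hsq I.card_W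
    by_cases hCt : C = ⊤
    · exact hB hCt hcomm
    obtain ⟨hge, hge'⟩ := hq27 hCt
    have hq81 : ∀ r : ℕ, r.Prime → r ∣ I.M → r ≠ 13 → 81 ≤ q := fun r hr hrM hne => hge' fun h27 => by
      obtain ⟨h3, hd, -⟩ := hrq r hr hrM
      rw [h27] at hd
      have h := Nat.prime_dvd_prime_iff_eq hr (by norm_num : Nat.Prime 13)
      have : r ∣ 2 * 13 := hd
      rcases hr.dvd_mul.1 this with h' | h'
      · have := Nat.le_of_dvd (by norm_num) h'
        omega
      · exact hne (h.1 h')
    by_cases h11 : 11 ≤ I.M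
    · refine hA3 (lt_of_le_of_lt ?_ ((pow_bound (k := 12) (q := 27) (c := 27) (b := 11) (by norm_num)
        (by norm_num) (by norm_num) I.M h11).trans_le (Nat.pow_le_pow_left hge _)))
      calc (3 * (I.M ^ 2 * Nat.card I.f.range)) ^ 3 ≤ (3 * (I.M ^ 2 * I.M ^ 2)) ^ 3 :=
            Nat.pow_le_pow_left (Nat.mul_le_mul_left _ (Nat.mul_le_mul_left _ hX2)) 3
        _ = 27 * I.M ^ 12 := by ring
    · have hcases : I.M = 3 ∨ I.M = 5 ∨ I.M = 7 ∨ I.M = 9 := by
        obtain ⟨k, hk⟩ := hMo
        omega
      rcases hcases with h | h | h | h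
      all_goals first
        | (rw [h] at hsq; exact absurd hsq (by decide +kernel))
        | skip
      · have hp : Nat.Prime 3 := Nat.prime_three
        have hqq := hq81 3 hp (h ▸ dvd_rfl) (by norm_num)
        obtain ⟨-, hd⟩ := prime_sq I.semi hfX hXodd hp (by rw [I.card_W, h])
        have hX : Nat.card I.f.range ∣ 1 := odd_dvd_of_dvd hXodd (k := 3) (by
          rcases hd with hd | hd
          · exact hd.trans (by decide)
          · exact hd)
        refine hA3 ?_
        rw [h, Nat.dvd_one.1 hX]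
        exact lt_of_lt_of_le (by norm_num) (Nat.pow_le_pow_left hqq 3)
      · have hp : Nat.Prime 5 := by norm_num
        have hqq := hq81 5 hp (h ▸ dvd_rfl) (by norm_num)
        obtain ⟨-, hd⟩ := prime_sq I.semi hfX hXodd hp (by rw [I.card_W, h])
        have hX : Nat.card I.f.range ∣ 3 := odd_dvd_of_dvd hXodd (k := 4) (by
          rcases hd with hd | hd
          · exact hd.trans (by decide)
          · exact hd.trans (by decide))
        refine hA3 (lt_of_le_of_lt (Nat.pow_le_pow_left (Nat.mul_le_mul_left _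
          (Nat.mul_le_mul_left _ (Nat.le_of_dvd (by norm_num) hX))) 3) ?_)
        rw [h]
        exact lt_of_lt_of_le (by norm_num) (Nat.pow_le_pow_left hqq 5)
      · have hp : Nat.Prime 7 := by norm_num
        have hqq := hq81 7 hp (h ▸ dvd_rfl) (by norm_num)
        refine hA3 (lt_of_le_of_lt (Nat.pow_le_pow_left (Nat.mul_le_mul_left _
          (Nat.mul_le_mul_left _ hX2)) 3) ?_)
        rw [h]
        exact lt_of_lt_of_le (by norm_num) (Nat.pow_le_pow_left hqq 7)
  · have hW : Nat.card I.W = 3 ^ 4 := by rw [I.card_W, h9]; norm_num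
    obtain ⟨hcomm, hX5⟩ := (three_four hfX I.semi hXodd hW).2 (not_thirteen_dvd I h9)
    by_cases hCt : C = ⊤
    · exact hB hCt hcomm
    · refine hA3 (lt_of_le_of_lt (Nat.pow_le_pow_left (Nat.mul_le_mul_left _
        (Nat.mul_le_mul_left _ hX5)) 3) ?_)
      rw [h9]
      exact lt_of_lt_of_le (by norm_num) (Nat.pow_le_pow_left (hq27 hCt).1 9)
  · have h5 : Nat.Prime 5 := by norm_num
    have hq11 : 11 ≤ q := (hrq 5 h5 (h25 ▸ by norm_num)).2.2
    refine hA 5 (by norm_num) (by omega) (fun s hs hsM => ?_) ?_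
    · rw [h25, show 25 = 5 ^ 2 from rfl] at hsM
      exact ((Nat.prime_dvd_prime_iff_eq hs h5).1 (hs.dvd_of_dvd_pow hsM)).ge
    refine lt_of_le_of_lt (Nat.pow_le_pow_left (Nat.mul_le_mul_left _ (Nat.mul_le_mul_left _ hX4)) _) ?_
    rw [h25]
    exact lt_of_lt_of_le (by norm_num) (Nat.pow_le_pow_left hq11 _)
  · have hW : Nat.card I.W = 3 ^ 6 := by rw [I.card_W, h27]; norm_num
    refine hA3 (lt_of_le_of_lt (Nat.pow_le_pow_left (Nat.mul_le_mul_left _ (Nat.mul_le_mul_left _
      (three_six hfX I.semi hXodd hW))) 3) ?_)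
    rw [h27]
    exact lt_of_lt_of_le (by norm_num) (Nat.pow_le_pow_left hq7 27)

/-- The case without decomposition. -/
theorem exists_good_prim (hnd : NoDecomp H V) (hs : Semi H V) (hf : Faith H V)
    (hH : Odd (Nat.card H)) (hV : Odd (Nat.card V)) :
    ∃ v : V, v ≠ 0 ∧ DL (MulAction.stabilizer H v) 1 := by
  obtain ⟨P⟩ := exists_prim hnd hs hf
  by_cases hC : Subgroup.centralizer (P.A : Set H) = P.A
  · obtain ⟨v, hv⟩ := exists_ne (0 : V)
    exact ⟨v, hv, dl_one_of_inf_centralizer P _ fun s hs hsC => P.free s (hC ▸ hsC) v hv hs⟩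
  · obtain ⟨I⟩ := exists_inner P hC
    exact exists_good_inner P hH hV I

end prim

theorem exists_good_aux (N : ℕ) : ∀ (H : Type u) [Group H] [Finite H] [Group.IsSolvable H]
    (V : Type u) [AddCommGroup V] [DistribMulAction H V] [Finite V], Nat.card V = N → Semi H V →
      Faith H V → Odd (Nat.card H) → Odd (Nat.card V) → 1 < N →
      ∃ v : V, v ≠ 0 ∧ DL (MulAction.stabilizer H v) 1 := by
  induction N using Nat.strong_induction_on with
  | _ N ih =>
  intro H _ _ _ V _ _ _ hN hs hf hH hV h1
  subst hN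
  haveI : Nontrivial V := Finite.one_lt_card_iff_nontrivial.1 h1
  by_cases hd : ∃ r, Nonempty (Decomp H V r)
  swap
  · exact exists_good_prim (fun r D => hd ⟨r, ⟨D⟩⟩) hs hf hH hV
  obtain ⟨r, D, hD⟩ := exists_minimal_decomp hd
  have hparts : ∀ i, Semi (partGroup D i) (D.part i) →
      ∃ a : D.part i, a ≠ 0 ∧ DL (MulAction.stabilizer (partGroup D i) a) 1 := fun i hsi =>
    haveI := isSolvable_partGroup D i
    ih _ (D.card_part_lt i) _ _ rfl hsi (faith_units _)
      (hH.of_dvd_nat (card_partGroup_dvd D i))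
      (hV.of_dvd_nat (D.part i).card_addSubgroup_dvd_card) (D.one_lt_card_part i)
  rcases hD with ⟨-, htriv⟩ | ⟨ht, -⟩
  · have hsemi : ∀ i, Semi (partGroup D i) (D.part i) := by
      intro i
      have hl : labelStab D i = ⊤ := eq_top_iff.2 fun h _ => (mem_labelStab D).2 (by
        rw [htriv h, Equiv.Perm.one_apply])
      haveI : (labelStab D i).Normal := hl ▸ inferInstance
      exact semi_subImage (semi_normal hs (labelStab D i)) (isInv_labelStab D i)
    choose a ha0 ha using fun i => hparts i (hsemi i)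
    refine ⟨∑ i, (a i : V), fun e => ?_, dl_stabilizer_of_trivial D hf htriv a ha⟩
    have i₀ : Fin r := ⟨0, by have := D.two; omega⟩
    have h : D.proj i₀ (∑ j, (a j : V)) = a i₀ :=
      congrArg (fun y => (y i₀ : V)) (D.equiv.right_inv a)
    rw [e, map_zero] at h
    exact ha0 i₀ (Subtype.ext h.symm)
  · have i₀ : Fin r := ⟨0, by have := D.two; omega⟩
    obtain ⟨a, ha0, ha⟩ := hparts i₀ (semi_partGroup D hs ht i₀)
    have hne : ∀ g ∈ partGroup D i₀, g • a ≠ -a := by
      intro g hg e
      obtain ⟨k, hk⟩ := RegOrbit.exists_pow_two_mul_add_one (hH.of_dvd_nat (card_partGroup_dvd D i₀)) hg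
      have h2 : ∀ n : ℕ, (g ^ (2 * n)) • a = a := by
        intro n
        induction n with
        | zero => simp
        | succ n ih' => rw [show 2 * (n + 1) = 2 * n + 1 + 1 by ring, pow_succ, pow_succ, mul_smul,
            mul_smul, e, smul_neg, e, neg_neg, ih']
      have h3 : a = -a := by
        have := congrArg (fun z : (AddMonoid.End (D.part i₀))ˣ => z • a) hk
        rw [one_smul] at this
        rw [pow_succ, mul_smul, e, smul_neg, h2] at this
        exact this.symm
      have h4 : 2 • a = 0 := by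
        rw [two_nsmul]
        nth_rewrite 2 [h3]
        exact add_neg_cancel a
      refine ha0 (AddMonoid.addOrderOf_eq_one_iff.1 (Nat.eq_one_of_dvd_coprimes
        (Nat.coprime_two_left.2 (hV.of_dvd_nat (D.part i₀).card_addSubgroup_dvd_card))
        (addOrderOf_dvd_of_nsmul_eq_zero h4) (addOrderOf_dvd_natCard a)))
    obtain ⟨w, hw1, hw2⟩ := exists_colour_vectors D hf ht i₀ (ι := Fin 2) (a := ![a, -a])
      (fun k l g hg e => by
        fin_cases k <;> fin_cases l
        · rfl
        · exact absurd e (hne g hg)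
        · refine absurd ?_ (hne g hg)
          simpa [neg_eq_iff_eq_neg] using e
        · rfl)
      (d := 1) (fun k => by
        fin_cases k
        · exact ha
        · refine ha.of_le fun g hg => ?_
          have e : g • -a = -a := hg
          rw [smul_neg, neg_inj] at e
          exact e)
    obtain ⟨S, hS⟩ := RegOrbit.exists_subsetBase (Nat.card (Fin r)) (Fin r) rfl D.perm.range
      (hH.of_dvd_nat (Subgroup.card_range_dvd _))
      (Group.isSolvable_of_surjective D.perm.rangeRestrict_surjective)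
    classical
    let c : Fin r → Fin 2 := fun i => if i ∈ S then 1 else 0
    have hdl : DL (colourStab D.perm.range c) 0 := by
      haveI : Subsingleton (colourStab D.perm.range c) := ⟨fun g g' => by
        have key : ∀ g : colourStab D.perm.range c, (g : Equiv.Perm (Fin r)) = 1 := fun g => by
          refine hS g g.2.1 fun x => ?_
          have := (mem_colourStab.1 g.2).2 x
          by_cases h1 : (g : Equiv.Perm (Fin r)) x ∈ S <;> by_cases h2 : x ∈ S <;>
            simp [c, h1, h2] at this ⊢
        exact Subtype.ext ((key g).trans (key g').symm)⟩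
      exact dl_of_subsingleton 0
    refine ⟨w c, fun e => ?_, by simpa using hw2 c 0 hdl⟩
    -- the zero vector has the whole group as stabiliser
    have hall : ∀ h : H, h • w c = w c := fun h => by rw [e, smul_zero]
    have : ∀ h : H, D.perm h = 1 := fun h => hS _ ⟨h, rfl⟩ fun x => by
      have := hw1 c c h (hall h) x
      by_cases h1 : D.perm h x ∈ S <;> by_cases h2 : x ∈ S <;> simp [c, h1, h2] at this ⊢
    obtain ⟨-, h3⟩ := odd_labels D hH ht
    obtain ⟨h', hh'⟩ := ht ⟨0, by omega⟩ ⟨1, by omega⟩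
    rw [this h', Equiv.Perm.one_apply] at hh'
    exact absurd (congrArg Fin.val hh') (by norm_num)

/-- **A vector with abelian stabiliser.** -/
theorem exists_dl_one_stabilizer {H V : Type u} [Group H] [Finite H] [Group.IsSolvable H]
    [AddCommGroup V] [DistribMulAction H V] [Finite V] (hs : Semi H V) (hf : Faith H V)
    (hH : Odd (Nat.card H)) (hV : Odd (Nat.card V)) :
    ∃ v : V, DL (MulAction.stabilizer H v) 1 := by
  rcases subsingleton_or_nontrivial V with h | h
  · haveI : Subsingleton H :=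
      ⟨fun a b => (hf a fun v => Subsingleton.elim _ _).trans (hf b fun v => Subsingleton.elim _ _).symm⟩
    exact ⟨0, dl_of_subsingleton 1⟩
  · obtain ⟨v, -, hv⟩ := exists_good_aux _ H V rfl hs hf hH hV Finite.one_lt_card
    exact ⟨v, hv⟩

end CfsgLib.StabLength
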