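import Cfsg.Agent.StabLength.OddBase

/-!
# Fixed points in the primitive case and vectors with small stabiliser

Bounds for the fixed points of elements outside the cyclic normal subgroup and the resulting
counting criteria for vectors whose stabiliser meets the centraliser, or the inner subgroup,
trivially.
-/

set_option autoImplicit false
set_option linter.unusedSectionVars false
set_option linter.style.haveILetI false

namespace CfsgLib.StabLength

open CfsgLib.SolvKGV

universe u v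

/-- Numbers at least one with bounded product have bounded sum. -/
theorem sum_sub_one_le_prod {ι : Type*} (s : Finset ι) (f : ι → ℕ) (h1 : ∀ i, 1 ≤ f i) :
    ∑ i ∈ s, (f i - 1) + 1 ≤ ∏ i ∈ s, f i := by
  classical
  induction s using Finset.induction_on with
  | empty => simp
  | @insert a s has ih =>
    rw [Finset.sum_insert has, Finset.prod_insert has]
    have hp : 1 ≤ ∏ i ∈ s, f i := le_trans (Nat.le_add_left 1 _) ih
    obtain ⟨x, hx⟩ := Nat.exists_eq_add_of_le (h1 a)
    obtain ⟨y, hy⟩ := Nat.exists_eq_add_of_le hp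
    rw [hx] at *
    rw [hy] at ih ⊢
    have : (1 + x) * (1 + y) = 1 + x + y + x * y := by ring
    omega

/-- Three groups suffice. -/
theorem sum_sub_one_le_three {ι : Type*} (s : Finset ι) (f : ι → ℕ) (h1 : ∀ i, 1 ≤ f i) {F V : ℕ}
    (hF : ∀ i ∈ s, f i ≤ F) (hF1 : 1 ≤ F) (hprod : ∏ i ∈ s, f i ≤ V) (hV : V ≤ F * F) :
    ∑ i ∈ s, (f i - 1) ≤ 3 * F := by
  classical
  obtain ⟨t, ht, hmax⟩ := Finset.exists_max_image
    (s.powerset.filter fun t => ∏ i ∈ t, f i ≤ F) Finset.card ⟨∅, by simp [hF1]⟩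
  obtain ⟨hts, htF⟩ := Finset.mem_filter.1 ht
  rw [Finset.mem_powerset] at hts
  have hb : ∀ u : Finset ι, ∏ i ∈ u, f i ≤ F → ∑ i ∈ u, (f i - 1) ≤ F := fun u hu =>
    le_trans (Nat.le_add_right _ 1) ((sum_sub_one_le_prod u f h1).trans hu)
  by_cases hst : s ⊆ t
  · rw [Finset.Subset.antisymm hst hts]
    exact (hb t htF).trans (Nat.le_mul_of_pos_left _ (by norm_num))
  obtain ⟨j, hjs, hjt⟩ := Finset.not_subset.1 hst
  have hlt : F < f j * ∏ i ∈ t, f i := by
    by_contra! hle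
    have hle' := hmax (insert j t) (Finset.mem_filter.2 ⟨Finset.mem_powerset.2
      (Finset.insert_subset hjs hts), by rwa [Finset.prod_insert hjt]⟩)
    rw [Finset.card_insert_of_notMem hjt] at hle'
    omega
  set R := s \ insert j t with hR
  have hsplit : s = insert j t ∪ R := (Finset.union_sdiff_of_subset (Finset.insert_subset hjs hts)).symm
  have hdis : Disjoint (insert j t) R := Finset.disjoint_sdiff
  have hRF : ∏ i ∈ R, f i ≤ F := by
    rw [hsplit, Finset.prod_union hdis, Finset.prod_insert hjt] at hprod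
    refine Nat.le_of_mul_le_mul_left ?_ (show 0 < F by omega)
    exact (Nat.mul_le_mul_right _ hlt.le).trans (hprod.trans hV)
  rw [hsplit, Finset.sum_union hdis, Finset.sum_insert hjt]
  have := hb t htF
  have := hb R hRF
  have := hF j hjs
  omega

variable {H : Type u} [Group H] [Finite H] {V : Type v} [AddCommGroup V] [DistribMulAction H V]
  [Finite V] [Nontrivial V]

/-- The fixed vectors of an element. -/
def fixed (V : Type v) [AddCommGroup V] [DistribMulAction H V] (x : H) : AddSubgroup V where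
  carrier := {v | x • v = v}
  zero_mem' := smul_zero x
  add_mem' {a b} ha hb := by
    show x • (a + b) = a + b
    rw [smul_add, show x • a = a from ha, show x • b = b from hb]
  neg_mem' {a} ha := by
    show x • -a = -a
    rw [smul_neg, show x • a = a from ha]

theorem mem_fixed {x : H} {v : V} : v ∈ fixed V x ↔ x • v = v := Iff.rfl

/-- Vectors moved by `x` as by `a`. -/
def eigen (V : Type v) [AddCommGroup V] [DistribMulAction H V] (x a : H) : AddSubgroup V where
  carrier := {v | x • v = a • v}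
  zero_mem' := by show x • (0 : V) = a • 0; rw [smul_zero, smul_zero]
  add_mem' {v w} hv hw := by
    show x • (v + w) = a • (v + w)
    rw [smul_add, smul_add, show x • v = a • v from hv, show x • w = a • w from hw]
  neg_mem' {v} hv := by
    show x • -v = a • -v
    rw [smul_neg, smul_neg, show x • v = a • v from hv]

theorem mem_eigen {x a : H} {v : V} : v ∈ eigen V x a ↔ x • v = a • v := Iff.rfl

variable (P : Prim H V)

theorem eigen_independent {x : H} (hx : x ∈ Subgroup.centralizer (P.A : Set H)) :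
    ∀ (s : Finset P.A) (w : P.A → V), (∀ a ∈ s, w a ∈ eigen V x (a : H)) →
      ∑ a ∈ s, w a = 0 → ∀ a ∈ s, w a = 0 := by
  classical
  intro s
  induction s using Finset.induction_on with
  | empty => simp
  | @insert l s hl ih =>
    intro w hw hsum
    rw [Finset.sum_insert hl] at hsum
    have hw' : ∀ a ∈ s, (a : H) • w a - (l : H) • w a ∈ eigen V x (a : H) := by
      intro a ha
      have h := mem_eigen.1 (hw a (Finset.mem_insert_of_mem ha))
      have c1 := Subgroup.mem_centralizer_iff.1 hx (a : H) a.2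
      have c2 := Subgroup.mem_centralizer_iff.1 hx (l : H) l.2
      rw [mem_eigen, smul_sub, smul_sub, ← mul_smul x, ← mul_smul x, ← c1, ← c2, mul_smul, mul_smul,
        h, ← mul_smul (l : H), P.comm l l.2 a a.2, mul_smul]
    have hsum' : ∑ a ∈ s, ((a : H) • w a - (l : H) • w a) = 0 := by
      have h1 : x • (w l + ∑ a ∈ s, w a) = (l : H) • (w l + ∑ a ∈ s, w a) := by
        rw [hsum, smul_zero, smul_zero]
      rw [smul_add, smul_add, mem_eigen.1 (hw l (Finset.mem_insert_self _ _)), add_right_inj,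
        Finset.smul_sum, Finset.smul_sum,
        Finset.sum_congr rfl fun a ha => mem_eigen.1 (hw a (Finset.mem_insert_of_mem ha))] at h1
      rw [Finset.sum_sub_distrib, h1, sub_self]
    have hzero : ∀ a ∈ s, w a = 0 := fun a ha => by
      have h := ih _ hw' hsum' a ha
      by_contra hne
      have h1 : ((l : H)⁻¹ * a) • w a = w a := by
        rw [mul_smul, sub_eq_zero.1 h, inv_smul_smul]
      have := P.free _ (P.A.mul_mem (P.A.inv_mem l.2) a.2) _ hne h1
      exact hl ((Subtype.ext (inv_mul_eq_one.1 this) : l = a) ▸ ha)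
    intro a ha
    rcases Finset.mem_insert.1 ha with rfl | h
    · rwa [Finset.sum_eq_zero hzero, add_zero] at hsum
    · exact hzero a h

theorem prod_eigen_le {x : H} (hx : x ∈ Subgroup.centralizer (P.A : Set H)) (s : Finset P.A) :
    ∏ a ∈ s, Nat.card (eigen V x (a : H)) ≤ Nat.card V := by
  classical
  rw [← Finset.prod_coe_sort, ← Nat.card_pi]
  refine Nat.card_le_card_of_injective
    (fun w : ∀ a : s, eigen V x (((a : P.A)) : H) => ∑ a : s, (w a : V)) fun w w' e => ?_
  have e' : ∑ a : s, (w a : V) = ∑ a : s, (w' a : V) := e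
  let d : P.A → V := fun a => if h : a ∈ s then ((w ⟨a, h⟩ : V) - (w' ⟨a, h⟩ : V)) else 0
  have h0 := eigen_independent P hx s d
    (fun a ha => by
      simp only [d, dif_pos ha]
      exact AddSubgroup.sub_mem _ (w ⟨a, ha⟩).2 (w' ⟨a, ha⟩).2)
    (by
      rw [← Finset.sum_coe_sort, Finset.sum_congr rfl (g := fun a : s => (w a : V) - w' a)
        (fun a _ => dif_pos a.2), Finset.sum_sub_distrib, e', sub_self])
  funext a
  have := h0 a a.2
  rw [show d a = (w a : V) - w' a from dif_pos a.2, sub_eq_zero] at this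
  exact Subtype.ext this

theorem fixed_mul_eq_eigen {x : H} (hx : x ∈ Subgroup.centralizer (P.A : Set H)) (a : P.A) :
    fixed V (x * a) = eigen V x ((a⁻¹ : P.A) : H) := by
  ext v
  rw [mem_fixed, mem_eigen, Subgroup.coe_inv, ← Subgroup.mem_centralizer_iff.1 hx a a.2, mul_smul,
    eq_inv_smul_iff]

theorem sum_coset_le {x : H} (hx : x ∈ Subgroup.centralizer (P.A : Set H)) [Fintype P.A] {F : ℕ}
    (hF1 : 1 ≤ F) (hF : ∀ a : P.A, Nat.card (fixed V (x * a)) ≤ F) (hV : Nat.card V ≤ F * F) :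
    ∑ a : P.A, (Nat.card (fixed V (x * a)) - 1) ≤ 3 * F := by
  refine sum_sub_one_le_three Finset.univ _ (fun a => Nat.card_pos) (fun a _ => hF a) hF1 ?_ hV
  rw [Finset.prod_congr rfl fun a _ => by rw [fixed_mul_eq_eigen P hx a]]
  refine (Equiv.prod_comp (Equiv.inv P.A) fun a => Nat.card (eigen V x (a : H))).trans_le ?_
  exact prod_eigen_le P hx _

variable {P}
variable (I : Inner.{u, v} P)

include I in
theorem pow_sq_mem {y : H} (hy : y ∈ I.B) : y ^ (I.M ^ 2) ∈ P.A := by
  haveI := P.normalA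
  have h : (P.A.subgroupOf I.B).index = I.M ^ 2 := by
    have h1 := Subgroup.card_mul_index (P.A.subgroupOf I.B)
    rw [Nat.card_congr (Subgroup.subgroupOfEquivOfLe I.AB).toEquiv, I.card_B] at h1
    exact Nat.eq_of_mul_eq_mul_left Nat.card_pos h1
  have h2 := Subgroup.pow_index_mem (P.A.subgroupOf I.B) (⟨y, hy⟩ : I.B)
  rw [h, Subgroup.mem_subgroupOf, SubmonoidClass.coe_pow] at h2
  exact h2

theorem comm_A {x : H} (hx : x ∈ Subgroup.centralizer (P.A : Set H)) {a : H} (ha : a ∈ P.A) :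
    x * a = a * x :=
  (Subgroup.mem_centralizer_iff.1 hx a ha).symm

include I in
/-- Elements of the centraliser commuting with the inner part modulo `A` are inner. -/
theorem exists_comm_notMem {x : H} (hx : x ∈ Subgroup.centralizer (P.A : Set H)) (hxB : x ∉ I.B) :
    ∃ y ∈ I.B, x * y * x⁻¹ * y⁻¹ ∈ I.B ∧ x * y * x⁻¹ * y⁻¹ ∉ P.A := by
  by_contra! hall
  haveI := P.normalA
  haveI := I.normalB
  have hin : ∀ c : H, ∀ y ∈ I.B, c * y * c⁻¹ * y⁻¹ ∈ I.B := fun c y hy =>
    I.B.mul_mem (I.normalB.conj_mem y hy c) (I.B.inv_mem hy)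
  let C₀ : Subgroup H :=
    { carrier := {c | c ∈ Subgroup.centralizer (P.A : Set H) ∧ ∀ y ∈ I.B, c * y * c⁻¹ * y⁻¹ ∈ P.A}
      one_mem' := ⟨Subgroup.one_mem _, fun y _ => by simp⟩
      mul_mem' := by
        rintro c d ⟨hc, hc'⟩ ⟨hd, hd'⟩
        refine ⟨Subgroup.mul_mem _ hc hd, fun y hy => ?_⟩
        rw [show c * d * y * (c * d)⁻¹ * y⁻¹ =
          (c * (d * y * d⁻¹ * y⁻¹) * c⁻¹) * (c * y * c⁻¹ * y⁻¹) by group]
        exact P.A.mul_mem (P.normalA.conj_mem _ (hd' y hy) c) (hc' y hy)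
      inv_mem' := by
        rintro c ⟨hc, hc'⟩
        refine ⟨Subgroup.inv_mem _ hc, fun y hy => ?_⟩
        rw [show c⁻¹ * y * c⁻¹⁻¹ * y⁻¹ = c⁻¹ * (c * y * c⁻¹ * y⁻¹)⁻¹ * c⁻¹⁻¹ by group]
        exact P.normalA.conj_mem _ (P.A.inv_mem (hc' y hy)) c⁻¹ }
  have hBle : I.B ≤ C₀ := fun b hb => ⟨I.BC hb, I.com b hb⟩
  have hcard : Nat.card C₀ * Nat.card P.A ≤ Nat.card I.B * Nat.card P.A := by
    refine (card_pairing_le P.cyclic C₀ I.B P.A I.AB (fun c hc y hy => hc.2 y hy)
      (fun c hc a ha => comm_A hc.1 ha) (fun c hc a ha => comm_A (I.BC hc) ha)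
      (fun b hb a ha => P.comm b hb a ha) (fun c hc a ha => comm_A hc.1 ha) I.com).trans
      (Nat.mul_le_mul_left _ (Subgroup.card_le_of_le fun c hc => ?_))
    exact I.cenB.le ⟨hc.1.1, hc.2⟩
  have hEq : I.B = C₀ := Subgroup.eq_of_le_of_card_ge hBle
    (Nat.le_of_mul_le_mul_right hcard Nat.card_pos)
  exact hxB (hEq ▸ (⟨hx, fun y hy => hall y hy (hin x y hy)⟩ : x ∈ C₀))

include I in
theorem fixed_inner_pow_le {b : H} (hb : b ∈ I.B) (hbA : b ∉ P.A) {r : ℕ}
    (hr : ∀ s : ℕ, s.Prime → s ∣ I.M → r ≤ s) : Nat.card (fixed V b) ^ r ≤ Nat.card V := by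
  classical
  obtain ⟨y, hy, hne⟩ : ∃ y ∈ I.B, b * y * b⁻¹ * y⁻¹ ≠ 1 := by
    by_contra! hall
    exact hbA (I.cenB.le ⟨I.BC hb, Subgroup.mem_centralizer_iff.2 fun y hy =>
      (mul_inv_eq_iff_eq_mul.1 (mul_inv_eq_one.1 (hall y hy))).symm⟩)
  set z := b * y * b⁻¹ * y⁻¹ with hz
  have hzA : z ∈ P.A := I.com b hb y hy
  have key : ∀ k : ℕ, b * y ^ k = z ^ k * y ^ k * b := by
    intro k
    induction k with
    | zero => simp
    | succ k ih =>
      have e1 : b * y = z * y * b := by rw [hz]; group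
      have e2 : y ^ k * z = z * y ^ k :=
        comm_A (I.BC (I.B.pow_mem hy k)) hzA
      calc b * y ^ (k + 1) = z ^ k * y ^ k * (b * y) := by rw [pow_succ, ← mul_assoc, ih]; group
        _ = z ^ k * (y ^ k * z) * y * b := by rw [e1]; group
        _ = z ^ (k + 1) * y ^ (k + 1) * b := by rw [e2, pow_succ, pow_succ]; group
  have hzM : z ^ (I.M ^ 2) = 1 := by
    have h := key (I.M ^ 2)
    rw [comm_A (I.BC hb) (pow_sq_mem I hy), mul_assoc (z ^ (I.M ^ 2))] at h
    exact mul_eq_right.1 h.symm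
  have hord : r ≤ orderOf z := by
    obtain ⟨s, hs, hsd⟩ := Nat.exists_prime_and_dvd (fun e => hne (orderOf_eq_one_iff.1 e))
    exact (hr s hs (hs.dvd_of_dvd_pow (hsd.trans (orderOf_dvd_of_pow_eq_one hzM)))).trans
      (Nat.le_of_dvd (orderOf_pos z) hsd)
  let g : ℕ → P.A := fun i => ⟨z ^ i, P.A.pow_mem hzA i⟩
  have hginj : Set.InjOn g (Finset.range r) := fun i hi j hj e => by
    simp only [Finset.coe_range, Set.mem_Iio] at hi hj
    exact pow_injOn_Iio_orderOf (hi.trans_le hord) (hj.trans_le hord) (congrArg Subtype.val e)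
  refine le_trans ?_ (prod_eigen_le P (I.BC hb) ((Finset.range r).image g))
  rw [Finset.prod_image hginj]
  have hle : ∀ i, Nat.card (fixed V b) ≤ Nat.card (eigen V b (g i : H)) := by
    intro i
    refine Nat.card_le_card_of_injective (fun u => ⟨y ^ i • (u : V), ?_⟩) fun u u' e =>
      Subtype.ext (MulAction.injective _ (congrArg Subtype.val e))
    rw [mem_eigen, ← mul_smul, key, mul_smul, mem_fixed.1 u.2, mul_smul]
  calc Nat.card (fixed V b) ^ r = ∏ _i ∈ Finset.range r, Nat.card (fixed V b) := by simp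
    _ ≤ _ := Finset.prod_le_prod' fun i _ => hle i

theorem fixed_sq_le (x y : H) :
    Nat.card (fixed V x) ^ 2 ≤ Nat.card V * Nat.card (fixed V (x * y * x⁻¹ * y⁻¹)) := by
  let f : fixed V x × fixed V x →+ V :=
    AddMonoidHom.mk' (fun p => (p.1 : V) - y • (p.2 : V)) fun p q => by
      simp only [Prod.fst_add, Prod.snd_add, AddSubgroup.coe_add, smul_add]; abel
  have h1 : Nat.card f.ker ≤ Nat.card (fixed V (x * y * x⁻¹ * y⁻¹)) := by
    refine Nat.card_le_card_of_injective (fun p => ⟨(p.1.1 : V), ?_⟩) fun p q e => ?_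
    · have hk : (p.1.1 : V) = y • (p.1.2 : V) := sub_eq_zero.1 (AddMonoidHom.mem_ker.1 p.2)
      have hw : x⁻¹ • (p.1.2 : V) = p.1.2 := inv_smul_eq_iff.2 (mem_fixed.1 p.1.2.2).symm
      rw [mem_fixed, mul_smul, mul_smul, mul_smul]
      conv_lhs => rw [hk]
      rw [inv_smul_smul, hw, ← hk]
      exact mem_fixed.1 p.1.1.2
    · have hk : ∀ p : f.ker, (p.1.1 : V) = y • (p.1.2 : V) := fun p =>
        sub_eq_zero.1 (AddMonoidHom.mem_ker.1 p.2)
      have h1 : (p.1.1 : V) = q.1.1 :=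
        congrArg (fun z : fixed V (x * y * x⁻¹ * y⁻¹) => (z : V)) e
      refine Subtype.ext (Prod.ext (Subtype.ext h1) (Subtype.ext (MulAction.injective y ?_)))
      show y • (p.1.2 : V) = y • (q.1.2 : V)
      rw [← hk, ← hk, h1]
  calc Nat.card (fixed V x) ^ 2 = Nat.card (fixed V x × fixed V x) := by rw [Nat.card_prod, sq]
    _ = Nat.card f.range * Nat.card f.ker := by
      rw [AddSubgroup.card_eq_card_quotient_mul_card_addSubgroup f.ker,
        Nat.card_congr (QuotientAddGroup.quotientKerEquivRange f).toEquiv]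
    _ ≤ _ := Nat.mul_le_mul (Nat.card_le_card_of_injective _ Subtype.val_injective) h1

include I in
theorem fixed_outer_pow_le {x : H} (hx : x ∈ Subgroup.centralizer (P.A : Set H)) (hxA : x ∉ P.A)
    {r : ℕ} (hr1 : 1 ≤ r) (hr : ∀ s : ℕ, s.Prime → s ∣ I.M → r ≤ s) :
    Nat.card (fixed V x) ^ (2 * r) ≤ Nat.card V ^ (r + 1) := by
  by_cases hxB : x ∈ I.B
  · have h := fixed_inner_pow_le I hxB hxA hr
    calc Nat.card (fixed V x) ^ (2 * r) = (Nat.card (fixed V x) ^ r) ^ 2 := by rw [← pow_mul, mul_comm]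
      _ ≤ Nat.card V ^ 2 := Nat.pow_le_pow_left h 2
      _ ≤ _ := Nat.pow_le_pow_right Nat.card_pos (by omega)
  · obtain ⟨y, hy, hcB, hcA⟩ := exists_comm_notMem I hx hxB
    have h := fixed_inner_pow_le I hcB hcA hr
    calc Nat.card (fixed V x) ^ (2 * r) = (Nat.card (fixed V x) ^ 2) ^ r := by rw [← pow_mul]
      _ ≤ (Nat.card V * Nat.card (fixed V (x * y * x⁻¹ * y⁻¹))) ^ r :=
          Nat.pow_le_pow_left (fixed_sq_le x y) r
      _ = Nat.card V ^ r * Nat.card (fixed V (x * y * x⁻¹ * y⁻¹)) ^ r := mul_pow _ _ _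
      _ ≤ Nat.card V ^ r * Nat.card V := Nat.mul_le_mul_left _ h
      _ = _ := (pow_succ _ _).symm

include I in
/-- A vector whose stabiliser meets the centraliser trivially. -/
theorem exists_free_centralizer {r : ℕ} (hr1 : 1 ≤ r) (hr : ∀ s : ℕ, s.Prime → s ∣ I.M → r ≤ s)
    (hrm : r ≤ P.m)
    (hnum : (3 * P.A.relIndex (Subgroup.centralizer (P.A : Set H))) ^ (2 * r) <
        (P.p ^ P.e) ^ (P.m * (r - 1))) :
    ∃ v : V, v ≠ 0 ∧ ∀ s : H, s • v = v → s ∈ Subgroup.centralizer (P.A : Set H) → s = 1 := by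
  classical
  haveI := Fintype.ofFinite V
  haveI := P.normalA
  set C := Subgroup.centralizer (P.A : Set H) with hC
  haveI : (P.A.subgroupOf C).Normal := P.normalA.subgroupOf C
  haveI := Fintype.ofFinite (C ⧸ P.A.subgroupOf C)
  haveI := Fintype.ofFinite P.A
  set n := P.e * P.m with hn
  set D := n * (r + 1) / (2 * r) with hD
  have hp1 : 1 < P.p := P.prime.one_lt
  have hAC : P.A ≤ C := fun a ha => Subgroup.mem_centralizer_iff.2 fun b hb => P.comm b hb a ha
  have hrn : r ≤ n := hrm.trans (Nat.le_mul_of_pos_left _ P.e_pos)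
  have hF : ∀ x ∈ C, x ∉ P.A → Nat.card (fixed V x) ≤ P.p ^ D := by
    intro x hx hxA
    obtain ⟨j, -, hj⟩ := (Nat.dvd_prime_pow P.prime).1
      (P.card_eq ▸ (fixed V x).card_addSubgroup_dvd_card)
    have h := fixed_outer_pow_le I hx hxA hr1 hr
    rw [hj, P.card_eq, ← pow_mul, ← pow_mul, Nat.pow_le_pow_iff_right hp1] at h
    rw [hj]
    exact Nat.pow_le_pow_right P.prime.pos ((Nat.le_div_iff_mul_le (by omega)).2 h)
  have hVF : Nat.card V ≤ P.p ^ D * P.p ^ D := by
    rw [P.card_eq, ← pow_add]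
    refine Nat.pow_le_pow_right P.prime.pos ?_
    have h : (n + 1) / 2 * (2 * r) ≤ n * (r + 1) := by
      calc (n + 1) / 2 * (2 * r) = (n + 1) / 2 * 2 * r := by ring
        _ ≤ (n + 1) * r := Nat.mul_le_mul_right _ (Nat.div_mul_le_self _ _)
        _ = n * r + r := by ring
        _ ≤ n * r + n := Nat.add_le_add_left hrn _
        _ = _ := by ring
    have := (Nat.le_div_iff_mul_le (by omega : 0 < 2 * r)).2 h
    omega
  have hout : ∀ z : C ⧸ P.A.subgroupOf C, z ≠ 1 → ∀ a : P.A, ((z.out : C) : H) * a ∉ P.A := by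
    intro z hz a hmem
    apply hz
    rw [← z.out_eq', QuotientGroup.eq_one_iff, Subgroup.mem_subgroupOf]
    simpa using P.A.mul_mem hmem (P.A.inv_mem a.2)
  let S : (C ⧸ P.A.subgroupOf C) → P.A → Finset V := fun z a =>
    Finset.univ.filter fun v => v ≠ 0 ∧ (((z.out : C) : H) * a) • v = v
  have hS : ∀ z a, (S z a).card ≤ Nat.card (fixed V (((z.out : C) : H) * a)) - 1 := by
    intro z a
    rw [Nat.card_eq_fintype_card, ← Finset.card_univ, ← Finset.card_map ⟨Subtype.val, Subtype.val_injective⟩]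
    refine le_trans (Finset.card_le_card ?_) (le_of_eq (Finset.card_erase_of_mem (a := (0 : V)) ?_))
    · intro v hv
      obtain ⟨-, hv0, hv'⟩ := Finset.mem_filter.1 hv
      exact Finset.mem_erase.2 ⟨hv0, Finset.mem_map.2 ⟨⟨v, hv'⟩, Finset.mem_univ _, rfl⟩⟩
    · exact Finset.mem_map.2 ⟨0, Finset.mem_univ _, rfl⟩
  let T := (Finset.univ.erase (1 : C ⧸ P.A.subgroupOf C)).biUnion fun z =>
    Finset.univ.biUnion (S z)
  set N := P.A.relIndex C with hN
  have hNc : Fintype.card (C ⧸ P.A.subgroupOf C) = N := by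
    rw [hN, Subgroup.relIndex, Subgroup.index_eq_card, Nat.card_eq_fintype_card]
  have hNpos : 1 ≤ N := hNc ▸ Fintype.card_pos
  have hT : T.card ≤ (N - 1) * (3 * P.p ^ D) := by
    refine Finset.card_biUnion_le.trans ?_
    refine (Finset.sum_le_card_nsmul _ _ (3 * P.p ^ D) fun z hz => ?_).trans ?_
    · refine Finset.card_biUnion_le.trans ((Finset.sum_le_sum fun a _ => hS z a).trans ?_)
      refine sum_coset_le P (z.out : C).2 (Nat.one_le_pow _ _ P.prime.pos) (fun a => ?_) hVF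
      exact hF _ (C.mul_mem (z.out : C).2 (hAC a.2)) (hout z (Finset.ne_of_mem_erase hz) a)
    · rw [Finset.card_erase_of_mem (Finset.mem_univ _), Finset.card_univ, hNc, smul_eq_mul]
  have hlt : N * (3 * P.p ^ D) < Fintype.card V := by
    rw [← Nat.card_eq_fintype_card, P.card_eq]
    refine lt_of_pow_lt_pow_left₀ (2 * r) (Nat.zero_le _) ?_
    have hDle : D * (2 * r) ≤ n * (r + 1) := Nat.div_mul_le_self _ _
    calc (N * (3 * P.p ^ D)) ^ (2 * r) = (3 * N) ^ (2 * r) * P.p ^ (D * (2 * r)) := by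
          rw [pow_mul P.p D, ← mul_pow]; congr 1; ring
      _ ≤ (3 * N) ^ (2 * r) * P.p ^ (n * (r + 1)) :=
          Nat.mul_le_mul_left _ (Nat.pow_le_pow_right P.prime.pos hDle)
      _ < (P.p ^ P.e) ^ (P.m * (r - 1)) * P.p ^ (n * (r + 1)) :=
          Nat.mul_lt_mul_of_pos_right hnum (pow_pos P.prime.pos _)
      _ = _ := by
          rw [← pow_mul, ← pow_add, ← pow_mul, ← mul_assoc, ← hn, ← mul_add,
            show r - 1 + (r + 1) = 2 * r by omega]
  obtain ⟨v, -, hv⟩ : ∃ v ∈ (Finset.univ : Finset V), v ∉ insert (0 : V) T := by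
    by_contra! hall
    have h1 := Finset.card_le_card (show (Finset.univ : Finset V) ⊆ insert 0 T from hall)
    rw [Finset.card_univ] at h1
    have h2 := h1.trans (Finset.card_insert_le _ _)
    have h3 : (N - 1) * (3 * P.p ^ D) + 1 ≤ N * (3 * P.p ^ D) := by
      have : 1 ≤ 3 * P.p ^ D := Nat.mul_pos (by norm_num) (pow_pos P.prime.pos _)
      obtain ⟨k, hk⟩ := Nat.exists_eq_add_of_le hNpos
      rw [hk, Nat.add_sub_cancel_left, add_mul, one_mul]
      omega
    omega
  rw [Finset.mem_insert, not_or] at hv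
  refine ⟨v, hv.1, fun s hsv hsC => ?_⟩
  by_contra hs1
  by_cases hsA : s ∈ P.A
  · exact hs1 (P.free s hsA v hv.1 hsv)
  set z : C ⧸ P.A.subgroupOf C := QuotientGroup.mk (⟨s, hsC⟩ : C) with hz
  have hz1 : z ≠ 1 := fun e =>
    hsA (Subgroup.mem_subgroupOf.1 ((QuotientGroup.eq_one_iff (⟨s, hsC⟩ : C)).1 e))
  have ha : ((z.out : C) : H)⁻¹ * s ∈ P.A := by
    have h := QuotientGroup.eq.1 (z.out_eq'.trans hz)
    rwa [Subgroup.mem_subgroupOf, Subgroup.coe_mul, Subgroup.coe_inv] at h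
  refine hv.2 (Finset.mem_biUnion.2 ⟨z, Finset.mem_erase.2 ⟨hz1, Finset.mem_univ _⟩,
    Finset.mem_biUnion.2 ⟨⟨_, ha⟩, Finset.mem_univ _, Finset.mem_filter.2
      ⟨Finset.mem_univ _, hv.1, ?_⟩⟩⟩)
  show (((z.out : C) : H) * (((z.out : C) : H)⁻¹ * s)) • v = v
  rwa [mul_inv_cancel_left]

include I in
/-- A vector whose stabiliser meets the inner subgroup trivially. -/
theorem exists_free_inner (hr : ∀ s : ℕ, s.Prime → s ∣ I.M → 3 ≤ s)
    (hnum : I.M ^ 9 < (P.p ^ P.e) ^ (2 * P.m)) :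
    ∃ v : V, v ≠ 0 ∧ ∀ s : H, s • v = v → s ∈ I.B → s = 1 := by
  classical
  haveI := Fintype.ofFinite V
  haveI := P.normalA
  haveI : (P.A.subgroupOf I.B).Normal := P.normalA.subgroupOf I.B
  haveI := Fintype.ofFinite (I.B ⧸ P.A.subgroupOf I.B)
  haveI := Fintype.ofFinite I.B
  haveI := P.cyclic
  haveI := Fintype.ofFinite P.A
  let π : I.B → I.B ⧸ P.A.subgroupOf I.B := fun b => QuotientGroup.mk b
  let Bad : Finset I.B := Finset.univ.filter fun b =>
    (b : H) ∉ P.A ∧ ∃ s : ℕ, s.Prime ∧ s ∣ I.M ∧ (b : H) ^ s = 1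
  have hcardQ : Fintype.card (I.B ⧸ P.A.subgroupOf I.B) = I.M ^ 2 := by
    have h := Subgroup.card_eq_card_quotient_mul_card_subgroup (P.A.subgroupOf I.B)
    rw [Nat.card_congr (Subgroup.subgroupOfEquivOfLe I.AB).toEquiv, I.card_B, mul_comm] at h
    rw [← Nat.card_eq_fintype_card]
    exact (Nat.eq_of_mul_eq_mul_right Nat.card_pos h).symm
  have hfib : ∀ q, (Bad.filter fun b => π b = q).card ≤ I.M := by
    intro q
    rcases (Bad.filter fun b => π b = q).eq_empty_or_nonempty with h | ⟨b₀, hb₀⟩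
    · simp [h]
    obtain ⟨hb₀', hbq⟩ := Finset.mem_filter.1 hb₀
    obtain ⟨-, hb₀A, s, hs, hsM, hb₀s⟩ := Finset.mem_filter.1 hb₀'
    have hsA : ∀ b ∈ Bad.filter (fun b => π b = q),
        (b₀ : H)⁻¹ * b ∈ P.A ∧ ((b₀ : H)⁻¹ * b) ^ s = 1 := by
      intro b hb
      obtain ⟨hb', hbq'⟩ := Finset.mem_filter.1 hb
      obtain ⟨-, hbA, t, ht, htM, hbt⟩ := Finset.mem_filter.1 hb'
      have hA : (b₀ : H)⁻¹ * b ∈ P.A := by
        have h := QuotientGroup.eq.1 (hbq.trans hbq'.symm)
        rwa [Subgroup.mem_subgroupOf, Subgroup.coe_mul, Subgroup.coe_inv] at h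
      have hne : π b₀ ≠ 1 := fun e =>
        hb₀A (Subgroup.mem_subgroupOf.1 ((QuotientGroup.eq_one_iff b₀).1 e))
      have o1 : orderOf (π b₀) = s := by
        haveI := Fact.mk hs
        refine orderOf_eq_prime ?_ hne
        rw [show π b₀ ^ s = π (b₀ ^ s) from (QuotientGroup.mk_pow _ b₀ s).symm,
          show b₀ ^ s = 1 from Subtype.ext (by simpa using hb₀s)]
        rfl
      have o2 : orderOf (π b) = t := by
        haveI := Fact.mk ht
        refine orderOf_eq_prime ?_ (hbq'.trans hbq.symm ▸ hne)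
        rw [show π b ^ t = π (b ^ t) from (QuotientGroup.mk_pow _ b t).symm,
          show b ^ t = 1 from Subtype.ext (by simpa using hbt)]
        rfl
      have hst : s = t := by rw [← o1, ← o2, hbq, hbq']
      refine ⟨hA, ?_⟩
      have hc : Commute (b₀ : H)⁻¹ (b : H) := by
        have h : (b₀ : H) * ((b₀ : H)⁻¹ * b) = (b₀ : H)⁻¹ * b * b₀ := comm_A (I.BC b₀.2) hA
        rw [mul_inv_cancel_left] at h
        show (b₀ : H)⁻¹ * b = b * (b₀ : H)⁻¹
        conv_rhs => rw [h]
        rw [mul_inv_cancel_right]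
      rw [hc.mul_pow, inv_pow, hb₀s, inv_one, one_mul, hst, hbt]
    refine le_trans ?_ (((IsCyclic.card_pow_eq_one_le (α := P.A) hs.pos)).trans
      (Nat.le_of_dvd (by have := I.two_le; omega) hsM))
    refine Finset.card_le_card_of_injOn (fun b => if hb : (b₀ : H)⁻¹ * b ∈ P.A then
      (⟨_, hb⟩ : P.A) else 1) (fun b hb => ?_) (fun b hb b' hb' e => ?_)
    · simp only [dif_pos (hsA b hb).1, Finset.coe_filter, Finset.mem_univ, true_and, Set.mem_ofPred_eq]
      exact Subtype.ext (by simpa using (hsA b hb).2)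
    · simp only [dif_pos (hsA b hb).1, dif_pos (hsA b' hb').1] at e
      exact Subtype.ext (mul_left_cancel (congrArg Subtype.val e))
  have hBad : Bad.card ≤ I.M * I.M ^ 2 := by
    rw [← hcardQ, ← Finset.card_univ]
    exact Finset.card_le_mul_card_image_of_maps_to (fun b _ => Finset.mem_univ (π b)) _
      fun q _ => hfib q
  set n := P.e * P.m with hn
  have hF : ∀ b ∈ Bad, Nat.card (fixed V (b : H)) ≤ P.p ^ (n / 3) := by
    intro b hb
    obtain ⟨-, hbA, -⟩ := Finset.mem_filter.1 hb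
    obtain ⟨j, -, hj⟩ := (Nat.dvd_prime_pow P.prime).1
      (P.card_eq ▸ (fixed V (b : H)).card_addSubgroup_dvd_card)
    have h := fixed_inner_pow_le I b.2 hbA hr
    rw [hj, P.card_eq, ← pow_mul, Nat.pow_le_pow_iff_right P.prime.one_lt] at h
    rw [hj]
    exact Nat.pow_le_pow_right P.prime.pos (by omega)
  let T := Bad.biUnion fun b => (Finset.univ : Finset V).filter fun v => v ≠ 0 ∧ (b : H) • v = v
  have hT : T.card ≤ I.M * I.M ^ 2 * P.p ^ (n / 3) := by
    refine Finset.card_biUnion_le.trans ((Finset.sum_le_card_nsmul _ _ (P.p ^ (n / 3))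
      fun b hb => ?_).trans (by rw [smul_eq_mul]; exact Nat.mul_le_mul_right _ hBad))
    refine le_trans ?_ (hF b hb)
    rw [Nat.card_eq_fintype_card, ← Finset.card_univ,
      ← Finset.card_map ⟨Subtype.val, Subtype.val_injective⟩]
    exact Finset.card_le_card fun v hv =>
      Finset.mem_map.2 ⟨⟨v, (Finset.mem_filter.1 hv).2.2⟩, Finset.mem_univ _, rfl⟩
  have hlt : I.M * I.M ^ 2 * P.p ^ (n / 3) + 1 < Fintype.card V := by
    rw [← Nat.card_eq_fintype_card, P.card_eq]
    have h3 : (I.M * I.M ^ 2 * P.p ^ (n / 3)) < P.p ^ n := by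
      refine lt_of_pow_lt_pow_left₀ 3 (Nat.zero_le _) ?_
      calc (I.M * I.M ^ 2 * P.p ^ (n / 3)) ^ 3 = I.M ^ 9 * P.p ^ (n / 3 * 3) := by ring
        _ ≤ I.M ^ 9 * P.p ^ n :=
            Nat.mul_le_mul_left _ (Nat.pow_le_pow_right P.prime.pos (Nat.div_mul_le_self _ _))
        _ < (P.p ^ P.e) ^ (2 * P.m) * P.p ^ n :=
            Nat.mul_lt_mul_of_pos_right hnum (pow_pos P.prime.pos _)
        _ = _ := by rw [hn]; ring
    refine lt_of_le_of_ne (Nat.succ_le_of_lt h3) fun e => ?_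
    have hp : P.p ∣ I.M * I.M ^ 2 * P.p ^ (n / 3) + 1 := e ▸ dvd_pow_self _ (by
      rw [← hn]; exact Nat.mul_ne_zero (by have := P.e_pos; omega) (by have := P.m_pos; omega))
    have hm : 1 ≤ n / 3 := by
      have h3m : 3 ≤ P.m := by
        obtain ⟨s, hs, hsM⟩ := Nat.exists_prime_and_dvd (by have := I.two_le; omega : I.M ≠ 1)
        exact (hr s hs hsM).trans ((Nat.le_of_dvd (by have := I.two_le; omega) hsM).trans I.le_m)
      have : P.m ≤ n := Nat.le_mul_of_pos_left _ P.e_pos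
      omega
    exact P.prime.one_lt.ne' (Nat.dvd_one.1 ((Nat.dvd_add_right
      (Dvd.dvd.mul_left (dvd_pow_self _ (by omega)) _)).1 hp))
  obtain ⟨v, -, hv⟩ : ∃ v ∈ (Finset.univ : Finset V), v ∉ insert (0 : V) T := by
    by_contra! hall
    have h1 := Finset.card_le_card (show (Finset.univ : Finset V) ⊆ insert 0 T from hall)
    rw [Finset.card_univ] at h1
    have := h1.trans (Finset.card_insert_le _ _)
    omega
  rw [Finset.mem_insert, not_or] at hv
  refine ⟨v, hv.1, fun x hxv hxB => ?_⟩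
  by_contra hx1
  -- an element of prime order in the stabiliser
  obtain ⟨s, hs, hsd⟩ := Nat.exists_prime_and_dvd (fun e => hx1 (orderOf_eq_one_iff.1 e))
  haveI := Fact.mk hs
  obtain ⟨k, hk⟩ := hsd
  have hk0 : k ≠ 0 := by rintro rfl; rw [mul_zero] at hk; exact (orderOf_pos x).ne' hk
  set w := x ^ k with hw
  have hwo : orderOf w = s := by
    rw [hw, orderOf_pow_of_dvd hk0 (hk ▸ dvd_mul_left _ _), hk, Nat.mul_div_cancel _ (Nat.pos_of_ne_zero hk0)]
  have hwB : w ∈ I.B := I.B.pow_mem hxB k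
  have hwv : w • v = v := (MulAction.stabilizer H v).pow_mem (show x ∈ MulAction.stabilizer H v from hxv) k
  have hw1 : w ≠ 1 := fun e => hs.one_lt.ne' (by rw [← hwo, e, orderOf_one])
  have hwA : w ∉ P.A := fun h => hw1 (P.free w h v hv.1 hwv)
  have hsM : s ∣ I.M := by
    have hpi : π ⟨w, hwB⟩ ≠ 1 := fun e =>
      hwA (Subgroup.mem_subgroupOf.1 ((QuotientGroup.eq_one_iff (⟨w, hwB⟩ : I.B)).1 e))
    have ho : orderOf (π ⟨w, hwB⟩) = s := by
      refine orderOf_eq_prime ?_ hpi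
      rw [show π ⟨w, hwB⟩ ^ s = π (⟨w, hwB⟩ ^ s) from (QuotientGroup.mk_pow _ _ s).symm,
        show (⟨w, hwB⟩ : I.B) ^ s = 1 from Subtype.ext (by
          rw [SubmonoidClass.coe_pow, OneMemClass.coe_one, ← hwo]
          exact pow_orderOf_eq_one w)]
      rfl
    have h := orderOf_dvd_natCard (π ⟨w, hwB⟩)
    rw [ho, Nat.card_eq_fintype_card, hcardQ] at h
    exact hs.dvd_of_dvd_pow h
  exact hv.2 (Finset.mem_biUnion.2 ⟨⟨w, hwB⟩, Finset.mem_filter.2 ⟨Finset.mem_univ _, hwA, s, hs, hsM,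
    by rw [← hwo]; exact pow_orderOf_eq_one w⟩, Finset.mem_filter.2 ⟨Finset.mem_univ _, hv.1, hwv⟩⟩)

end CfsgLib.StabLength
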