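import Cfsg.Agent.StabLength.PrimBase
import Cfsg.Agent.StabLength.OddFix

/-!
# Five regular orbits for large inner parts

Outside `A` the fixed vectors of an element are few; for `M` divisible by `2 ^ 8` or by a fourth
power of an odd prime most vectors have a trivial stabiliser.
-/

set_option autoImplicit false
set_option linter.unusedSectionVars false
set_option linter.style.haveILetI false

namespace CfsgLib.StabLength

open CfsgLib.SolvKGV MulAction

universe u

theorem base_three {k : ℕ} (hk : 64 ≤ k) : 781250 * k ^ 8 ≤ 3 ^ (k - 1) := by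
  induction k, hk using Nat.le_induction with
  | base => norm_num
  | succ k hk ih =>
    rw [show k + 1 - 1 = (k - 1) + 1 by omega, pow_succ 3 (k - 1)]
    have h1 : (8 * (k + 1)) ^ 8 ≤ (9 * k) ^ 8 := Nat.pow_le_pow_left (by omega) 8
    rw [mul_pow, mul_pow] at h1
    norm_num at h1
    omega

theorem base_four {k : ℕ} (hk : 40 ≤ k) : 781250 * k ^ 8 ≤ 4 ^ (k - 1) := by
  induction k, hk using Nat.le_induction with
  | base => norm_num
  | succ k hk ih =>
    rw [show k + 1 - 1 = (k - 1) + 1 by omega, pow_succ 4 (k - 1)]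
    have h1 : (8 * (k + 1)) ^ 8 ≤ (9 * k) ^ 8 := Nat.pow_le_pow_left (by omega) 8
    rw [mul_pow, mul_pow] at h1
    norm_num at h1
    omega

/-- The total of the fixed vectors is small. -/
theorem big_count {q e R a b m : ℕ} (hq : 2 ≤ q) (he : e ≤ q) (hab : a + 4 ≤ b) (hbm : b + 1 ≤ m)
    (hR : 2 * R ≤ q ^ (m - b - 1)) :
    4 * (e * ((q - 1) * R)) + 1 + e * ((q - 1) * R) * q ^ a + (q - 1) * R * q ^ b < q ^ m := by
  set C := (q - 1) * R with hC
  rcases Nat.eq_zero_or_pos C with hC0 | hC0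
  · rw [hC0]
    simpa using Nat.one_lt_pow (by omega : m ≠ 0) hq
  have ha1 : 1 ≤ q ^ a := Nat.one_le_pow _ _ (by omega)
  have h4 : 8 * q ^ a ≤ q ^ (b - 1) :=
    calc 8 * q ^ a ≤ q ^ 3 * q ^ a := Nat.mul_le_mul_right _
          (by simpa using Nat.pow_le_pow_left hq 3)
      _ = q ^ (3 + a) := (pow_add _ _ _).symm
      _ ≤ q ^ (b - 1) := Nat.pow_le_pow_right (by omega) (by omega)
  have hb : q ^ b = q * q ^ (b - 1) := by rw [← pow_succ', Nat.sub_add_cancel (by omega)]
  have h1 : 4 * (e * C) + 1 + e * C * q ^ a ≤ C * q ^ b := by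
    rw [hb]
    calc 4 * (e * C) + 1 + e * C * q ^ a ≤ q * C * (8 * q ^ a) := by
          have h5 : e * C ≤ q * C := Nat.mul_le_mul_right _ he
          have h6 : 1 ≤ q * C := Nat.mul_pos (by omega) hC0
          nlinarith
      _ ≤ q * C * q ^ (b - 1) := Nat.mul_le_mul_left _ h4
      _ = C * (q * q ^ (b - 1)) := by ring
  calc 4 * (e * C) + 1 + e * C * q ^ a + C * q ^ b ≤ (q - 1) * (2 * R) * q ^ b := by
        rw [hC] at h1 ⊢
        linarith
    _ < q * q ^ (m - b - 1) * q ^ b := by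
        refine Nat.mul_lt_mul_of_pos_right ?_ (Nat.pow_pos (by omega))
        calc (q - 1) * (2 * R) ≤ (q - 1) * q ^ (m - b - 1) := Nat.mul_le_mul_left _ hR
          _ < q * q ^ (m - b - 1) := Nat.mul_lt_mul_of_pos_right (by omega) (Nat.pow_pos (by omega))
    _ = q ^ m := by rw [← pow_succ', ← pow_add]; congr 1; omega

variable {H : Type u} [Group H] [Finite H] [Group.IsSolvable H] {V : Type u} [AddCommGroup V]
  [DistribMulAction H V] [Finite V] [Nontrivial V]

/-- Elements outside the centraliser fix few vectors. -/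
theorem fixed_sq_le_of_notMem (P : Prim H V) {x : H}
    (hx : x ∉ Subgroup.centralizer (P.A : Set H)) :
    Nat.card (fixed V x) ^ 2 ≤ Nat.card V := by
  obtain ⟨a, ha, hne⟩ : ∃ a ∈ P.A, x * a * x⁻¹ * a⁻¹ ≠ 1 := by
    by_contra! hall
    exact hx (Subgroup.mem_centralizer_iff.2 fun a ha =>
      (mul_inv_eq_iff_eq_mul.1 (mul_inv_eq_one.1 (hall a ha))).symm)
  have hc : x * a * x⁻¹ * a⁻¹ ∈ P.A :=
    P.A.mul_mem (P.normalA.conj_mem a ha x) (P.A.inv_mem ha)
  haveI : Subsingleton (fixed V (x * a * x⁻¹ * a⁻¹)) := ⟨fun u w => Subtype.ext (by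
    have h0 : ∀ z : fixed V (x * a * x⁻¹ * a⁻¹), (z : V) = 0 := fun z => by
      by_contra hz
      exact hne (P.free _ hc _ hz z.2)
    rw [h0 u, h0 w])⟩
  have h := fixed_sq_le (V := V) x a
  rwa [Nat.card_unique (α := fixed V (x * a * x⁻¹ * a⁻¹)), mul_one] at h

/-- Five inequivalent regular vectors, if a count holds. -/
theorem five_regular_of_count {P : Prim H V} (I : SolvKGV.Inner P) {r b : ℕ} (hr1 : 1 ≤ r)
    (hr : ∀ s : ℕ, s.Prime → s ∣ I.M → r ≤ s) (hb : P.m * (r + 1) ≤ 2 * r * b)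
    (hab : (P.m + 1) / 2 + 4 ≤ b) (hbm : b + 1 ≤ P.m)
    (hR : 2 * I.M ^ 8 ≤ (P.p ^ P.e) ^ (P.m - b - 1)) :
    ∃ v : Fin 5 → V, (∀ a b, ∀ g : H, g • v a = v b → a = b) ∧
      ∀ a, v a ≠ 0 ∧ MulAction.stabilizer H (v a) = ⊥ := by
  classical
  haveI := Fintype.ofFinite V
  haveI := Fintype.ofFinite H
  haveI := SolvKGV.isSolvable_range (H := Subgroup.centralizer (P.A : Set H)) I.f
  set C := Subgroup.centralizer (P.A : Set H) with hCdef
  set q := P.p ^ P.e with hq
  set a := (P.m + 1) / 2 with ha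
  have hCle : Nat.card C ≤ (q - 1) * I.M ^ 8 := by
    rw [Subgroup.card_eq_card_quotient_mul_card_subgroup I.f.ker,
      Nat.card_congr (QuotientGroup.quotientKerEquivRange I.f).toEquiv, I.card_kernel, I.card_B]
    have hR6 : Nat.card I.f.range ≤ I.M ^ 6 :=
      (card_le_cube I.semi (faith_units _)).trans_eq (by rw [I.card_W, ← pow_mul])
    have hA : Nat.card P.A ≤ q - 1 := by
      have := P.card_lt
      omega
    calc Nat.card I.f.range * (Nat.card P.A * I.M ^ 2) ≤ I.M ^ 6 * ((q - 1) * I.M ^ 2) :=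
          Nat.mul_le_mul hR6 (Nat.mul_le_mul_right _ hA)
      _ = _ := by ring
  have hHle : Nat.card H ≤ P.e * ((q - 1) * I.M ^ 8) := by
    rw [Subgroup.card_eq_card_quotient_mul_card_subgroup C]
    exact Nat.mul_le_mul P.card_quot hCle
  have hpow : ∀ (x : H) (c k l : ℕ), 0 < k → Nat.card (fixed V x) ^ k ≤ Nat.card V ^ l →
      P.m * l ≤ k * c → Nat.card (fixed V x) ≤ q ^ c := by
    intro x c k l hk h hc
    obtain ⟨j, -, hj⟩ := (Nat.dvd_prime_pow P.prime).1
      (P.card_eq ▸ (fixed V x).card_addSubgroup_dvd_card)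
    rw [hj, P.card_eq, ← pow_mul, ← pow_mul, Nat.pow_le_pow_iff_right P.prime.one_lt] at h
    rw [hj, hq, ← pow_mul]
    refine Nat.pow_le_pow_right P.prime.pos (Nat.le_of_mul_le_mul_right ?_ hk)
    calc j * k ≤ P.e * P.m * l := h
      _ = P.e * (P.m * l) := mul_assoc _ _ _
      _ ≤ P.e * (k * c) := Nat.mul_le_mul_left _ hc
      _ = P.e * c * k := by ring
  -- the vectors fixed by some element outside `A`
  let Out : Finset H := Finset.univ.filter fun x => x ∉ C
  let In : Finset H := Finset.univ.filter fun x => x ∈ C ∧ x ∉ P.A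
  let F : H → Finset V := fun x => Finset.univ.filter fun v => x • v = v
  have hFcard : ∀ x, (F x).card = Nat.card (fixed V x) := fun x => by
    rw [Nat.card_eq_fintype_card]
    exact (Fintype.card_of_subtype _ (fun v => by simp [F, mem_fixed])).symm
  have hOut : (Out.biUnion F).card ≤ Nat.card H * q ^ a := by
    refine Finset.card_biUnion_le.trans ((Finset.sum_le_card_nsmul _ _ (q ^ a) fun x hx => ?_).trans
      (by rw [smul_eq_mul, Nat.card_eq_fintype_card]; exact Nat.mul_le_mul_right _ (Finset.card_le_univ _)))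
    rw [hFcard]
    refine hpow x a 2 1 (by norm_num) ?_ (by omega)
    rw [pow_one]
    exact fixed_sq_le_of_notMem P (Finset.mem_filter.1 hx).2
  have hIn : (In.biUnion F).card ≤ Nat.card C * q ^ b := by
    refine Finset.card_biUnion_le.trans ((Finset.sum_le_card_nsmul _ _ (q ^ b) fun x hx => ?_).trans
      (by
        rw [smul_eq_mul]
        refine Nat.mul_le_mul_right _ (le_trans ?_ (le_of_eq (Nat.card_eq_fintype_card).symm))
        rw [← Finset.card_univ, ← Finset.card_map ⟨Subtype.val, Subtype.val_injective⟩]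
        exact Finset.card_le_card fun x hx =>
          Finset.mem_map.2 ⟨⟨x, (Finset.mem_filter.1 hx).2.1⟩, Finset.mem_univ _, rfl⟩))
    rw [hFcard]
    exact hpow x b (2 * r) (r + 1) (by omega)
      (fixed_outer_pow_le I (Finset.mem_filter.1 hx).2.1 (Finset.mem_filter.1 hx).2.2 hr1 hr) hb
  let Bad : Finset V := insert 0 (Out.biUnion F ∪ In.biUnion F)
  have hBad : Bad.card ≤ Nat.card H * q ^ a + Nat.card C * q ^ b + 1 :=
    (Finset.card_insert_le _ _).trans (Nat.add_le_add_right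
      ((Finset.card_union_le _ _).trans (Nat.add_le_add hOut hIn)) 1)
  have hcount := big_count (two_le_q P) (e_le_q P) hab hbm hR
  obtain ⟨v, hv, hvS⟩ := exists_inequivalent (H := H) (S := Badᶜ) 5 (by
    rw [Finset.card_compl, ← Nat.card_eq_fintype_card, card_eq_q (P := P), ← hq]
    have h1 := Nat.mul_le_mul_right (q ^ a) hHle
    have h2 := Nat.mul_le_mul_right (q ^ b) hCle
    rw [← hq] at hcount
    omega)
  refine ⟨v, hv, fun i => ?_⟩
  have hi := Finset.mem_compl.1 (hvS i)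
  simp only [Bad, Finset.mem_insert, not_or, Finset.mem_union, Finset.mem_biUnion,
    not_exists, not_and] at hi
  refine ⟨hi.1, (Subgroup.eq_bot_iff_forall _).2 fun x hx => ?_⟩
  have hfix : v i ∈ F x := Finset.mem_filter.2 ⟨Finset.mem_univ _, hx⟩
  by_cases hxC : x ∈ C
  · by_cases hxA : x ∈ P.A
    · exact P.free x hxA (v i) hi.1 hx
    · exact absurd hfix (hi.2.2 x (Finset.mem_filter.2 ⟨Finset.mem_univ _, hxC, hxA⟩))
  · exact absurd hfix (hi.2.1 x (Finset.mem_filter.2 ⟨Finset.mem_univ _, hxC⟩))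

/-- Five regular orbits for large inner parts. -/
theorem exists_five_regular (P : Prim H V) (I : SolvKGV.Inner P)
    (hbig : 2 ^ 8 ∣ I.M ∨ ∃ r, r.Prime ∧ 3 ≤ r ∧ r ^ 4 ∣ I.M) :
    ∃ v : Fin 5 → V, (∀ a b, ∀ g : H, g • v a = v b → a = b) ∧
      ∀ a, v a ≠ 0 ∧ MulAction.stabilizer H (v a) = ⊥ := by
  have hM0 : 0 < I.M := by have := I.two_le; omega
  have hm := I.le_m
  have hq2 := two_le_q P
  have hmono : ∀ c d : ℕ, d ≤ P.p ^ P.e → c ≤ P.m / 4 → 781250 * c ^ 8 ≤ d ^ (c - 1) →
      1 ≤ d → I.M ≤ 5 * c → 2 * I.M ^ 8 ≤ (P.p ^ P.e) ^ (P.m - (3 * P.m + 3) / 4 - 1) := by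
    intro c d hd hc h hd1 hMc
    calc 2 * I.M ^ 8 ≤ 2 * (5 * c) ^ 8 := Nat.mul_le_mul_left _ (Nat.pow_le_pow_left hMc 8)
      _ = 781250 * c ^ 8 := by ring
      _ ≤ d ^ (c - 1) := h
      _ ≤ (P.p ^ P.e) ^ (c - 1) := Nat.pow_le_pow_left hd _
      _ ≤ _ := Nat.pow_le_pow_right (by omega) (by omega)
  have htwo : ∀ s : ℕ, s.Prime → s ∣ I.M → 2 ≤ s := fun s hs _ => hs.two_le
  rcases hbig with h8 | ⟨r, hr, hr3, hr4⟩
  · have h256 : 256 ≤ I.M := Nat.le_of_dvd hM0 h8
    have hq3 := prime_le_q I Nat.prime_two ((dvd_pow_self 2 (by norm_num)).trans h8)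
    exact five_regular_of_count I (r := 2) (b := (3 * P.m + 3) / 4) (by norm_num) htwo (by omega)
      (by omega) (by omega)
      (hmono (I.M / 4) 3 (by omega) (by omega) (base_three (by omega)) (by norm_num) (by omega))
  have hrM : r ∣ I.M := (dvd_pow_self r (by norm_num)).trans hr4
  have hq4 := prime_le_q I hr hrM
  have h81 : r ^ 4 ≤ I.M := Nat.le_of_dvd hM0 hr4
  rcases le_or_gt 160 I.M with h160 | h160
  · exact five_regular_of_count I (r := 2) (b := (3 * P.m + 3) / 4) (by norm_num) htwo (by omega)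
      (by omega) (by omega)
      (hmono (I.M / 4) 4 (by omega) (by omega) (base_four (by omega)) (by norm_num) (by omega))
  · obtain rfl : r = 3 := by
      by_contra hne
      have := Nat.pow_le_pow_left (show 4 ≤ r by omega) 4
      norm_num at this
      omega
    obtain ⟨k, hk⟩ := hr4
    norm_num at hk
    have hM : I.M = 81 := by omega
    refine five_regular_of_count I (r := 3) (b := (2 * P.m + 2) / 3) (by norm_num) (fun s hs hd => ?_)
      (by omega) (by omega) (by omega) ?_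
    · rw [hM, show (81 : ℕ) = 3 ^ 4 by norm_num] at hd
      exact ((Nat.prime_dvd_prime_iff_eq hs Nat.prime_three).1 (hs.dvd_of_dvd_pow hd)).ge
    · rw [hM]
      calc 2 * 81 ^ 8 ≤ 4 ^ 26 := by norm_num
        _ ≤ (P.p ^ P.e) ^ 26 := Nat.pow_le_pow_left (by omega) _
        _ ≤ _ := Nat.pow_le_pow_right (by omega) (by omega)

end CfsgLib.StabLength
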