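import Cfsg.Agent.StabLength.PrimBase
import Cfsg.Agent.RegOrbit.Small

/-!
# Orders of small solvable completely reducible linear groups
-/

set_option autoImplicit false
set_option linter.unusedSectionVars false
set_option linter.style.haveILetI false

namespace CfsgLib.StabLength

open CfsgLib.SolvKGV

universe u

/-- The order of solvable completely reducible groups on `q ^ n` vectors is at most `b`. -/
structure OB.{v} (q n b : ℕ) : Prop where
  /-- the bound -/
  le : ∀ {H : Type v} [Group H] [Finite H] [Group.IsSolvable H] {V : Type v} [AddCommGroup V]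
    [DistribMulAction H V] [Finite V],
    Nat.card V = q ^ n → Semi H V → Faith H V → Nat.card H ≤ b

/-- A bound for the order of the outer group with given `M`. -/
structure IB.{v} (M R : ℕ) : Prop where
  /-- the bound -/
  le : ∀ {H : Type v} [Group H] [Finite H] [Group.IsSolvable H] {V : Type v} [AddCommGroup V]
    [DistribMulAction H V] [Finite V] (P : Prim H V) (I : SolvKGV.Inner P),
    I.M = M → Nat.card I.f.range ≤ R

theorem iB_two : IB.{u} 2 6 := by
  refine ⟨fun {H} _ _ _ {V} _ _ _ P I hM => ?_⟩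
  exact card_le_four (faith_units _) (by rw [I.card_W, hM]; rfl)

theorem iB_three : IB.{u} 3 24 := by
  refine ⟨fun {H} _ _ _ {V} _ _ _ P I hM => ?_⟩
  exact StabLength.card_range_le_of_three I hM

theorem iB_four : IB.{u} 4 72 := by
  refine ⟨fun {H} _ _ _ {V} _ _ _ P I hM => ?_⟩
  haveI := SolvKGV.isSolvable_range (H := Subgroup.centralizer (P.A : Set H)) I.f
  exact card_le_sixteen I.semi (faith_units _) (by rw [I.card_W, hM]; rfl)

theorem oB_one {q : ℕ} (hq : q.Prime) : OB.{u} q 1 (q - 1) := by
  refine ⟨fun {H} _ _ _ {V} _ _ _ hV hs hf => ?_⟩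
  rw [pow_one] at hV
  have := card_le_of_prime hf (hV ▸ hq)
  rw [hV] at this
  omega

theorem oB_two_two : OB.{u} 2 2 6 := ⟨fun hV _ hf => card_le_four hf (by rw [hV]; rfl)⟩

theorem oB_two_three : OB.{u} 2 3 21 := ⟨fun hV hs hf => card_le_eight hs hf (by rw [hV]; rfl)⟩

theorem oB_two_four : OB.{u} 2 4 72 := ⟨fun hV hs hf => card_le_sixteen hs hf (by rw [hV]; rfl)⟩

/-- The recursion for the orders. -/
theorem oB_step {q n b : ℕ} (hq : q.Prime) (hn : 2 ≤ n) (F : ℕ → ℕ)
    (hpart : ∀ k, 0 < k → k < n → OB.{u} q k (F k))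
    (hsplit : ∀ k, 0 < k → k < n → F k * F (n - k) ≤ b)
    (hperm : ∀ r, r ∣ n → 2 ≤ r → r.factorial * F (n / r) ^ r ≤ b)
    (hab : ∀ e, e ∣ n → e * (q ^ e - 1) ≤ b)
    (hinner : ∀ e m M, e * m = n → 2 ≤ M → M ≤ m → (∀ r, r.Prime → r ∣ M → r ∣ q ^ e - 1) →
      ∃ R, IB.{u} M R ∧ e * (R * ((q ^ e - 1) * M ^ 2)) ≤ b) : OB.{u} q n b := by
  refine ⟨fun {H} _ _ _ {V} _ _ _ hV hs hf => ?_⟩
  haveI : Nontrivial V := Finite.one_lt_card_iff_nontrivial.1
    (hV ▸ Nat.one_lt_pow (by omega) hq.one_lt)
  by_cases hd : ∃ r, Nonempty (Decomp H V r)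
  · obtain ⟨r, D, hD⟩ := exists_minimal_decomp hd
    have hpartk : ∀ i, ∃ k, 0 < k ∧ k < n ∧ Nat.card (D.part i) = q ^ k := by
      intro i
      obtain ⟨k, -, hk⟩ := (Nat.dvd_prime_pow hq).1 (hV ▸ card_part_dvd D i)
      refine ⟨k, Nat.pos_of_ne_zero fun h0 => ?_, ?_, hk⟩
      · have := D.one_lt_card_part i
        rw [hk, h0, pow_zero] at this
        omega
      · have := D.card_part_lt i
        rw [hk, hV] at this
        exact (Nat.pow_lt_pow_iff_right hq.one_lt).1 this
    choose k hk0 hkn hk using hpartk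
    have h := D.card_le hf (fun i => F (k i)) fun i => by
      haveI := D.isSolvable_map i (⊤ : Subgroup D.perm.ker)
      exact (hpart (k i) (hk0 i) (hkn i)).le (H := (⊤ : Subgroup D.perm.ker).map (D.rep i))
        (V := D.part i) (hk i) (D.semi_rep hs i ⊤) (faith_units _)
    have hsum : ∑ i, k i = n := by
      have e := D.card_eq
      rw [hV, Finset.prod_congr rfl fun i _ => hk i, Finset.prod_pow_eq_pow_sum] at e
      exact (Nat.pow_right_injective hq.two_le e).symm
    rcases hD with ⟨hr, h1⟩ | ⟨htrans, -⟩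
    · subst hr
      haveI : Subsingleton D.perm.range := ⟨fun a c => by
        obtain ⟨_, x, rfl⟩ := a
        obtain ⟨_, y, rfl⟩ := c
        exact Subtype.ext ((h1 x).trans (h1 y).symm)⟩
      rw [Nat.card_unique (α := D.perm.range), one_mul, Fin.prod_univ_two] at h
      rw [Fin.sum_univ_two] at hsum
      refine h.trans ?_
      rw [show k 1 = n - k 0 by omega]
      exact hsplit _ (hk0 0) (hkn 0)
    · let i₀ : Fin r := ⟨0, by have := D.two; omega⟩
      have hall : ∀ i, k i = k i₀ := fun i => by
        obtain ⟨g, rfl⟩ := htrans i₀ i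
        exact Nat.pow_right_injective hq.two_le
          ((hk _).symm.trans ((D.card_part_perm g i₀).trans (hk i₀)))
      rw [Finset.sum_congr rfl fun i _ => hall i, Finset.sum_const, Finset.card_univ,
        Fintype.card_fin, smul_eq_mul] at hsum
      refine h.trans (le_trans ?_ (hperm r ⟨k i₀, hsum.symm⟩ D.two))
      rw [← hsum, Nat.mul_div_cancel_left _ (by have := D.two; omega),
        Finset.prod_congr rfl fun i _ => by rw [hall i], Finset.prod_const, Finset.card_univ,
        Fintype.card_fin]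
      exact Nat.mul_le_mul_right _ D.card_range_le
  · obtain ⟨P⟩ := exists_prim (fun r D => hd ⟨r, ⟨D⟩⟩) hs hf
    obtain ⟨hpq, hem⟩ := prime_mul_eq P.prime hq P.e_pos P.m_pos
      (show P.p ^ (P.e * P.m) = q ^ n by rw [← P.card_eq, hV])
    by_cases hC : Subgroup.centralizer (P.A : Set H) = P.A
    · have hi := P.index_le
      rw [hC] at hi
      have hA : Nat.card P.A ≤ q ^ P.e - 1 := by
        have := P.card_lt
        rw [hpq] at this
        omega
      rw [← P.A.card_mul_index, mul_comm]
      exact (Nat.mul_le_mul hi hA).trans (hab _ ⟨P.m, hem.symm⟩)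
    · obtain ⟨I⟩ := exists_inner P hC
      obtain ⟨R, hR, hb⟩ := hinner P.e P.m I.M hem I.two_le I.le_m fun r hr hrM =>
        (I.prime_dvd r hr hrM).trans (hpq ▸ P.card_dvd)
      refine (card_le_index I R (hR.le P I rfl)).trans ?_
      rw [hpq]
      exact hb

theorem inner_two_fields {e m M n : ℕ} (hem : e * m = n) (hn : n ≤ 8) (hn0 : 0 < n) (hM : 2 ≤ M)
    (hMm : M ≤ m) (hpr : ∀ r, r.Prime → r ∣ M → r ∣ 2 ^ e - 1) :
    M = 3 ∧ e = 2 ∧ 6 ≤ n := by
  have he0 : 0 < e := by
    rcases Nat.eq_zero_or_pos e with rfl | h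
    · simp at hem; omega
    · exact h
  obtain ⟨hM3, he1, h6⟩ := no_inner_two he0 (by omega) hM hMm hpr
  refine ⟨hM3, ?_, by omega⟩
  have h3 : e * 3 ≤ 8 := by
    calc e * 3 ≤ e * m := Nat.mul_le_mul_left _ (by omega)
      _ ≤ 8 := by omega
  omega

/-- The bounds over two elements. -/
def orderTwo (n : ℕ) : ℕ := [1, 1, 6, 21, 72, 155, 1296, 5040, 40320].getD n 1

theorem oB_two : ∀ n, 0 < n → n ≤ 8 → OB.{u} 2 n (orderTwo n) := by
  intro n hn0 hn
  induction n using Nat.strong_induction_on with
  | _ n ih =>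
    rcases (by omega : n = 1 ∨ n = 2 ∨ n = 3 ∨ n = 4 ∨ 5 ≤ n) with rfl | rfl | rfl | rfl | h
    · exact oB_one Nat.prime_two
    · exact oB_two_two
    · exact oB_two_three
    · exact oB_two_four
    refine oB_step Nat.prime_two (by omega) orderTwo (fun k h0 hk => ih k hk h0 (by omega))
      (fun k h0 hk => by interval_cases n <;> interval_cases k <;> decide)
      (fun r hr hr2 => ?_) (fun e he => ?_) fun e m M hem hM hMm hpr => ?_
    · have hrn := Nat.le_of_dvd (by omega) hr
      interval_cases n <;> interval_cases r <;> simp_all [orderTwo, Nat.factorial]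
    · have hen := Nat.le_of_dvd (by omega) he
      interval_cases n <;> interval_cases e <;> simp_all [orderTwo]
    · obtain ⟨rfl, rfl, h6⟩ := inner_two_fields hem hn hn0 hM hMm hpr
      refine ⟨24, iB_three, ?_⟩
      interval_cases n <;> decide

/-- The bounds over three elements. -/
def orderThree (n : ℕ) : ℕ := [1, 2, 48, 96, 4608].getD n 1

theorem oB_three : ∀ n, 0 < n → n ≤ 4 → OB.{u} 3 n (orderThree n) := by
  intro n hn0 hn
  induction n using Nat.strong_induction_on with
  | _ n ih =>
    rcases (by omega : n = 1 ∨ 2 ≤ n) with rfl | h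
    · exact oB_one Nat.prime_three
    refine oB_step Nat.prime_three h orderThree (fun k h0 hk => ih k hk h0 (by omega))
      (fun k h0 hk => by interval_cases n <;> interval_cases k <;> decide)
      (fun r hr hr2 => ?_) (fun e he => ?_) fun e m M hem hM hMm hpr => ?_
    · have hrn := Nat.le_of_dvd (by omega) hr
      interval_cases n <;> interval_cases r <;> simp_all [orderThree, Nat.factorial]
    · have hen := Nat.le_of_dvd (by omega) he
      interval_cases n <;> interval_cases e <;> simp_all [orderThree]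
    · have he4 : e * M ≤ 4 := (Nat.mul_le_mul_left _ hMm).trans (hem ▸ hn)
      have he0 : 0 < e := by
        rcases Nat.eq_zero_or_pos e with rfl | h
        · simp at hem; omega
        · exact h
      have he2 : e ≤ 2 := by nlinarith
      have hM4 : M ≤ 4 := (Nat.le_mul_of_pos_left M he0).trans he4
      interval_cases M
      · refine ⟨6, iB_two, ?_⟩
        interval_cases e <;> interval_cases n <;> simp_all [orderThree] <;> omega
      · exfalso
        have := hpr 3 Nat.prime_three dvd_rfl
        interval_cases e <;> norm_num at this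
      · refine ⟨72, iB_four, ?_⟩
        interval_cases e <;> interval_cases n <;> simp_all [orderThree] <;> omega

variable {X W : Type u} [Group X] [Finite X] [Group.IsSolvable X] [AddCommGroup W]
  [DistribMulAction X W] [Finite W]

theorem card_le_of_sixtyfour (hs : Semi X W) (hf : Faith X W) (hW : Nat.card W = 64) :
    Nat.card X ≤ 1296 :=
  (oB_two 6 (by norm_num) (by norm_num)).le (by rw [hW]; rfl) hs hf

theorem card_le_of_eightyone (hs : Semi X W) (hf : Faith X W) (hW : Nat.card W = 81) :
    Nat.card X ≤ 4608 :=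
  (oB_three 4 (by norm_num) le_rfl).le (by rw [hW]; rfl) hs hf

theorem card_le_of_two_fifty_six (hs : Semi X W) (hf : Faith X W) (hW : Nat.card W = 256) :
    Nat.card X ≤ 40320 :=
  (oB_two 8 (by norm_num) le_rfl).le (by rw [hW]; rfl) hs hf

theorem dl_or_dvd_of_sixtyfour (hs : Semi X W) (hf : Faith X W) (hW : Nat.card W = 64) :
    DL X 4 ∨ Nat.card X ∣ 2592 := by
  have hW' : Nat.card W = 2 ^ 6 := hW.trans (by norm_num)
  haveI : Nontrivial W := Finite.one_lt_card_iff_nontrivial.1 (by omega)
  by_cases hd : ∃ r, Nonempty (Decomp X W r)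
  · refine Or.inl (dl_of_decomp Nat.prime_two twoBound permBound
      (fun k h0 hk => dlB_two k h0 (by omega)) (fun k h0 hk => by interval_cases k <;> decide)
      (fun r hr hr2 => ⟨dlP_le r ((Nat.le_of_dvd (by norm_num) hr).trans (by norm_num)), ?_⟩)
      hW' hs hf hd)
    have := Nat.le_of_dvd (by norm_num) hr
    interval_cases r <;> simp_all [permBound, twoBound]
  obtain ⟨P⟩ := exists_prim (fun r D => hd ⟨r, ⟨D⟩⟩) hs hf
  obtain ⟨hp, hem⟩ := prime_mul_eq P.prime Nat.prime_two P.e_pos P.m_pos
    (show P.p ^ (P.e * P.m) = 2 ^ 6 by rw [← P.card_eq, hW'])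
  by_cases hC : Subgroup.centralizer (P.A : Set X) = P.A
  · exact Or.inl ((dl_two_of_centralizer_eq P hC).mono (by norm_num))
  obtain ⟨I⟩ := exists_inner P hC
  obtain ⟨hM, he, -⟩ := inner_two_fields hem (by norm_num) (by norm_num) I.two_le I.le_m
    fun r hr hrM => (I.prime_dvd r hr hrM).trans (hp ▸ P.card_dvd)
  refine Or.inr ?_
  haveI : Fact (Nat.Prime 3) := ⟨Nat.prime_three⟩
  have hel := elem_of_semi (X := I.f.range) (r := 3) (d := 2)
    (by rw [I.card_W, hM]) I.semi
  letI : Module (ZMod 3) I.W := AddCommGroup.zmodModule (G := I.W) hel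
  have hGL := CfsgLib.RegOrbit.natCard_dvd_GL_module (V := I.W) (r := 3) (d := 2)
    (by rw [I.card_W, hM]) ((Units.coeHom _).comp I.f.range.subtype)
    (Units.val_injective.comp I.f.range.subtype_injective)
  have hq : Nat.card (X ⧸ Subgroup.centralizer (P.A : Set X)) ∣ 2 := by
    have h1 := P.card_quot
    have h2 := Nat.card_pos (α := X ⧸ Subgroup.centralizer (P.A : Set X))
    rcases (by omega : Nat.card (X ⧸ Subgroup.centralizer (P.A : Set X)) = 1 ∨
      Nat.card (X ⧸ Subgroup.centralizer (P.A : Set X)) = 2) with e | e <;> rw [e]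
    exact one_dvd _
  have hN := card_dvd_of_range I hq hGL
  rw [hp, he, hM] at hN
  exact hN.trans (by norm_num [Fin.prod_univ_two])

end CfsgLib.StabLength
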