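import Cfsg.Agent.StabLength.PrimSmall
import Cfsg.Agent.RegOrbit.Small

/-!
# Groups without decomposition: inner parts with `M` equal to `8`, `9` or `16`

The bounds for the order of the outer group are hypotheses.
-/

set_option autoImplicit false
set_option linter.unusedSectionVars false
set_option linter.style.haveILetI false

namespace CfsgLib.StabLength

open CfsgLib.SolvKGV MulAction

universe u

/-- The outer group for a prime power. -/
theorem dInner_pow {r k d : ℕ} (hr : r.Prime) (h : ∀ a, a ≤ 2 * k → DLB.{u} r a d) :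
    DInner.{u} (r ^ k) d := by
  refine dInner_of_primary fun s a hs hd => ?_
  rcases exp_le_of_dvd_pow hs hr (show s ^ a ∣ r ^ (k * 2) by rwa [pow_mul]) with rfl | ⟨rfl, ha⟩
  · exact dlB_zero _ _
  · exact h a (by omega)

theorem dlB_two_le_six {a : ℕ} (ha : a ≤ 8) : DLB.{u} 2 a 6 := by
  rcases Nat.eq_zero_or_pos a with rfl | h0
  · exact dlB_zero _ _
  · exact DLB.mono (dlB_two a h0 (by omega)) (by interval_cases a <;> decide)

theorem dInner_eight : DInner.{u} 8 6 :=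
  dInner_pow (r := 2) (k := 3) Nat.prime_two fun _ ha => dlB_two_le_six (by omega)

theorem dInner_sixteen : DInner.{u} 16 6 :=
  dInner_pow (r := 2) (k := 4) Nat.prime_two fun _ ha => dlB_two_le_six (by omega)

theorem dInner_nine : DInner.{u} 9 5 :=
  dInner_pow (r := 3) (k := 2) Nat.prime_three fun a ha => by
    have : a ≤ 4 := by omega
    exact DLB.mono (dlB_gen Nat.prime_three a (by omega)) (by interval_cases a <;> decide)

/-- The count for more orbits. -/
theorem many_count {k q e m R M : ℕ} (he : e ≤ q) (hq : 2 ≤ q) (hm : M ≤ m) (hM : 3 ≤ M)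
    (h : k * R * M ^ 2 < q ^ (M - 2)) : k * (e * (R * ((q - 1) * M ^ 2))) + 1 < q ^ m := by
  have := two_count (R := k * R) he hq hm hM h
  rw [one_mul] at this
  convert this using 2
  ring

set_option maxRecDepth 8000 in
theorem no_two_orbits_eight {N T : ℕ}
    (h : (N = 2 ^ 12 * 3 ^ 4 ∧ T ∈ [3 ^ 8 - 1, 3 ^ 9 - 1, 3 ^ 10 - 1, 3 ^ 11 - 1]) ∨
      (N = 2 ^ 13 * 3 ^ 4 ∧ T = 5 ^ 8 - 1)) :
    ∀ a : ℕ, a ∣ N → a ≠ T ∧ ¬ (T - a) ∣ N := by
  intro a ha
  have key : ∀ i, i < 14 → ∀ j, j < 5 →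
      (∀ T ∈ [3 ^ 8 - 1, 3 ^ 9 - 1, 3 ^ 10 - 1, 3 ^ 11 - 1],
        2 ^ i * 3 ^ j ≠ T ∧ ¬ (T - 2 ^ i * 3 ^ j) ∣ 2 ^ 12 * 3 ^ 4) ∧
      (2 ^ i * 3 ^ j ≠ 5 ^ 8 - 1 ∧ ¬ (5 ^ 8 - 1 - 2 ^ i * 3 ^ j) ∣ 2 ^ 13 * 3 ^ 4) := by
    decide
  have ha' : a ∣ 2 ^ 13 * 3 ^ 4 := by
    rcases h with ⟨rfl, -⟩ | ⟨rfl, -⟩
    · exact ha.trans (by norm_num)
    · exact ha
  obtain ⟨y, z, hy, hz, rfl⟩ := Nat.dvd_mul.1 ha'
  obtain ⟨i, hi, rfl⟩ := (Nat.dvd_prime_pow Nat.prime_two).1 hy
  obtain ⟨j, hj, rfl⟩ := (Nat.dvd_prime_pow Nat.prime_three).1 hz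
  rcases h with ⟨rfl, hT⟩ | ⟨rfl, rfl⟩
  · exact (key i (by omega) j (by omega)).1 T hT
  · exact (key i (by omega) j (by omega)).2

set_option maxRecDepth 8000 in
theorem no_two_orbits_nine {T : ℕ} (hT : T ∈ [4 ^ 9 - 1, 4 ^ 10 - 1, 4 ^ 11 - 1]) :
    ∀ a : ℕ, a ∣ 2 ^ 10 * 3 ^ 11 * 65 → a ≠ T ∧ ¬ (T - a) ∣ 2 ^ 10 * 3 ^ 11 * 65 := by
  intro a ha
  have key : ∀ z ∈ [1, 5, 13, 65], ∀ i, i < 11 → ∀ j, j < 12 →
      ∀ T ∈ [4 ^ 9 - 1, 4 ^ 10 - 1, 4 ^ 11 - 1],
        2 ^ i * 3 ^ j * z ≠ T ∧ ¬ (T - 2 ^ i * 3 ^ j * z) ∣ 2 ^ 10 * 3 ^ 11 * 65 := by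
    decide
  have h65 : ∀ z, z < 66 → z ∣ 65 → z ∈ [1, 5, 13, 65] := by decide
  obtain ⟨x, z, hx, hz, rfl⟩ := Nat.dvd_mul.1 ha
  obtain ⟨y, w, hy, hw, rfl⟩ := Nat.dvd_mul.1 hx
  obtain ⟨i, hi, rfl⟩ := (Nat.dvd_prime_pow Nat.prime_two).1 hy
  obtain ⟨j, hj, rfl⟩ := (Nat.dvd_prime_pow Nat.prime_three).1 hw
  exact key z (h65 z (Nat.lt_succ_of_le (Nat.le_of_dvd (by norm_num) hz)) hz) i (by omega) j
    (by omega) T hT

variable {H : Type u} [Group H] [Finite H] [Group.IsSolvable H] {V : Type u} [AddCommGroup V]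
  [DistribMulAction H V] [Finite V] [Nontrivial V]

theorem good_of_three {d : ℕ} {P : Prim H V} (I : SolvKGV.Inner P) (hd : DL I.f.range d)
    (h8 : (if P.e = 1 then 0 else 1) + (d + 2) ≤ 8)
    (v : Fin 3 → V) (hv : Ineq H v) (hv0 : ∀ a, v a ≠ 0) : Good H V :=
  good_zero (n := 3) (by norm_num) (by norm_num) ((dl_of_inner I hd).mono h8) v hv hv0
    fun a => (dl_stabilizer I hd (hv0 a)).mono (by omega)

theorem card_quot_dvd {P : Prim H V} (he : P.e ≤ 2) :
    Nat.card (H ⧸ Subgroup.centralizer (P.A : Set H)) ∣ P.e := by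
  have h1 := P.card_quot
  have h2 := Nat.card_pos (α := H ⧸ Subgroup.centralizer (P.A : Set H))
  have h3 := P.e_pos
  rcases (by omega : Nat.card (H ⧸ Subgroup.centralizer (P.A : Set H)) = 1 ∨
    Nat.card (H ⧸ Subgroup.centralizer (P.A : Set H)) = P.e) with e | e <;> rw [e]
  exact one_dvd _

/-- Inner parts with `M = 8`. -/
theorem good_eight {P : Prim H V} (I : SolvKGV.Inner P) (hM : I.M = 8)
    (hR : Nat.card I.f.range ≤ 1296)
    (hdiv : DL I.f.range 4 ∨ Nat.card I.f.range ∣ 2592) : Good H V := by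
  haveI := SolvKGV.isSolvable_range (H := Subgroup.centralizer (P.A : Set H)) I.f
  have hd : DL I.f.range 6 := (hM ▸ dInner_eight).dl P I rfl
  have hd2 := prime_dvd_q I Nat.prime_two (hM ▸ by norm_num)
  have hq2 := two_le_q P
  have hm : 8 ≤ P.m := hM ▸ I.le_m
  rcases le_or_gt 7 (P.p ^ P.e) with h7 | h7
  · have hcount : 4 * (P.e * (1296 * ((P.p ^ P.e - 1) * I.M ^ 2))) + 1 < (P.p ^ P.e) ^ P.m := by
      rw [hM]
      rcases (by omega : P.p ^ P.e = 7 ∨ 9 ≤ P.p ^ P.e) with e | e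
      · rw [e, e_eq_one P e (by norm_num)]
        exact lt_of_lt_of_le (by norm_num) (Nat.pow_le_pow_right (by norm_num) hm)
      · exact many_count (e_le_q P) hq2 hm (by norm_num)
          (lt_of_lt_of_le (by norm_num) (Nat.pow_le_pow_left e _))
    obtain ⟨v, hv, hv0⟩ := exists_nonzero_family (H := H) (k := 4) (card_eq_q (P := P))
      (card_le_index I _ hR) hcount
    exact good_of_family (n := 5) (by norm_num) le_rfl v hv fun a =>
      (dl_stabilizer I hd (hv0 a)).mono (by split_ifs <;> norm_num)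
  have hq : P.p ^ P.e = 3 ∨ P.p ^ P.e = 5 := by omega
  have he : P.e = 1 := by
    rcases hq with e | e
    · exact e_eq_one P e Nat.prime_three
    · exact e_eq_one P e Nat.prime_five
  rcases hdiv with h4 | hdiv
  · exact good_of_dl ((dl_of_inner I h4).mono (by rw [if_pos he]))
  have h8 : (if P.e = 1 then 0 else 1) + (6 + 2) ≤ 8 := by rw [if_pos he]
  have hN := card_dvd_of_range I (card_quot_dvd (by omega)) hdiv
  have hV : Nat.card V = (P.p ^ P.e) ^ P.m := card_eq_q (P := P)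
  suffices h : ∃ v : Fin 3 → V, Ineq H v ∧ ∀ a, v a ≠ 0 by
    obtain ⟨v, hv, hv0⟩ := h
    exact good_of_three I hd h8 v hv hv0
  have hle := card_le_index I _ hR
  rcases hq with e | e <;> rw [e] at hV hN hle <;> rw [he, hM] at hN hle
  · rcases le_or_gt 12 P.m with h12 | h12
    · exact exists_nonzero_family (k := 2) hV hle
        (lt_of_lt_of_le (by norm_num) (Nat.pow_le_pow_right (by norm_num) h12))
    · refine exists_three_of_dvd (N := 2 ^ 12 * 3 ^ 4) (T := 3 ^ P.m - 1) (hN.trans (by norm_num))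
        (by rw [hV, Nat.sub_add_cancel (Nat.one_le_pow _ _ (by norm_num))])
        (no_two_orbits_eight (Or.inl ⟨rfl, ?_⟩))
      interval_cases P.m <;> simp
  · rcases le_or_gt 9 P.m with h9 | h9
    · exact exists_nonzero_family (k := 2) hV hle
        (lt_of_lt_of_le (by norm_num) (Nat.pow_le_pow_right (by norm_num) h9))
    · refine exists_three_of_dvd (N := 2 ^ 13 * 3 ^ 4) (T := 5 ^ 8 - 1) (hN.trans (by norm_num))
        (by rw [hV, show P.m = 8 by omega]; rfl) (no_two_orbits_eight (Or.inr ⟨rfl, rfl⟩))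

/-- Inner parts with `M = 9`. -/
theorem good_nine {P : Prim H V} (I : SolvKGV.Inner P) (hM : I.M = 9)
    (hR : Nat.card I.f.range ≤ 4608) : Good H V := by
  haveI := SolvKGV.isSolvable_range (H := Subgroup.centralizer (P.A : Set H)) I.f
  have hd : DL I.f.range 5 := (hM ▸ dInner_nine).dl P I rfl
  have h8 : (if P.e = 1 then 0 else 1) + (5 + 2) ≤ 8 := by split_ifs <;> norm_num
  have hd3 := prime_dvd_q I Nat.prime_three (hM ▸ by norm_num)
  have hq2 := two_le_q P
  have hm : 9 ≤ P.m := hM ▸ I.le_m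
  have hV : Nat.card V = (P.p ^ P.e) ^ P.m := card_eq_q (P := P)
  suffices h : ∃ v : Fin 3 → V, Ineq H v ∧ ∀ a, v a ≠ 0 by
    obtain ⟨v, hv, hv0⟩ := h
    exact good_of_three I hd h8 v hv hv0
  have hle := card_le_index I _ hR
  rw [hM] at hle
  rcases (by omega : P.p ^ P.e = 4 ∨ P.p ^ P.e = 7 ∨ 8 ≤ P.p ^ P.e) with e | e | e
  · have he2 : P.e ≤ 2 := by
      have h1 : 2 ^ P.e ≤ 2 ^ 2 :=
        (Nat.pow_le_pow_left P.prime.two_le P.e).trans (by rw [e]; norm_num)
      exact (Nat.pow_le_pow_iff_right (by norm_num : 1 < 2)).1 h1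
    rw [e] at hle hV
    rcases le_or_gt 12 P.m with h12 | h12
    · exact exists_nonzero_family (k := 2) hV
        (hle.trans (Nat.mul_le_mul_right _ he2))
        (lt_of_lt_of_le (by norm_num) (Nat.pow_le_pow_right (by norm_num) h12))
    · haveI : Fact (Nat.Prime 3) := ⟨Nat.prime_three⟩
      have hel := elem_of_semi (X := I.f.range) (r := 3) (d := 4)
        (by rw [I.card_W, hM]; norm_num) I.semi
      letI : Module (ZMod 3) I.W := AddCommGroup.zmodModule (G := I.W) hel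
      have hGL := CfsgLib.RegOrbit.natCard_dvd_GL_module (V := I.W) (r := 3) (d := 4)
        (by rw [I.card_W, hM]; norm_num) ((Units.coeHom _).comp I.f.range.subtype)
        (Units.val_injective.comp I.f.range.subtype_injective)
      have hq2' : Nat.card (H ⧸ Subgroup.centralizer (P.A : Set H)) ∣ 2 :=
        (card_quot_dvd he2).trans (by
          have := P.e_pos
          interval_cases P.e <;> norm_num)
      have hN := card_dvd_of_range I hq2' hGL
      rw [hM, e] at hN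
      refine exists_three_of_dvd (N := 2 ^ 10 * 3 ^ 11 * 65) (T := 4 ^ P.m - 1)
        (hN.trans (by simp [Fin.prod_univ_succ]))
        (by rw [hV, Nat.sub_add_cancel (Nat.one_le_pow _ _ (by norm_num))])
        (no_two_orbits_nine ?_)
      interval_cases P.m <;> simp
  · rw [e, e_eq_one P e (by norm_num)] at hle
    rw [e] at hV
    exact exists_nonzero_family (k := 2) hV hle
      (lt_of_lt_of_le (by norm_num) (Nat.pow_le_pow_right (by norm_num) hm))
  · exact exists_nonzero_family (k := 2) hV hle (many_count (e_le_q P) hq2 hm (by norm_num)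
      (lt_of_lt_of_le (by norm_num) (Nat.pow_le_pow_left e _)))

/-- Inner parts with `M = 16` over three elements. -/
theorem good_sixteen {P : Prim H V} (I : SolvKGV.Inner P) (hM : I.M = 16) (hq : P.p ^ P.e = 3)
    (hR : Nat.card I.f.range ≤ 40320) : Good H V := by
  haveI := SolvKGV.isSolvable_range (H := Subgroup.centralizer (P.A : Set H)) I.f
  have hd : DL I.f.range 6 := (hM ▸ dInner_sixteen).dl P I rfl
  have he := e_eq_one P hq Nat.prime_three
  have hV : Nat.card V = (P.p ^ P.e) ^ P.m := card_eq_q (P := P)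
  rw [hq] at hV
  have hle := card_le_index I _ hR
  rw [hM, hq, he] at hle
  obtain ⟨v, hv, hv0⟩ := exists_nonzero_family (k := 2) hV hle
    (lt_of_lt_of_le (by norm_num) (Nat.pow_le_pow_right (by norm_num) (hM ▸ I.le_m : 16 ≤ P.m)))
  exact good_of_three I hd (by rw [if_pos he]) v hv hv0

end CfsgLib.StabLength
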