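import Cfsg.Agent.StabLength.PrimMid
import Cfsg.Agent.StabLength.PrimEight
import Cfsg.Agent.StabLength.Orders
import Cfsg.Agent.StabLength.Big

/-!
# Groups without decomposition have good families
-/

set_option autoImplicit false
set_option linter.unusedSectionVars false
set_option linter.style.haveILetI false

namespace CfsgLib.StabLength

open CfsgLib.SolvKGV MulAction

universe u

variable {H : Type u} [Group H] [Finite H] [Group.IsSolvable H] {V : Type u} [AddCommGroup V]
  [DistribMulAction H V] [Finite V] [Nontrivial V]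

/-- Groups without decomposition have good families. -/
theorem good_of_noDecomp (hnd : NoDecomp H V) (hs : Semi H V) (hf : Faith H V) : Good H V := by
  obtain ⟨P⟩ := exists_prim hnd hs hf
  by_cases hC : Subgroup.centralizer (P.A : Set H) = P.A
  · exact good_of_dl ((dl_two_of_centralizer_eq P hC).mono (by norm_num))
  obtain ⟨I⟩ := exists_inner P hC
  haveI := SolvKGV.isSolvable_range (H := Subgroup.centralizer (P.A : Set H)) I.f
  have hfW : Faith I.f.range I.W := faith_units _
  rcases (by omega : I.M ≤ 7 ∨ I.M = 8 ∨ I.M = 9 ∨ 10 ≤ I.M) with h | h | h | h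
  · exact good_small I h
  · have hW : Nat.card I.W = 64 := by rw [I.card_W, h]; norm_num
    exact good_eight I h (card_le_of_sixtyfour I.semi hfW hW)
      (dl_or_dvd_of_sixtyfour I.semi hfW hW)
  · exact good_nine I h (card_le_of_eightyone I.semi hfW (by rw [I.card_W, h]; norm_num))
  by_cases hbig : 2 ^ 8 ∣ I.M ∨ ∃ r, r.Prime ∧ 3 ≤ r ∧ r ^ 4 ∣ I.M
  · obtain ⟨v, hv, hv0⟩ := exists_five_regular P I hbig
    refine good_of_family (n := 5) (by norm_num) le_rfl v hv fun a => ?_
    rw [(hv0 a).2]
    exact dl_of_subsingleton _
  by_cases h16 : I.M = 16 ∧ P.p ^ P.e = 3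
  · exact good_sixteen I h16.1 h16.2
      (card_le_of_two_fifty_six I.semi hfW (by rw [I.card_W, h16.1]; norm_num))
  exact good_middle I h hbig h16

/-- Some vector has a stabiliser of derived length at most nine. -/
theorem exists_dl_nine_of_semi {H V : Type u} [Group H] [Finite H] [Group.IsSolvable H]
    [AddCommGroup V] [DistribMulAction H V] [Finite V] (hs : Semi H V) (hf : Faith H V) :
    ∃ v : V, DL (stabilizer H v) 9 := by
  rcases subsingleton_or_nontrivial V with h | h
  · haveI : Subsingleton H := ⟨fun a b => by
      rw [hf a fun v => Subsingleton.elim _ _, hf b fun v => Subsingleton.elim _ _]⟩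
    exact ⟨0, dl_of_subsingleton 9⟩
  · exact exists_dl_nine (good_of_prim (fun h1 h2 h3 => good_of_noDecomp h1 h2 h3) _ rfl hs hf)

end CfsgLib.StabLength
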