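import Cfsg.Agent.StabLength.Good
import Mathlib.Algebra.Module.ZMod
import Mathlib.Data.ZMod.Basic

/-!
# From a group with a module to a linear group in the universe of the module
-/

set_option autoImplicit false
set_option linter.style.haveILetI false

namespace CfsgLib.StabLength

open CfsgLib.SolvKGV MulAction

universe u v

variable {G : Type u} [Group G] {V : Type v} [AddCommGroup V] [DistribMulAction G V]

/-- Complete reducibility for subspaces over the prime field. -/
theorem semi_of_submodule {p : ℕ} [Fact p.Prime] [Module (ZMod p) V]
    (hcr : ∀ W : Submodule (ZMod p) V, (∀ (g : G) (w : V), w ∈ W → g • w ∈ W) →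
      ∃ W' : Submodule (ZMod p) V, (∀ (g : G) (w : V), w ∈ W' → g • w ∈ W') ∧ IsCompl W W') :
    Semi G V := by
  intro U hU
  obtain ⟨W', hW', hc⟩ := hcr (AddSubgroup.toZModSubmodule p U) fun g w hw => hU g w hw
  refine ⟨W'.toAddSubgroup, fun g w hw => hW' g w hw, ?_⟩
  have h := (AddSubgroup.toZModSubmodule (M := V) p).symm.isCompl_iff.1 hc
  rwa [OrderIso.symm_apply_apply] at h

/-- The linear group of an action. -/
abbrev linGroup (G : Type u) [Group G] (V : Type v) [AddCommGroup V] [DistribMulAction G V] :
    Subgroup (AddMonoid.End V)ˣ :=
  (repHom G V).range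

theorem faith_linGroup : Faith (linGroup G V) V :=
  faith_units _

theorem semi_linGroup (hs : Semi G V) : Semi (linGroup G V) V :=
  semi_congr (repHom G V).rangeRestrict (repHom G V).rangeRestrict_surjective (fun _ _ => rfl) hs

theorem isSolvable_linGroup [Group.IsSolvable G] : Group.IsSolvable (linGroup G V) :=
  Group.isSolvable_of_surjective (repHom G V).rangeRestrict_surjective

theorem card_linGroup (hf : Faith G V) : Nat.card (linGroup G V) = Nat.card G :=
  (Nat.card_congr (MonoidHom.ofInjective (repHom_injective hf)).toEquiv).symm

/-- Stabilisers in the group and in the linear group. -/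
theorem dl_stabilizer_of_linGroup (hf : Faith G V) {v : V} {n : ℕ}
    (h : DL (stabilizer (linGroup G V) v) n) : DL (stabilizer G v) n := by
  refine h.of_injective
    { toFun := fun g => ⟨(repHom G V).rangeRestrict g, g.2⟩
      map_one' := Subtype.ext (map_one _)
      map_mul' := fun a b => Subtype.ext (map_mul _ _ _) } fun a b e => ?_
  exact Subtype.ext (repHom_injective hf
    (congrArg (fun x : stabilizer (linGroup G V) v => ((x : linGroup G V) : (AddMonoid.End V)ˣ)) e))

end CfsgLib.StabLength
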