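import Cfsg.Agent.StabLength.Decomp
import Cfsg.Agent.Solvable.Basic
import Cfsg.Agent.BaseThree.Main

/-!
# Solvable primitive permutation groups are affine
-/

set_option autoImplicit false
set_option linter.unusedSectionVars false
set_option linter.style.haveILetI false

namespace CfsgLib.StabLength

open CfsgLib.SolvKGV Equiv

/-- The data of an affine permutation group. -/
structure AffineData {Ω : Type} (G : Subgroup (Perm Ω)) where
  /-- the prime -/
  q : ℕ
  /-- the dimension -/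
  k : ℕ
  prime : q.Prime
  one_le : 1 ≤ k
  card_eq : Nat.card Ω = q ^ k
  /-- the translations -/
  W : Type
  [addW : AddCommGroup W]
  [finW : Finite W]
  card_W : Nat.card W = q ^ k
  elem : ∀ w : W, q • w = 0
  /-- the linear group -/
  L : Subgroup (AddMonoid.End W)ˣ
  solvable : Group.IsSolvable L
  semi : Semi L W
  /-- the identification of the points with translations -/
  e : W ≃ Ω
  /-- the linear part of an element fixing the origin -/
  lin : ∀ g ∈ G, g (e 0) = e 0 → ∃ l ∈ L, ∀ w, g (e w) = e (l • w)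
  dl : ∀ d, DL L d → DL G (1 + d)

attribute [instance] AffineData.addW AffineData.finW

theorem exists_affine {Ω : Type} [Finite Ω] [Nontrivial Ω] {G : Subgroup (Perm Ω)}
    (hsol : Group.IsSolvable G) (htrans : ∀ x y : Ω, ∃ g ∈ G, g x = y) (hprim : PrimLabels G) :
    Nonempty (AffineData G) := by
  classical
  haveI := hsol
  haveI : Nontrivial G := by
    obtain ⟨x, y, hxy⟩ := exists_pair_ne Ω
    obtain ⟨g, hg, hgx⟩ := htrans x y
    exact ⟨⟨⟨g, hg⟩, 1, fun e => hxy (by rw [← hgx, show g = 1 from congrArg Subtype.val e]; rfl)⟩⟩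
  obtain ⟨N, hN, hN1, hmin⟩ := Solvable.exists_minimal_normal (G := G)
  have hab := Solvable.mul_comm_of_minimal_normal hN1 hmin
  obtain ⟨q, hq, hpow⟩ := Solvable.exists_prime_pow_eq_one_of_minimal_normal hN1 hmin
  let rel : Setoid Ω :=
    { r := fun x y => ∃ u ∈ N, ((u : G) : Perm Ω) x = y
      iseqv := ⟨fun x => ⟨1, one_mem _, rfl⟩, fun {x y} => fun ⟨u, hu, h⟩ =>
        ⟨u⁻¹, inv_mem hu, by rw [← h]; simp⟩,
        fun {x y z} => fun ⟨u, hu, h⟩ ⟨v, hv, h'⟩ =>
          ⟨v * u, mul_mem hv hu, by rw [Subgroup.coe_mul, Perm.mul_apply, h, h']⟩⟩ }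
  have hNt : ∀ x y : Ω, ∃ u ∈ N, ((u : G) : Perm Ω) x = y := by
    rcases hprim rel (by
      rintro g hg x y ⟨u, hu, h⟩
      exact ⟨⟨g, hg⟩ * u * ⟨g, hg⟩⁻¹, hN.conj_mem u hu _, by simp [h]⟩) with hb | ht
    · obtain ⟨u, hu, hu1⟩ := N.bot_or_exists_ne_one.resolve_left hN1
      exfalso
      refine hu1 (Subtype.ext (Equiv.ext fun x => ?_))
      have h : rel.r x (((u : G) : Perm Ω) x) := ⟨u, hu, rfl⟩
      rw [hb] at h
      exact h.symm
    · exact fun x y => show rel.r x y from Setoid.eq_top_iff.1 ht x y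
  obtain ⟨x₀, -⟩ := exists_pair_ne Ω
  have hfree : ∀ u ∈ N, ∀ x : Ω, ((u : G) : Perm Ω) x = x → u = 1 := by
    intro u hu x hux
    refine Subtype.ext (Equiv.ext fun y => ?_)
    obtain ⟨v, hv, hvx⟩ := hNt x y
    have h1 : ((u * v : G) : Perm Ω) x = ((v * u : G) : Perm Ω) x := by rw [hab u hu v hv]
    simp only [Subgroup.coe_mul, Perm.mul_apply, hux, hvx] at h1
    simpa using h1
  let e : N → Ω := fun u => ((u : G) : Perm Ω) x₀
  have he : Function.Bijective e := by
    refine ⟨fun u v huv => ?_, fun y => ?_⟩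
    · have h1 : (((v : G)⁻¹ * u : G) : Perm Ω) x₀ = x₀ := by
        simp only [Subgroup.coe_mul, Subgroup.coe_inv, Perm.mul_apply]
        rw [show ((u : G) : Perm Ω) x₀ = ((v : G) : Perm Ω) x₀ from huv]
        simp
      exact Subtype.ext (inv_mul_eq_one.1
        (hfree _ (N.mul_mem (N.inv_mem v.2) u.2) x₀ h1)).symm
    · obtain ⟨u, hu, huy⟩ := hNt x₀ y
      exact ⟨⟨u, hu⟩, huy⟩
  letI : CommGroup N :=
    { (inferInstance : Group N) with mul_comm := fun a b => Subtype.ext (hab a a.2 b b.2) }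
  let H : Subgroup G := MulAction.stabilizer G x₀
  let φ : H →* MulAut N := (MulAut.conjNormal (H := N)).comp H.subtype
  have hφv : ∀ (h : H) (u : N), ((φ h u : N) : G) = (h : G) * u * (h : G)⁻¹ := fun h u => rfl
  have heh : ∀ (h : H) (u : N), e (φ h u) = ((h : G) : Perm Ω) (e u) := by
    intro h u
    show (((φ h u : N) : G) : Perm Ω) x₀ = _
    rw [hφv, Subgroup.coe_mul, Subgroup.coe_mul, Subgroup.coe_inv, Perm.mul_apply, Perm.mul_apply,
      Perm.inv_eq_iff_eq.2 (show x₀ = ((h : G) : Perm Ω) x₀ from h.2.symm)]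
  let ψ₀ : H →* AddMonoid.End (Additive N) :=
    { toFun := fun h => (MonoidHom.toAdditive (φ h).toMonoidHom : Additive N →+ Additive N)
      map_one' := AddMonoidHom.ext fun x => by
        show Additive.ofMul (φ 1 x.toMul) = x
        rw [map_one]; rfl
      map_mul' := fun a b => AddMonoidHom.ext fun x => by
        show Additive.ofMul (φ (a * b) x.toMul) = Additive.ofMul (φ a (φ b x.toMul))
        rw [map_mul]; rfl }
  let ψ : H →* (AddMonoid.End (Additive N))ˣ := ψ₀.toHomUnits
  have hψ : ∀ h (u : N), ψ h • Additive.ofMul u = Additive.ofMul (φ h u) := fun h u => rfl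
  have hirr : ∀ U : AddSubgroup (Additive N), IsInv ψ.range U → U = ⊥ ∨ U = ⊤ := by
    intro U hU
    set M : Subgroup N := AddSubgroup.toSubgroup' U
    have hMn : (M.map N.subtype).Normal := by
      refine ⟨fun z hz g => ?_⟩
      obtain ⟨u, hu, rfl⟩ := hz
      obtain ⟨v, hv, hvg⟩ := hNt x₀ ((g : Perm Ω) x₀)
      have hh : v⁻¹ * g ∈ H := by
        show ((v⁻¹ * g : G) : Perm Ω) x₀ = x₀
        rw [Subgroup.coe_mul, Subgroup.coe_inv, Perm.mul_apply, Perm.inv_eq_iff_eq]
        exact hvg.symm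
      refine ⟨φ ⟨_, hh⟩ u, hU ⟨_, ⟨⟨_, hh⟩, rfl⟩⟩ (Additive.ofMul u) hu, ?_⟩
      show ((φ ⟨v⁻¹ * g, hh⟩ u : N) : G) = g * u * g⁻¹
      rw [hφv]
      have hc : v * (v⁻¹ * g * u * (v⁻¹ * g)⁻¹) = (v⁻¹ * g * u * (v⁻¹ * g)⁻¹) * v :=
        hab v hv _ (hφv ⟨_, hh⟩ u ▸ (φ ⟨_, hh⟩ u).2)
      calc v⁻¹ * g * u * (v⁻¹ * g)⁻¹ = v * (v⁻¹ * g * u * (v⁻¹ * g)⁻¹) * v⁻¹ := by
            rw [hc, mul_inv_cancel_right]
        _ = g * u * g⁻¹ := by group
    rcases hmin _ hMn (Subgroup.map_subtype_le M) with h1 | h1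
    · have h2 : M = ⊥ := Subgroup.map_injective N.subtype_injective
        (h1.trans (Subgroup.map_bot _).symm)
      refine Or.inl ((AddSubgroup.eq_bot_iff_forall _).2 fun x hx => ?_)
      have : x.toMul ∈ M := hx
      rw [h2, Subgroup.mem_bot] at this
      exact this
    · have h2 : M = ⊤ := Subgroup.map_injective N.subtype_injective (h1.trans (by
        rw [← MonoidHom.range_eq_map, Subgroup.range_subtype]))
      refine Or.inr (eq_top_iff.2 fun x _ => ?_)
      exact (show x.toMul ∈ M from h2 ▸ Subgroup.mem_top _)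
  have hsemi : Semi ψ.range (Additive N) := by
    intro U hU
    rcases hirr U hU with h | h
    · exact ⟨⊤, fun _ _ _ => AddSubgroup.mem_top _, h ▸ isCompl_bot_top⟩
    · exact ⟨⊥, fun a u hu => by rw [AddSubgroup.mem_bot] at hu ⊢; rw [hu, smul_zero],
        h ▸ isCompl_top_bot⟩
  haveI := Fact.mk hq
  obtain ⟨k, hk⟩ := IsPGroup.iff_card.1
    (fun z => ⟨1, by rw [pow_one]; exact Subtype.ext (hpow z z.2)⟩ : IsPGroup q N)
  have hk1 : 1 ≤ k := by
    by_contra! h0
    rw [Nat.lt_one_iff.1 h0, pow_zero, Subgroup.card_eq_one] at hk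
    exact hN1 hk
  refine ⟨{ q := q, k := k, prime := hq, one_le := hk1
            card_eq := (Nat.card_eq_of_bijective e he).symm.trans hk
            W := Additive N
            card_W := hk
            elem := fun w => ?_
            L := ψ.range
            solvable := Group.isSolvable_of_surjective ψ.rangeRestrict_surjective
            semi := hsemi
            e := Additive.toMul.trans (Equiv.ofBijective e he)
            lin := fun g hg hfix => ?_
            dl := fun d hd => ?_ }⟩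
  · exact congrArg Additive.ofMul (Subtype.ext (hpow _ w.toMul.2))
  · have hh : (⟨g, hg⟩ : G) ∈ H := by
      show g x₀ = x₀
      simpa [e] using hfix
    exact ⟨_, ⟨⟨_, hh⟩, rfl⟩, fun w => (heh ⟨_, hh⟩ w.toMul).symm⟩
  · have hNdl : DL N 1 := dl_one_of_comm fun a b => mul_comm a b
    have hsurj : Function.Surjective ((QuotientGroup.mk' N).comp H.subtype) := by
      intro z
      induction z using QuotientGroup.induction_on with
      | H g =>
        obtain ⟨v, hv, hvg⟩ := hNt x₀ ((g : Perm Ω) x₀)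
        refine ⟨⟨v⁻¹ * g, ?_⟩, ?_⟩
        · show ((v⁻¹ * g : G) : Perm Ω) x₀ = x₀
          rw [Subgroup.coe_mul, Subgroup.coe_inv, Perm.mul_apply, Perm.inv_eq_iff_eq]
          exact hvg.symm
        · refine QuotientGroup.eq.2 ?_
          show (v⁻¹ * g)⁻¹ * g ∈ N
          have h1 : (v⁻¹ * g)⁻¹ * g = g⁻¹ * v * g := by group
          rw [h1]
          simpa using hN.conj_mem v hv g⁻¹
    have hψi : Function.Injective ψ := by
      intro a b hab'
      refine Subtype.ext (Subtype.ext (Equiv.ext fun y => ?_))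
      obtain ⟨u, rfl⟩ := he.2 y
      have := congrArg (fun f : (AddMonoid.End (Additive N))ˣ => f • Additive.ofMul u) hab'
      simp only [hψ] at this
      rw [← heh, ← heh, Additive.ofMul.injective this]
    rw [add_comm]
    exact DL.of_normal N (((hd.of_injective ψ.rangeRestrict fun a b h =>
      hψi (congrArg Subtype.val h))).of_surjective _ hsurj) hNdl

/-- Four points whose common stabiliser is trivial. -/
theorem AffineData.exists_frame {Ω : Type} [Finite Ω] {G : Subgroup (Perm Ω)} (D : AffineData G) :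
    ∃ f : Fin 4 → Ω, ∀ g ∈ G, (∀ i, g (f i) = f i) → g = 1 := by
  haveI := D.solvable
  haveI : FaithfulSMul D.L D.W := ⟨fun {a b} h => Subtype.ext (Units.ext (AddMonoidHom.ext h))⟩
  obtain ⟨u, v, w, h⟩ := BaseThree.exists_triple (A := D.L) (V := D.W) D.solvable fun U hU => by
    obtain ⟨U', h1, h2⟩ := D.semi U hU
    exact ⟨U', h1, h2.inf_eq_bot, h2.sup_eq_top⟩
  refine ⟨![D.e 0, D.e u, D.e v, D.e w], fun g hg hfix => ?_⟩
  obtain ⟨l, hl, hle⟩ := D.lin g hg (hfix 0)
  have hl' : ∀ x, g (D.e x) = D.e x → (⟨l, hl⟩ : D.L) • x = x := fun x hx =>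
    D.e.injective ((hle x).symm.trans hx)
  have h1 := h ⟨l, hl⟩ (hl' u (hfix 1)) (hl' v (hfix 2)) (hl' w (hfix 3))
  refine Equiv.ext fun y => ?_
  obtain ⟨x, rfl⟩ := D.e.surjective y
  rw [hle x, show l = 1 from congrArg Subtype.val h1, one_smul]
  rfl

end CfsgLib.StabLength
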