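import Mathlib.GroupTheory.Solvable
import Mathlib.GroupTheory.PGroup
import Mathlib.GroupTheory.Abelianization.Defs
import Mathlib.Tactic

/-!
# Bounds on the derived length

`DL G n` says that the `n`th term of the derived series of `G` is trivial.
-/

set_option autoImplicit false
set_option linter.style.haveILetI false

namespace CfsgLib.StabLength

open scoped commutatorElement

variable {G G' : Type*} [Group G] [Group G']

/-- The derived length is at most `n`. -/
def DL (G : Type*) [Group G] (n : ℕ) : Prop := derivedSeries G n = ⊥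

theorem DL.mono {n m : ℕ} (h : DL G n) (hnm : n ≤ m) : DL G m :=
  eq_bot_iff.2 ((derivedSeries_antitone G hnm).trans h.le)

theorem DL.of_injective {n : ℕ} (f : G →* G') (hf : Function.Injective f) (h : DL G' n) :
    DL G n := by
  refine Subgroup.map_injective hf ?_
  rw [Subgroup.map_bot]
  exact eq_bot_iff.2 ((map_derivedSeries_le_derivedSeries f n).trans h.le)

theorem DL.of_surjective {n : ℕ} (f : G →* G') (hf : Function.Surjective f) (h : DL G n) :
    DL G' n := by
  show derivedSeries G' n = ⊥
  rw [← map_derivedSeries_eq hf, show derivedSeries G n = ⊥ from h, Subgroup.map_bot]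

theorem DL.congr {n : ℕ} (e : G ≃* G') (h : DL G n) : DL G' n :=
  h.of_surjective e.toMonoidHom e.surjective

theorem DL.subgroup {n : ℕ} (h : DL G n) (K : Subgroup G) : DL K n :=
  h.of_injective K.subtype K.subtype_injective

theorem DL.of_le {n : ℕ} {K L : Subgroup G} (h : DL L n) (hKL : K ≤ L) : DL K n :=
  h.of_injective (Subgroup.inclusion hKL) (Subgroup.inclusion_injective hKL)

theorem derivedSeries_add_le {n : ℕ} {N : Subgroup G} (h : derivedSeries G n ≤ N) :
    ∀ k, derivedSeries G (n + k) ≤ (derivedSeries N k).map N.subtype := by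
  intro k
  induction k with
  | zero => rwa [derivedSeries_zero, ← MonoidHom.range_eq_map, Subgroup.range_subtype]
  | succ k ih =>
    rw [Nat.add_succ, derivedSeries_succ, derivedSeries_succ, Subgroup.map_commutator]
    exact Subgroup.commutator_mono ih ih

theorem DL.of_hom {a b : ℕ} (f : G →* G') (h1 : DL f.range a) (h2 : DL f.ker b) :
    DL G (a + b) := by
  have h : derivedSeries G a ≤ f.ker := by
    intro x hx
    rw [← MonoidHom.ker_rangeRestrict, MonoidHom.mem_ker]
    have h' : f.rangeRestrict x ∈ derivedSeries f.range a :=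
      map_derivedSeries_le_derivedSeries f.rangeRestrict a ⟨x, hx, rfl⟩
    rwa [show derivedSeries f.range a = ⊥ from h1, Subgroup.mem_bot] at h'
  refine eq_bot_iff.2 ((derivedSeries_add_le h b).trans ?_)
  rw [show derivedSeries f.ker b = ⊥ from h2, Subgroup.map_bot]

theorem DL.of_normal {a b : ℕ} (N : Subgroup G) [N.Normal] (h1 : DL (G ⧸ N) a) (h2 : DL N b) :
    DL G (a + b) :=
  DL.of_hom (QuotientGroup.mk' N) (h1.subgroup _) (by rw [QuotientGroup.ker_mk']; exact h2)

theorem DL.of_family {n : ℕ} {ι : Type*} {E : ι → Type*} [∀ i, Group (E i)] (g : ∀ i, G →* E i)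
    (hinj : ∀ x, (∀ i, g i x = 1) → x = 1) (h : ∀ i, DL (g i).range n) : DL G n := by
  refine (Subgroup.eq_bot_iff_forall _).2 fun x hx => hinj x fun i => ?_
  have h' : (g i).rangeRestrict x ∈ derivedSeries (g i).range n :=
    map_derivedSeries_le_derivedSeries (g i).rangeRestrict n ⟨x, hx, rfl⟩
  rw [show derivedSeries (g i).range n = ⊥ from h i, Subgroup.mem_bot] at h'
  exact congrArg Subtype.val h'

theorem dl_one_of_comm (h : ∀ a b : G, a * b = b * a) : DL G 1 := by
  show derivedSeries G 1 = ⊥
  rw [derivedSeries_one, commutator_def, Subgroup.commutator_eq_bot_iff_le_centralizer]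
  exact fun x _ => Subgroup.mem_centralizer_iff.2 fun y _ => h y x

theorem comm_of_dl_one (h : DL G 1) (a b : G) : a * b = b * a := by
  have h' : ⁅(⊤ : Subgroup G), (⊤ : Subgroup G)⁆ = (⊥ : Subgroup G) := by rw [← commutator_def, ← derivedSeries_one]; exact h
  have := Subgroup.commutator_eq_bot_iff_le_centralizer.1 h' (Subgroup.mem_top a)
  exact (Subgroup.mem_centralizer_iff.1 this b (Subgroup.mem_top b)).symm

theorem dl_of_subsingleton [Subsingleton G] (n : ℕ) : DL G n :=
  (Subgroup.eq_bot_iff_forall _).2 fun x _ => Subsingleton.elim x 1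

theorem dl_one_of_card_le [Finite G] (h : Nat.card G ≤ 3) : DL G 1 := by
  refine dl_one_of_comm fun a b => ?_
  haveI : IsCyclic G := by
    have := Nat.card_pos (α := G)
    rcases (by omega : Nat.card G = 1 ∨ Nat.card G = 2 ∨ Nat.card G = 3) with h' | h' | h'
    · haveI := (Nat.card_eq_one_iff_unique.1 h').1
      infer_instance
    · exact isCyclic_of_prime_card (p := 2) h'
    · exact isCyclic_of_prime_card (p := 3) h'
  obtain ⟨g, hg⟩ := IsCyclic.exists_generator (α := G)
  obtain ⟨i, rfl⟩ := Subgroup.mem_zpowers_iff.1 (hg a)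
  obtain ⟨j, rfl⟩ := Subgroup.mem_zpowers_iff.1 (hg b)
  exact Commute.zpow_zpow_self g i j

theorem dl_succ_of_commutator {n : ℕ} (h : DL (commutator G) n) : DL G (1 + n) := by
  refine DL.of_normal (commutator G) (dl_one_of_comm fun a b => ?_) h
  induction a using QuotientGroup.induction_on with
  | H a =>
    induction b using QuotientGroup.induction_on with
    | H b =>
      exact (QuotientGroup.eq).2 (Subgroup.commutator_mem_commutator (H₁ := (⊤ : Subgroup G))
        (H₂ := ⊤) (Subgroup.mem_top b⁻¹) (Subgroup.mem_top a⁻¹) |> fun hc => by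
          rw [commutator_def]
          simpa [commutatorElement_def, mul_assoc, mul_inv_rev] using hc)

theorem two_mul_card_commutator_le [Finite G] [Group.IsSolvable G] [Nontrivial G] :
    2 * Nat.card (commutator G) ≤ Nat.card G := by
  have h : (commutator G).index ≠ 1 := fun e =>
    (Group.IsSolvable.commutator_lt_top_of_nontrivial G).ne (Subgroup.index_eq_one.1 e)
  have h0 : (commutator G).index ≠ 0 := Subgroup.index_ne_zero_of_finite
  rw [← (commutator G).card_mul_index, mul_comm]
  exact Nat.mul_le_mul_left _ (by omega)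

theorem dl_two_of_card_le [Finite G] [Group.IsSolvable G] (h : Nat.card G ≤ 7) : DL G 2 := by
  rcases subsingleton_or_nontrivial G with hG | hG
  · exact dl_of_subsingleton 2
  refine dl_succ_of_commutator (n := 1) (dl_one_of_card_le ?_)
  have := two_mul_card_commutator_le (G := G)
  omega

theorem dl_two_of_card_twelve [Finite G] [Group.IsSolvable G] (h : Nat.card G ≤ 12) : DL G 2 := by
  rcases subsingleton_or_nontrivial G with hG | hG
  · exact dl_of_subsingleton 2
  set N := commutator G
  by_cases h3 : Nat.card N ≤ 3
  · exact dl_succ_of_commutator (n := 1) (dl_one_of_card_le h3)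
  have h6 : 2 * Nat.card N ≤ Nat.card G := two_mul_card_commutator_le
  refine dl_succ_of_commutator (n := 1) (dl_one_of_comm ?_)
  haveI : Fact (Nat.Prime 2) := ⟨Nat.prime_two⟩
  rcases (by omega : Nat.card N = 4 ∨ Nat.card N = 5 ∨ Nat.card N = 6) with hN | hN | hN
  · exact IsPGroup.commutative_of_card_eq_prime_sq (p := 2) hN
  · haveI : Fact (Nat.Prime 5) := ⟨Nat.prime_five⟩
    haveI : IsCyclic N := isCyclic_of_prime_card (p := 5) hN
    exact fun a b => by
      obtain ⟨g, hg⟩ := IsCyclic.exists_generator (α := N)
      obtain ⟨i, rfl⟩ := Subgroup.mem_zpowers_iff.1 (hg a)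
      obtain ⟨j, rfl⟩ := Subgroup.mem_zpowers_iff.1 (hg b)
      exact Commute.zpow_zpow_self g i j
  · have hG' : Nat.card G = 12 := by omega
    by_contra hne
    set T : Subgroup G := (commutator N).map N.subtype with hT
    haveI : T.Normal := by rw [hT]; infer_instance
    have hTc : Nat.card T = Nat.card (commutator N) :=
      Subgroup.card_map_of_injective N.subtype_injective
    haveI : Nontrivial N := Finite.one_lt_card_iff_nontrivial.1 (by omega)
    have h23 : Nat.card (commutator N) = 2 ∨ Nat.card (commutator N) = 3 := by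
      have h1 : Nat.card (commutator N) ∣ 6 := hN ▸ Subgroup.card_subgroup_dvd_card _
      have h2 : 2 * Nat.card (commutator N) ≤ 6 := hN ▸ two_mul_card_commutator_le
      have h4 : Nat.card (commutator N) ≠ 1 := fun e => hne fun a b =>
        comm_of_dl_one (show derivedSeries N 1 = ⊥ by
          rw [derivedSeries_one]; exact Subgroup.card_eq_one.1 e) a b
      have := Nat.card_pos (α := commutator N)
      omega
    rcases h23 with h2 | h3'
    · -- a central subgroup with cyclic quotient
      haveI : Fact (Nat.Prime 3) := ⟨Nat.prime_three⟩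
      have hq : Nat.card (N ⧸ commutator N) = 3 := by
        have := Subgroup.card_eq_card_quotient_mul_card_subgroup (commutator N)
        rw [hN, h2] at this
        omega
      haveI : IsCyclic (N ⧸ commutator N) := isCyclic_of_prime_card hq
      refine hne fun a b => commutative_of_cyclic_center_quotient (QuotientGroup.mk' (commutator N))
        (fun x hx => ?_) a b
      rw [QuotientGroup.ker_mk'] at hx
      refine Subgroup.mem_center_iff.2 fun g => ?_
      obtain ⟨u, v, huv, huniv⟩ := Nat.card_eq_two_iff.1 h2
      have key : ∀ y z : commutator N, y ≠ 1 → z ≠ 1 → y = z := by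
        intro y z hy hz
        have hy' : y ∈ ({u, v} : Set (commutator N)) := huniv ▸ Set.mem_univ y
        have hz' : z ∈ ({u, v} : Set (commutator N)) := huniv ▸ Set.mem_univ z
        have h1' : (1 : commutator N) ∈ ({u, v} : Set (commutator N)) := huniv ▸ Set.mem_univ 1
        simp only [Set.mem_insert_iff, Set.mem_singleton_iff] at hy' hz' h1'
        rcases hy' with rfl | rfl <;> rcases hz' with rfl | rfl <;> rcases h1' with e | e <;>
          first | rfl | exact absurd e.symm hy | exact absurd e.symm hz
      rcases eq_or_ne x 1 with rfl | hx1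
      · rw [mul_one, one_mul]
      have e := key ⟨g * x * g⁻¹, (inferInstance : (commutator N).Normal).conj_mem x hx g⟩ ⟨x, hx⟩
        (fun e => hx1 (conj_eq_one_iff.1 (congrArg Subtype.val e)))
        (fun e => hx1 (congrArg Subtype.val e))
      exact mul_inv_eq_iff_eq_mul.1 (congrArg Subtype.val e)
    · -- the quotient has order four
      have hq : Nat.card (G ⧸ T) = 4 := by
        have := Subgroup.card_eq_card_quotient_mul_card_subgroup T
        rw [hG', hTc, h3'] at this
        omega
      have hle : N ≤ T := by
        rw [show N = ⁅(⊤ : Subgroup G), (⊤ : Subgroup G)⁆ from commutator_def G,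
          Subgroup.commutator_le]
        intro a _ b _
        rw [← QuotientGroup.eq_one_iff, show ((⁅a, b⁆ : G) : G ⧸ T) = ⁅(a : G ⧸ T), (b : G ⧸ T)⁆
          from map_commutatorElement (QuotientGroup.mk' T) a b, commutatorElement_eq_one_iff_mul_comm]
        exact IsPGroup.commutative_of_card_eq_prime_sq (p := 2) hq _ _
      have := Subgroup.card_le_of_le hle
      omega

theorem dl_three_of_card_le [Finite G] [Group.IsSolvable G] (h : Nat.card G ≤ 24) : DL G 3 := by
  rcases subsingleton_or_nontrivial G with hG | hG
  · exact dl_of_subsingleton 3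
  refine dl_succ_of_commutator (n := 2) (dl_two_of_card_twelve ?_)
  have := two_mul_card_commutator_le (G := G)
  omega

end CfsgLib.StabLength
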