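import Cfsg.Agent.StabLength.Tables
import Cfsg.Agent.SolvKGV.OrderBound

/-!
# Colourings of primitive solvable permutation groups with stabilisers of small derived length
-/

set_option autoImplicit false
set_option linter.unusedSectionVars false
set_option linter.style.haveILetI false

namespace CfsgLib.StabLength

open Equiv

variable {Ω : Type} {j : ℕ}

/-- `N` pairwise inequivalent colourings with stabilisers of derived length at most `t`. -/
def Colours (K : Subgroup (Perm Ω)) (j t N : ℕ) : Prop :=
  ∃ c : Fin N → Ω → Fin j, (∀ a b, ∀ g ∈ K, (∀ x, c b (g x) = c a x) → a = b) ∧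
    ∀ a, DL (colourStab K (c a)) t

theorem Colours.mono {K : Subgroup (Perm Ω)} {t t' N : ℕ} (h : Colours K j t N) (ht : t ≤ t') :
    Colours K j t' N :=
  let ⟨c, h1, h2⟩ := h
  ⟨c, h1, fun a => (h2 a).mono ht⟩

/-- Colourings with different class sizes are inequivalent. -/
theorem eq_of_count [Fintype Ω] {c c' : Ω → Fin j} {g : Perm Ω} (h : ∀ x, c' (g x) = c x)
    (i : Fin j) : (Finset.univ.filter fun x => c x = i).card =
      (Finset.univ.filter fun x => c' x = i).card :=
  Finset.card_equiv g fun x => by simp [h x]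

/-- A permutation group whose colour classes include points with trivial common stabiliser. -/
theorem dl_colourStab [Finite Ω] {K : Subgroup (Perm Ω)} (hK : Group.IsSolvable K) (c : Ω → Fin j)
    (T : Set (Fin j)) {t : ℕ} (hfix : ∀ g ∈ K, (∀ x, c x ∈ T → g x = x) → g = 1)
    (hsize : ∀ i ∈ T, ∃ b, DLP (Nat.card {x // c x = i}) b ∧ b ≤ t) : DL (colourStab K c) t := by
  haveI := hK
  haveI : Group.IsSolvable (colourStab K c) := Group.isSolvable_of_isSolvable_injective
    (f := (Subgroup.inclusion (inf_le_left : colourStab K c ≤ K)))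
    (Subgroup.inclusion_injective _)
  let ρ : ∀ i : T, colourStab K c →* Perm {x // c x = (i : Fin j)} := fun i =>
    { toFun := fun g => (g : Perm Ω).subtypePerm fun x => by rw [(mem_colourStab.1 g.2).2 x]
      map_one' := Equiv.ext fun x => rfl
      map_mul' := fun a b => Equiv.ext fun x => rfl }
  refine DL.of_family ρ (fun g hg => Subtype.ext (hfix g (mem_colourStab.1 g.2).1 fun x hx => ?_))
    fun i => ?_
  · exact congrArg (fun σ : Perm {y // c y = c x} => ((σ ⟨x, rfl⟩ : {y // c y = c x}) : Ω))
      (hg ⟨c x, hx⟩)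
  · obtain ⟨b, hb, hbt⟩ := hsize i i.2
    exact (hb _ rfl _ (Group.isSolvable_of_surjective (ρ i).rangeRestrict_surjective)).mono hbt

theorem dlP_le_of {n t : ℕ} (hn : n ≤ 14) (ht : permBound n ≤ t) : ∃ b, DLP n b ∧ b ≤ t :=
  ⟨_, dlP_le n hn, ht⟩

/-- The number of points of each colour. -/
def count [Fintype Ω] (c : Ω → Fin j) (i : Fin j) : ℕ := (Finset.univ.filter fun x => c x = i).card

theorem natCard_fibre [Fintype Ω] (c : Ω → Fin j) (i : Fin j) :
    Nat.card {x // c x = i} = count c i := by
  rw [count, Nat.card_eq_fintype_card, Fintype.card_subtype]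

/-- Few points: explicit colourings suffice. -/
theorem colours_of_explicit {r t N : ℕ} (c : Fin N → Fin r → Fin j)
    (hinj : ∀ a b, (∀ i, count (c a) i = count (c b) i) → a = b)
    (hsize : ∀ a i, count (c a) i ≤ 14 ∧ permBound (count (c a) i) ≤ t)
    {K : Subgroup (Perm (Fin r))} (hK : Group.IsSolvable K) : Colours K j t N :=
  ⟨c, fun a b g _ h => hinj a b fun i => eq_of_count h i, fun a =>
    dl_colourStab hK (c a) Set.univ (fun g _ h => Equiv.ext fun x => h x (Set.mem_univ _))
      fun i _ => by rw [natCard_fibre]; exact dlP_le_of (hsize a i).1 (hsize a i).2⟩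

/-- The colouring given by disjoint classes and a colour for the other points. -/
noncomputable def classColour {k : ℕ} (A : Fin k → Finset Ω) (g : Fin k → Fin j) (e : Fin j)
    (x : Ω) : Fin j :=
  open Classical in if h : ∃ i, x ∈ A i then g h.choose else e

theorem classColour_eq {k : ℕ} {A : Fin k → Finset Ω} {g : Fin k → Fin j} {e : Fin j}
    (hA : ∀ i i', i ≠ i' → Disjoint (A i) (A i')) (hg : Function.Injective g)
    (he : ∀ i, g i ≠ e) (i : Fin k) (x : Ω) : classColour A g e x = g i ↔ x ∈ A i := by
  classical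
  rw [classColour]
  constructor
  · intro h
    by_cases hx : ∃ i, x ∈ A i
    · rw [dif_pos hx] at h
      exact hg h ▸ hx.choose_spec
    · rw [dif_neg hx] at h
      exact absurd h.symm (he i)
  · intro hx
    have h : ∃ i, x ∈ A i := ⟨i, hx⟩
    rw [dif_pos h]
    congr 1
    by_contra hne
    exact Finset.disjoint_left.1 (hA _ _ hne) h.choose_spec hx

theorem classColour_rest {k : ℕ} {A : Fin k → Finset Ω} {g : Fin k → Fin j} {e : Fin j}
    (he : ∀ i, g i ≠ e) (x : Ω) : classColour A g e x = e ↔ ∀ i, x ∉ A i := by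
  classical
  rw [classColour]
  by_cases h : ∃ i, x ∈ A i
  · rw [dif_pos h]
    exact ⟨fun h' => absurd h' (he _), fun h' => absurd h.choose_spec (h' _)⟩
  · rw [dif_neg h]
    exact ⟨fun _ i hi => h ⟨i, hi⟩, fun _ => rfl⟩

/-- The class sizes of `classColour`. -/
def classSizes {k : ℕ} (n : ℕ) (s : Fin k → ℕ) (g : Fin k → Fin j) (e i : Fin j) : ℕ :=
  (∑ a, if g a = i then s a else 0) + if e = i then n - ∑ a, s a else 0

theorem count_classColour [Fintype Ω] {k : ℕ} {A : Fin k → Finset Ω} {g : Fin k → Fin j} {e : Fin j}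
    (hA : ∀ i i', i ≠ i' → Disjoint (A i) (A i')) (hg : Function.Injective g)
    (he : ∀ i, g i ≠ e) (i : Fin j) :
    count (classColour A g e) i = classSizes (Fintype.card Ω) (fun a => (A a).card) g e i := by
  classical
  have hga : ∀ a, count (classColour A g e) (g a) = (A a).card := fun a => by
    rw [count]
    congr 1
    ext x
    simp [classColour_eq hA hg he a x]
  rw [classSizes]
  by_cases h : ∃ a, g a = i
  · obtain ⟨a, rfl⟩ := h
    rw [if_neg (he a).symm, add_zero, hga, Finset.sum_eq_single a]
    · rw [if_pos rfl]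
    · exact fun b _ hb => if_neg fun e' => hb (hg e')
    · simp
  · rw [Finset.sum_eq_zero fun a _ => if_neg fun e' => h ⟨a, e'⟩, zero_add]
    by_cases hi : e = i
    · subst hi
      rw [if_pos rfl, count, show (Finset.univ.filter fun x => classColour A g e x = e) =
        (Finset.univ.biUnion A)ᶜ by ext x; simp [classColour_rest he x],
        Finset.card_compl, Finset.card_biUnion (fun a _ b _ hab => hA a b hab)]
    · rw [if_neg hi, count, Finset.card_eq_zero, Finset.filter_eq_empty_iff]
      intro x _ hx
      by_cases h' : ∃ a, x ∈ A a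
      · obtain ⟨a, ha⟩ := h'
        exact h ⟨a, ((classColour_eq hA hg he a x).2 ha).symm.trans hx⟩
      · exact hi (((classColour_rest he x).2 fun a ha => h' ⟨a, ha⟩).symm.trans hx)

theorem classSizes_cap {k n₀ n : ℕ} {s : Fin k → ℕ} {g : Fin k → Fin j} {e : Fin j}
    (hg : Function.Injective g) (he : ∀ i, g i ≠ e) (hn : n₀ ≤ n)
    (hcap : ∀ i, (∑ a, s a) + s i ≤ n₀) (i : Fin j) :
    min (classSizes n s g e i) (n₀ - ∑ a, s a) = classSizes n₀ s g e i := by
  rw [classSizes, classSizes]
  by_cases hi : e = i
  · subst hi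
    rw [Finset.sum_eq_zero fun a _ => if_neg (he a), if_pos rfl, if_pos rfl]
    omega
  · rw [if_neg hi, if_neg hi, add_zero, min_eq_left]
    by_cases h : ∃ a, g a = i
    · obtain ⟨a, rfl⟩ := h
      rw [Finset.sum_eq_single a (fun b _ hb => if_neg fun e' => hb (hg e')) (by simp), if_pos rfl]
      have := hcap a
      omega
    · rw [Finset.sum_eq_zero fun a _ => if_neg fun e' => h ⟨a, e'⟩]
      exact Nat.zero_le _

/-- Colourings by small classes containing points with trivial common stabiliser. -/
theorem colours_of_classes [Fintype Ω] {K : Subgroup (Perm Ω)} (hK : Group.IsSolvable K)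
    {N k t : ℕ} (A : Fin k → Finset Ω) (hA : ∀ i i', i ≠ i' → Disjoint (A i) (A i'))
    (hfix : ∀ g ∈ K, (∀ i, ∀ x ∈ A i, g x = x) → g = 1)
    (s : Fin k → ℕ) (hs : ∀ i, (A i).card = s i) (hsize : ∀ i, s i ≤ 14 ∧ permBound (s i) ≤ t)
    (n₀ : ℕ) (hn : n₀ ≤ Fintype.card Ω) (hcap : ∀ i, (∑ a, s a) + s i ≤ n₀)
    (g : Fin N → Fin k → Fin j) (e : Fin N → Fin j) (hg : ∀ a, Function.Injective (g a))
    (he : ∀ a i, g a i ≠ e a)
    (hinj : ∀ a b, (∀ i, classSizes n₀ s (g a) (e a) i = classSizes n₀ s (g b) (e b) i) → a = b) :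
    Colours K j t N := by
  classical
  refine ⟨fun a => classColour A (g a) (e a), fun a b p _ h => hinj a b fun i => ?_, fun a =>
    dl_colourStab hK _ (Set.range (g a)) (fun p hp hf => hfix p hp fun i x hx =>
      hf x ⟨i, ((classColour_eq hA (hg a) (he a) i x).2 hx).symm⟩) ?_⟩
  · rw [← classSizes_cap (hg a) (he a) hn hcap i, ← classSizes_cap (hg b) (he b) hn hcap i,
      ← funext hs, ← count_classColour hA (hg a) (he a), ← count_classColour hA (hg b) (he b),
      show count _ i = count _ i from eq_of_count h i]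
  · rintro _ ⟨i, rfl⟩
    have hc : Nat.card {x // classColour A (g a) (e a) x = g a i} = (A i).card := by
      rw [Nat.card_eq_fintype_card, Fintype.card_subtype]
      congr 1
      ext x
      simp [classColour_eq hA (hg a) (he a) i x]
    rw [hc]
    rw [hs i]
    exact dlP_le_of (hsize i).1 (hsize i).2

/-- The number of colourings needed from `j` colours. -/
def target (j r : ℕ) : ℕ × ℕ :=
  if j = 2 then (if r = 2 then (1, 3) else if r = 3 then (2, 4) else (3, 5)) else (5 - j, 5)

theorem colours_small {r : ℕ} (hr : 2 ≤ r) (hr4 : r ≤ 4) (hj : 2 ≤ j) (hj5 : j ≤ 5)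
    {K : Subgroup (Perm (Fin r))} (hK : Group.IsSolvable K) :
    Colours K j (target j r).1 (target j r).2 := by
  interval_cases j <;> interval_cases r
  · exact colours_of_explicit ![![0, 0], ![0, 1], ![1, 1]] (by decide) (by decide) hK
  · exact colours_of_explicit ![![0, 0, 0], ![0, 0, 1], ![0, 1, 1], ![1, 1, 1]]
      (by decide) (by decide) hK
  · exact colours_of_explicit
      ![![0, 0, 0, 0], ![0, 0, 0, 1], ![0, 0, 1, 1], ![0, 1, 1, 1], ![1, 1, 1, 1]]
      (by decide) (by decide) hK
  · exact colours_of_explicit ![![0, 0], ![0, 1], ![0, 2], ![1, 1], ![1, 2]]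
      (by decide) (by decide) hK
  · exact colours_of_explicit ![![0, 0, 0], ![0, 0, 1], ![0, 0, 2], ![0, 1, 1], ![0, 1, 2]]
      (by decide) (by decide) hK
  · exact colours_of_explicit
      ![![0, 0, 1, 1], ![0, 0, 2, 2], ![0, 1, 1, 1], ![0, 2, 2, 2], ![0, 0, 1, 2]]
      (by decide) (by decide) hK
  · exact colours_of_explicit ![![0, 0], ![0, 1], ![0, 2], ![0, 3], ![1, 1]]
      (by decide) (by decide) hK
  · exact colours_of_explicit ![![0, 0, 1], ![0, 0, 2], ![0, 0, 3], ![0, 1, 1], ![0, 1, 2]]
      (by decide) (by decide) hK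
  · exact colours_of_explicit
      ![![0, 0, 1, 1], ![0, 0, 2, 2], ![0, 0, 3, 3], ![1, 1, 2, 2], ![1, 1, 3, 3]]
      (by decide) (by decide) hK
  · exact colours_of_explicit ![![0, 1], ![0, 2], ![0, 3], ![0, 4], ![1, 2]]
      (by decide) (by decide) hK
  · exact colours_of_explicit ![![0, 1, 2], ![0, 1, 3], ![0, 1, 4], ![0, 2, 3], ![0, 2, 4]]
      (by decide) (by decide) hK
  · exact colours_of_explicit
      ![![0, 1, 2, 3], ![0, 1, 2, 4], ![0, 1, 3, 4], ![0, 2, 3, 4], ![1, 2, 3, 4]]
      (by decide) (by decide) hK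

theorem AffineData.eq_one_of_fix_two [Finite Ω] {K : Subgroup (Perm Ω)}
    (htrans : ∀ x y : Ω, ∃ g ∈ K, g x = y) (D : AffineData K) (hk : D.k = 1) {x y : Ω}
    (hxy : x ≠ y) {g : Perm Ω} (hg : g ∈ K) (hx : g x = x) (hy : g y = y) : g = 1 := by
  obtain ⟨p, hp, hpx⟩ := htrans (D.e 0) x
  obtain ⟨l, hl, hle⟩ := D.lin (p⁻¹ * g * p) (mul_mem (mul_mem (inv_mem hp) hg) hp) (by
    rw [Perm.mul_apply, Perm.mul_apply, hpx, hx, Perm.inv_eq_iff_eq, hpx])
  obtain ⟨w, hw⟩ := D.e.surjective (p⁻¹ y)
  have hw0 : w ≠ 0 := by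
    rintro rfl
    exact hxy (by rw [← hpx, hw]; simp)
  have hlw : l • w = w := D.e.injective (by
    rw [← hle, hw, Perm.mul_apply, Perm.mul_apply, ← Perm.mul_apply p, mul_inv_cancel,
      Perm.one_apply, hy])
  have hc : Nat.card D.W = D.q := by rw [D.card_W, hk, pow_one]
  haveI := Fact.mk D.prime
  have hl1 : ∀ z : D.W, l • z = z := by
    intro z
    obtain ⟨i, rfl⟩ := AddSubgroup.mem_zmultiples_iff.1
      (mem_zmultiples_of_prime_card hc hw0 (g' := z))
    rw [smul_comm, hlw]
  have h1 : p⁻¹ * g * p = 1 := Equiv.ext fun z => by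
    obtain ⟨v, rfl⟩ := D.e.surjective z
    rw [hle, hl1]; rfl
  calc g = p * (p⁻¹ * g * p) * p⁻¹ := by group
    _ = 1 := by rw [h1]; group

/-- **Colourings.** -/
theorem colours_of_primitive {r : ℕ} (hr : 2 ≤ r) (hj : 2 ≤ j) (hj5 : j ≤ 5)
    {K : Subgroup (Perm (Fin r))} (hK : Group.IsSolvable K)
    (htrans : ∀ x y, ∃ g ∈ K, g x = y) (hprim : PrimLabels K) :
    Colours K j (target j r).1 (target j r).2 := by
  classical
  rcases le_or_gt r 4 with h4 | h5
  · exact colours_small hr h4 hj hj5 hK
  haveI : Nontrivial (Fin r) := Fin.nontrivial_iff_two_le.2 hr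
  obtain ⟨D⟩ := exists_affine hK htrans hprim
  have hcard : Fintype.card (Fin r) = r := Fintype.card_fin r
  have hsub : ∀ (s : ℕ) (F : Finset (Fin r)), F.card ≤ s → s ≤ r →
      ∃ S : Finset (Fin r), F ⊆ S ∧ S.card = s := fun s F h1 h2 => by
    obtain ⟨S, hS1, -, hS2⟩ := Finset.exists_subsuperset_card_eq (F.subset_univ) h1
      (by rw [Finset.card_univ, hcard]; exact h2)
    exact ⟨S, hS1, hS2⟩
  -- a frame of four points
  obtain ⟨f, hf⟩ := D.exists_frame
  obtain ⟨F, hfF, hF⟩ := hsub 4 (Finset.univ.image f)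
    (Finset.card_image_le.trans (by simp)) (by omega)
  have hfix : ∀ (S : Finset (Fin r)), F ⊆ S → ∀ g ∈ K, (∀ x ∈ S, g x = x) → g = 1 :=
    fun S hS g hg h => hf g hg fun i =>
      h _ (hS (hfF (Finset.mem_image_of_mem f (Finset.mem_univ i))))
  -- prime degree
  have hprime : D.k = 1 → ∀ S : Finset (Fin r), 2 ≤ S.card →
      ∀ g ∈ K, (∀ x ∈ S, g x = x) → g = 1 := by
    intro hk S hS g hg h
    obtain ⟨x, hx, y, hy, hxy⟩ := Finset.one_lt_card.1 hS
    exact D.eq_one_of_fix_two htrans hk hxy hg (h x hx) (h y hy)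
  have hk1 : r ∈ ({5, 6, 7, 11} : Finset ℕ) → D.k = 1 := by
    intro h
    rcases prime_pow_small D.prime (by rw [← D.card_eq, Nat.card_fin]) (by omega)
      (by fin_cases h <;> omega) with ⟨e, -⟩ | ⟨e, -, -⟩ | ⟨e, -, -⟩ | ⟨e, -, -⟩
    · exact e
    all_goals fin_cases h <;> omega
  obtain ⟨a₀, b₀, c₀, d₀, hab, hac, had, hbc, hbd, hcd, hFeq⟩ :
      ∃ a b c d, a ≠ b ∧ a ≠ c ∧ a ≠ d ∧ b ≠ c ∧ b ≠ d ∧ c ≠ d ∧ F = {a, b, c, d} :=
    Finset.card_eq_four.1 hF
  interval_cases j
  · -- two colours
    rw [target, if_pos rfl, if_neg (by omega), if_neg (by omega)]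
    rcases le_or_gt r 7 with h7 | h8
    · choose S hS hSc using fun s : Fin 5 => hsub ((s : ℕ)) ∅ (by simp) (by omega)
      refine ⟨fun s x => if x ∈ S s then 1 else 0, fun a b g _ hg => ?_, fun a => ?_⟩
      · have h := eq_of_count (c := fun x => if x ∈ S a then (1 : Fin 2) else 0)
          (c' := fun x => if x ∈ S b then (1 : Fin 2) else 0) hg 1
        have hc : ∀ s, (Finset.univ.filter fun x => (if x ∈ S s then (1 : Fin 2) else 0) = 1) = S s :=
          fun s => by ext x; simp
        rw [hc, hc, hSc, hSc] at h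
        exact Fin.ext h
      · refine dl_colourStab hK _ Set.univ (fun g _ h => Equiv.ext fun x => h x (Set.mem_univ _))
          fun i _ => dlP_le_of ?_ ?_
        · exact (Finite.card_subtype_le _).trans (by rw [Nat.card_fin]; omega)
        · have := (Finite.card_subtype_le fun x : Fin r =>
            (if x ∈ S a then (1 : Fin 2) else 0) = i).trans_eq (Nat.card_fin r)
          generalize Nat.card _ = n at this ⊢
          interval_cases r <;> interval_cases n <;> decide
    -- at least eight points: classes of sizes four to seven, and one more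
    choose S hS hSc using fun s : Fin 4 => hsub (4 + (s : ℕ)) F (by omega) (by omega)
    have hmain : ∀ s : Fin 4, DL (colourStab K fun x => if x ∈ S s then (1 : Fin 2) else 0) 3 := by
      intro s
      refine dl_colourStab hK _ {1} (fun g hg h => hfix (S s) (hS s) g hg fun x hx =>
        h x (by simp [hx])) fun i hi => ?_
      rw [Set.mem_singleton_iff] at hi
      subst hi
      have hc : Nat.card {x // (if x ∈ S s then (1 : Fin 2) else 0) = 1} = 4 + s := by
        rw [Nat.card_eq_fintype_card, Fintype.card_subtype, ← hSc s]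
        congr 1; ext x; simp
      rw [hc]
      exact dlP_le_of (by omega) (by fin_cases s <;> decide)
    obtain ⟨T, u, hu, hT⟩ : ∃ (T : Finset (Fin r)) (u : ℕ), T.card = u ∧ (u < 4 ∨ 7 < u) ∧
        DL (colourStab K fun x => if x ∈ T then (1 : Fin 2) else 0) 3 := by
      rcases le_or_gt 12 r with h12 | h12
      · refine ⟨Fᶜ, _, rfl, Or.inr (by rw [Finset.card_compl, hcard, hF]; omega),
          dl_colourStab hK _ {0} (fun g hg h => hfix F subset_rfl g hg fun x hx =>
            h x (by simp [hx])) fun i hi => ?_⟩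
        rw [Set.mem_singleton_iff] at hi
        subst hi
        have hc : Nat.card {x // (if x ∈ Fᶜ then (1 : Fin 2) else 0) = 0} = 4 := by
          rw [Nat.card_eq_fintype_card, Fintype.card_subtype, ← hF]
          congr 1; ext x; simp
        rw [hc]
        exact dlP_le_of (by norm_num) (by decide)
      rcases prime_pow_small D.prime (by rw [← D.card_eq, Nat.card_fin]) (by omega) (by omega)
        with ⟨hk, -⟩ | ⟨e, -, -⟩ | ⟨e, hq, hk⟩ | ⟨e, hq, hk⟩
      · obtain ⟨T, -, hTc⟩ := hsub 2 ∅ (by simp) (by omega)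
        refine ⟨T, 2, hTc, Or.inl (by norm_num),
          dl_colourStab hK _ {1} (fun g hg h => hprime hk T hTc.ge g hg fun x hx =>
            h x (by simp [hx])) fun i hi => ?_⟩
        rw [Set.mem_singleton_iff] at hi
        subst hi
        have hc : Nat.card {x // (if x ∈ T then (1 : Fin 2) else 0) = 1} = 2 := by
          rw [Nat.card_eq_fintype_card, Fintype.card_subtype]
          exact (congrArg Finset.card (by ext x; simp)).trans hTc
        rw [hc]
        exact dlP_le_of (by norm_num) (by decide)
      · omega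
      · refine ⟨∅, 0, rfl, Or.inl (by norm_num), ?_⟩
        haveI := D.solvable
        have hW : Nat.card D.W = 2 ^ 3 := by rw [D.card_W, hq, hk]
        have hL := ((dlB_two_small 3 (by norm_num) (by norm_num)).dl hW D.semi
          fun h hh => Subtype.ext (Units.ext (AddMonoidHom.ext hh)))
        exact ((D.dl _ hL).mono (by decide)).of_le inf_le_left
      · -- nine points: two vectors span
        have hW : Nat.card D.W = 3 ^ 2 := by rw [D.card_W, hq, hk]
        obtain ⟨u, v, -, huv, -⟩ := SolvKGV.exists_two_generators Nat.prime_three hW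
        obtain ⟨T, hFT, hTc⟩ := hsub 3 ({D.e 0, D.e u, D.e v} : Finset (Fin r))
          Finset.card_le_three (by omega)
        refine ⟨T, 3, hTc, Or.inl (by norm_num),
          dl_colourStab hK _ {1} (fun g hg h => ?_) fun i hi => ?_⟩
        · have hmem : ∀ z ∈ ({D.e 0, D.e u, D.e v} : Finset (Fin r)), g z = z := fun z hz =>
            h z (by simp [hFT hz])
          obtain ⟨l, hl, hle⟩ := D.lin g hg (hmem _ (by simp))
          let Fx : AddSubgroup D.W :=
            { carrier := {w | l • w = w}
              zero_mem' := smul_zero l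
              add_mem' := fun {x y} hx hy => show l • (x + y) = x + y by rw [smul_add, hx, hy]
              neg_mem' := fun {x} hx => show l • (-x) = -x by rw [smul_neg, hx] }
          have hle' : AddSubgroup.closure {u, v} ≤ Fx := by
            rw [AddSubgroup.closure_le]
            rintro z (rfl | rfl)
            · exact D.e.injective ((hle z).symm.trans (hmem _ (by simp)))
            · exact D.e.injective ((hle z).symm.trans (hmem _ (by simp)))
          refine Equiv.ext fun z => ?_
          obtain ⟨w, rfl⟩ := D.e.surjective z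
          rw [hle, show l • w = w from hle' (huv ▸ AddSubgroup.mem_top w)]
          rfl
        · rw [Set.mem_singleton_iff] at hi
          subst hi
          have hc : Nat.card {x // (if x ∈ T then (1 : Fin 2) else 0) = 1} = 3 := by
            rw [Nat.card_eq_fintype_card, Fintype.card_subtype]
            exact (congrArg Finset.card (by ext x; simp)).trans hTc
          rw [hc]
          exact dlP_le_of (by norm_num) (by decide)
    let U : Fin 5 → Finset (Fin r) := ![S 0, S 1, S 2, S 3, T]
    refine ⟨fun a x => if x ∈ U a then 1 else 0, fun a b g _ hg => ?_, fun a => ?_⟩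
    · have h := eq_of_count (c := fun x => if x ∈ U a then (1 : Fin 2) else 0)
        (c' := fun x => if x ∈ U b then (1 : Fin 2) else 0) hg 1
      have hc : ∀ s, (Finset.univ.filter fun x => (if x ∈ U s then (1 : Fin 2) else 0) = 1) = U s :=
        fun s => by ext x; simp
      rw [hc, hc] at h
      have h0 := hSc 0; have h1 := hSc 1; have h2 := hSc 2; have h3 := hSc 3
      simp only [Fin.val_zero, Fin.val_one, Fin.val_two] at h0 h1 h2
      change (S 3).card = 7 at h3
      fin_cases a <;> fin_cases b <;> simp_all [U] <;> omega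
    · fin_cases a
      exacts [hmain 0, hmain 1, hmain 2, hmain 3, hT.2]
  · -- three colours
    change Colours K 3 2 5
    by_cases hp : r ∈ ({5, 6, 7} : Finset ℕ)
    · have hk := hk1 (by fin_cases hp <;> simp)
      refine colours_of_classes hK (![{a₀, b₀}] : Fin 1 → Finset (Fin r))
        (fun i i' h => absurd (Subsingleton.elim i i') h)
        (fun g hg h => hprime hk {a₀, b₀} (by simp [hab]) g hg (h 0))
        ![2] (fun i => by fin_cases i; simp [hab]) (by decide) 5 (by rw [hcard]; omega) (by decide)
        ![![0], ![0], ![1], ![1], ![2]] ![1, 2, 0, 2, 0] (fun a => Function.injective_of_subsingleton _)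
        (by decide) (by decide)
    · have h8 : 8 ≤ r := by
        simp only [Finset.mem_insert, Finset.mem_singleton] at hp
        omega
      refine colours_of_classes hK (![{a₀}, {b₀, c₀, d₀}] : Fin 2 → Finset (Fin r))
        (fun i i' h => by fin_cases i <;> fin_cases i' <;> simp_all [Ne.symm])
        (fun g hg h => hfix F subset_rfl g hg fun x hx => ?_)
        ![1, 3] (fun i => by fin_cases i <;> simp [hbc, hbd, hcd]) (by decide) 8
        (by rw [hcard]; omega) (by decide)
        ![![0, 1], ![0, 2], ![1, 0], ![1, 2], ![2, 0]] ![2, 1, 2, 0, 1] (by decide) (by decide)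
        (by decide)
      · rw [hFeq] at hx
        simp only [Finset.mem_insert, Finset.mem_singleton] at hx
        rcases hx with rfl | rfl | rfl | rfl
        · exact h 0 _ (by simp)
        all_goals exact h 1 _ (by simp)
  · -- four colours
    change Colours K 4 1 5
    by_cases hp : r ∈ ({5, 6} : Finset ℕ)
    · have hk := hk1 (by fin_cases hp <;> simp)
      refine colours_of_classes hK (![{a₀, b₀}] : Fin 1 → Finset (Fin r))
        (fun i i' h => absurd (Subsingleton.elim i i') h)
        (fun g hg h => hprime hk {a₀, b₀} (by simp [hab]) g hg (h 0))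
        ![2] (fun i => by fin_cases i; simp [hab]) (by decide) 5 (by rw [hcard]; omega) (by decide)
        ![![0], ![0], ![0], ![1], ![1]] ![1, 2, 3, 2, 3] (fun a => Function.injective_of_subsingleton _)
        (by decide) (by decide)
    · have h7 : 7 ≤ r := by
        simp only [Finset.mem_insert, Finset.mem_singleton] at hp
        omega
      refine colours_of_classes hK (![{a₀}, {b₀}, {c₀, d₀}] : Fin 3 → Finset (Fin r))
        (fun i i' h => by fin_cases i <;> fin_cases i' <;> simp_all [Ne.symm])
        (fun g hg h => hfix F subset_rfl g hg fun x hx => ?_)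
        ![1, 1, 2] (fun i => by fin_cases i <;> simp [hcd]) (by decide) 7
        (by rw [hcard]; omega) (by decide)
        ![![1, 2, 3], ![0, 2, 3], ![0, 1, 3], ![0, 1, 2], ![1, 3, 2]] ![0, 1, 2, 3, 0]
        (by decide) (by decide) (by decide)
      · rw [hFeq] at hx
        simp only [Finset.mem_insert, Finset.mem_singleton] at hx
        rcases hx with rfl | rfl | rfl | rfl
        · exact h 0 _ (by simp)
        · exact h 1 _ (by simp)
        all_goals exact h 2 _ (by simp)
  · -- five colours
    change Colours K 5 0 5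
    by_cases hp : r = 5
    · have hk := hk1 (by simp [hp])
      refine colours_of_classes hK (![{a₀}, {b₀}, {c₀}] : Fin 3 → Finset (Fin r))
        (fun i i' h => by fin_cases i <;> fin_cases i' <;> simp_all [Ne.symm])
        (fun g hg h => hprime hk {a₀, b₀} (by simp [hab]) g hg fun x hx => ?_)
        ![1, 1, 1] (fun i => by fin_cases i <;> simp) (by decide) 5
        (by rw [hcard]; omega) (by decide)
        ![![1, 2, 3], ![0, 2, 3], ![0, 1, 3], ![0, 1, 2], ![0, 1, 2]] ![0, 1, 2, 3, 4]
        (by decide) (by decide) (by decide)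
      · simp only [Finset.mem_insert, Finset.mem_singleton] at hx
        rcases hx with rfl | rfl
        · exact h 0 _ (by simp)
        · exact h 1 _ (by simp)
    · refine colours_of_classes hK (![{a₀}, {b₀}, {c₀}, {d₀}] : Fin 4 → Finset (Fin r))
        (fun i i' h => by fin_cases i <;> fin_cases i' <;> simp_all [Ne.symm])
        (fun g hg h => hfix F subset_rfl g hg fun x hx => ?_)
        ![1, 1, 1, 1] (fun i => by fin_cases i <;> simp) (by decide) 6
        (by rw [hcard]; omega) (by decide)
        ![![1, 2, 3, 4], ![0, 2, 3, 4], ![0, 1, 3, 4], ![0, 1, 2, 4], ![0, 1, 2, 3]] ![0, 1, 2, 3, 4]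
        (by decide) (by decide) (by decide)
      · rw [hFeq] at hx
        simp only [Finset.mem_insert, Finset.mem_singleton] at hx
        rcases hx with rfl | rfl | rfl | rfl
        · exact h 0 _ (by simp)
        · exact h 1 _ (by simp)
        · exact h 2 _ (by simp)
        · exact h 3 _ (by simp)

end CfsgLib.StabLength
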