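import Cfsg.Agent.StabLength.Basic
import Cfsg.Agent.SolvKGV.Decomp

/-!
# Decompositions with fewest summands and vectors given by colourings

In a decomposition with the fewest summands the labels are permuted trivially (two summands) or
primitively. Vectors of one summand that are pairwise inequivalent under the stabiliser of the
label give, by colourings of the labels, vectors whose stabilisers have controlled derived length.
-/

set_option autoImplicit false
set_option linter.unusedSectionVars false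
set_option linter.style.haveILetI false

namespace CfsgLib.StabLength

open CfsgLib.SolvKGV Equiv MulAction

universe u v

/-- The permutations in `G` preserving a colouring. -/
def colourStab {Ω ι : Type*} (G : Subgroup (Perm Ω)) (c : Ω → ι) : Subgroup (Perm Ω) :=
  G ⊓ { carrier := {g | ∀ x, c (g x) = c x}
        one_mem' := fun _ => rfl
        mul_mem' := fun {a b} ha hb x => (ha (b x)).trans (hb x)
        inv_mem' := fun {a} ha x => by
          have h := ha (a⁻¹ x)
          rw [← Perm.mul_apply, mul_inv_cancel, Perm.one_apply] at h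
          exact h.symm }

theorem mem_colourStab {Ω ι : Type*} {G : Subgroup (Perm Ω)} {c : Ω → ι} {g : Perm Ω} :
    g ∈ colourStab G c ↔ g ∈ G ∧ ∀ x, c (g x) = c x :=
  Iff.rfl

/-- Only trivial relations are invariant. -/
def PrimLabels {Ω : Type*} (G : Subgroup (Perm Ω)) : Prop :=
  ∀ s : Setoid Ω, (∀ g ∈ G, ∀ x y, s.r x y → s.r (g x) (g y)) → s = ⊥ ∨ s = ⊤

variable {H : Type u} [Group H] [Finite H] {V : Type v} [AddCommGroup V] [DistribMulAction H V]
  [Finite V] {r : ℕ} (D : Decomp H V r)

theorem proj_smul (h : H) (i : Fin r) (v : V) :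
    D.proj i (h • v) = h • D.proj (D.perm h⁻¹ i) v := by
  have e := D.equi h (D.perm h⁻¹ i) v
  rwa [← Perm.mul_apply, ← map_mul, mul_inv_cancel, map_one, Perm.one_apply] at e

theorem smul_mem_part (h : H) {i : Fin r} {v : V} (hv : v ∈ D.part i) :
    h • v ∈ D.part (D.perm h i) := by
  obtain ⟨w, rfl⟩ := hv
  exact ⟨h • w, D.equi h i w⟩

theorem proj_part_ne {i j : Fin r} (hij : i ≠ j) {v : V} (hv : v ∈ D.part j) : D.proj i v = 0 := by
  rw [← D.proj_eq_self hv, D.orth, if_neg hij]

/-- Coarsening along a map of labels. -/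
theorem nonempty_coarsen {s : ℕ} (hs : 2 ≤ s) (θ : Fin r → Fin s) (hθ : Function.Surjective θ)
    (hcompat : ∀ (h : H) i j, θ i = θ j → θ (D.perm h i) = θ (D.perm h j)) :
    Nonempty (Decomp H V s) := by
  classical
  choose σ hσ using hθ
  let τ : H → Fin s → Fin s := fun h j => θ (D.perm h (σ j))
  have hτθ : ∀ h i, τ h (θ i) = θ (D.perm h i) := fun h i => hcompat h _ _ (hσ _)
  have hτ1 : ∀ j, τ 1 j = j := fun j => by
    show θ (D.perm 1 (σ j)) = j
    rw [map_one, Perm.one_apply, hσ]
  have hτm : ∀ g h j, τ (g * h) j = τ g (τ h j) := fun g h j => by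
    conv_rhs => rw [show τ h j = θ (D.perm h (σ j)) from rfl, hτθ]
    show θ (D.perm (g * h) (σ j)) = _
    rw [map_mul, Perm.mul_apply]
  let π : H →* Perm (Fin s) :=
    { toFun := fun h => ⟨τ h, τ h⁻¹, fun j => by rw [← hτm, inv_mul_cancel, hτ1],
        fun j => by rw [← hτm, mul_inv_cancel, hτ1]⟩
      map_one' := Equiv.ext hτ1
      map_mul' := fun g h => Equiv.ext (hτm g h) }
  let q : Fin s → V →+ V := fun j => ∑ i ∈ Finset.univ.filter (fun i => θ i = j), D.proj i
  have hq : ∀ j v, q j v = ∑ i ∈ Finset.univ.filter (fun i => θ i = j), D.proj i v := fun j v =>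
    AddMonoidHom.finset_sum_apply _ _ _
  have hsingle : ∀ i j v, D.proj i (q j v) = if θ i = j then D.proj i v else 0 := by
    intro i j v
    rw [hq, map_sum]
    simp only [D.orth]
    by_cases hij : θ i = j
    · rw [if_pos hij, Finset.sum_ite_eq (Finset.univ.filter fun k => θ k = j) i, if_pos (by simpa)]
    · rw [if_neg hij]
      refine Finset.sum_eq_zero fun k hk => if_neg fun e => hij ?_
      rw [e]; exact (Finset.mem_filter.1 hk).2
  refine ⟨{ two := hs
            perm := π
            proj := q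
            ne := fun j hj => D.ne (σ j) (AddMonoidHom.ext fun v => ?_)
            orth := fun i j v => ?_
            sum := fun v => ?_
            equi := fun h j v => ?_ }⟩
  · have e := hsingle (σ j) j v
    rw [if_pos (hσ j), show q j v = 0 from DFunLike.congr_fun hj v, map_zero] at e
    exact e.symm
  · rw [hq i]
    simp only [hsingle]
    by_cases hij : i = j
    · rw [if_pos hij, hq, hij]
      exact Finset.sum_congr rfl fun k hk => if_pos (Finset.mem_filter.1 hk).2
    · rw [if_neg hij]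
      exact Finset.sum_eq_zero fun k hk =>
        if_neg fun e => hij ((Finset.mem_filter.1 hk).2.symm.trans e)
  · simp only [hq]
    rw [Finset.sum_fiberwise_of_maps_to (g := θ) (fun i _ => Finset.mem_univ _), D.sum]
  · rw [hq, hq, Finset.smul_sum]
    refine Finset.sum_bij' (fun i _ => D.perm h⁻¹ i) (fun i _ => D.perm h i)
      (fun i hi => ?_) (fun i hi => ?_) (fun i _ => ?_) (fun i _ => ?_) (fun i _ => ?_)
    · simp only [Finset.mem_filter, Finset.mem_univ, true_and] at hi ⊢
      have e := hτθ h⁻¹ i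
      rw [hi, show π h j = τ h j from rfl, ← hτm, inv_mul_cancel, hτ1] at e
      exact e.symm
    · simp only [Finset.mem_filter, Finset.mem_univ, true_and] at hi ⊢
      show θ (D.perm h i) = τ h j
      rw [← hi, hτθ]
    · rw [← Perm.mul_apply, ← map_mul, mul_inv_cancel, map_one, Perm.one_apply]
    · rw [← Perm.mul_apply, ← map_mul, inv_mul_cancel, map_one, Perm.one_apply]
    · exact proj_smul D h i v

/-- A decomposition with fewest summands. -/
theorem exists_minimal_decomp (hd : ∃ r, Nonempty (Decomp H V r)) :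
    ∃ (r : ℕ) (D : Decomp H V r), (r = 2 ∧ ∀ h, D.perm h = 1) ∨
      ((∀ i j, ∃ h, D.perm h i = j) ∧ PrimLabels D.perm.range) := by
  classical
  set r := Nat.find hd with hr
  obtain ⟨D⟩ : Nonempty (Decomp H V r) := Nat.find_spec hd
  refine ⟨r, D, ?_⟩
  have hmin : ∀ s, s < r → Decomp H V s → False := fun s hs D' => Nat.find_min hd hs ⟨D'⟩
  -- no invariant relation with few but at least two classes
  have hrel : ∀ s : Setoid (Fin r), (∀ (h : H) x y, s.r x y → s.r (D.perm h x) (D.perm h y)) →
      s = ⊥ ∨ s = ⊤ := by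
    intro s hs
    by_contra! hne
    obtain ⟨e⟩ : Nonempty (Quotient s ≃ Fin (Nat.card (Quotient s))) := ⟨Finite.equivFin _⟩
    have h2 : 2 ≤ Nat.card (Quotient s) := by
      by_contra! hlt
      refine hne.2 (Setoid.eq_top_iff.2 fun x y => Quotient.exact ?_)
      haveI : Subsingleton (Quotient s) := Finite.card_le_one_iff_subsingleton.1 (by omega)
      exact Subsingleton.elim _ _
    have hlt : Nat.card (Quotient s) < r := by
      refine lt_of_le_of_ne ((Nat.card_le_card_of_surjective _ Quotient.mk_surjective).trans_eq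
        (Nat.card_fin r)) fun heq => hne.1 ?_
      have hb := ((Nat.bijective_iff_surjective_and_card (Quotient.mk s)).2
        ⟨Quotient.mk_surjective, (Nat.card_fin r).trans heq.symm⟩).1
      exact eq_bot_iff.2 fun x y hxy => hb (Quotient.sound hxy)
    obtain ⟨D'⟩ := nonempty_coarsen D h2 (fun i => e (Quotient.mk s i))
      (e.surjective.comp Quotient.mk_surjective)
      (fun h i j hij => congrArg e (Quotient.sound (hs h i j (Quotient.exact (e.injective hij)))))
    exact hmin _ hlt D'
  have hprim : PrimLabels D.perm.range := fun s hs =>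
    hrel s fun h x y hxy => hs _ ⟨h, rfl⟩ x y hxy
  let orb : Setoid (Fin r) :=
    { r := fun i j => ∃ h, D.perm h i = j
      iseqv := ⟨fun i => ⟨1, by rw [map_one, Perm.one_apply]⟩,
        fun {i j} => fun ⟨h, e⟩ => ⟨h⁻¹, by
          rw [← e, ← Perm.mul_apply, ← map_mul, inv_mul_cancel, map_one, Perm.one_apply]⟩,
        fun {i j k} => fun ⟨h, e⟩ ⟨g, e'⟩ => ⟨g * h, by rw [map_mul, Perm.mul_apply, e, e']⟩⟩ }
  rcases hrel orb (by
      rintro h x y ⟨g, e⟩
      exact ⟨h * g * h⁻¹, by
        simp only [map_mul, Perm.mul_apply, map_inv, Perm.inv_eq_iff_eq]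
        rw [← Perm.mul_apply, ← Perm.mul_apply]
        simp [e]⟩) with hb | ht
  · left
    have h1 : ∀ h i, D.perm h i = i := fun h i => by
      have : orb.r i (D.perm h i) := ⟨h, rfl⟩
      rw [hb] at this
      exact this.symm
    refine ⟨?_, fun h => Equiv.ext fun i => h1 h i⟩
    by_contra hr
    have hr3 : 3 ≤ r := by have := D.two; omega
    obtain ⟨D'⟩ := nonempty_coarsen D le_rfl (fun i : Fin r => if (i : ℕ) = 0 then (0 : Fin 2) else 1)
      (fun j => by
        fin_cases j
        · exact ⟨⟨0, by omega⟩, by simp⟩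
        · exact ⟨⟨1, by omega⟩, by simp⟩)
      (fun h i j hij => by rw [h1, h1]; exact hij)
    exact hmin 2 (by omega) D'
  · exact Or.inr ⟨fun i j => show orb.r i j from Setoid.eq_top_iff.1 ht i j, hprim⟩

/-- The stabiliser of a label. -/
def labelStab (i : Fin r) : Subgroup H := (stabilizer (Perm (Fin r)) i).comap D.perm

theorem mem_labelStab {i : Fin r} {h : H} : h ∈ labelStab D i ↔ D.perm h i = i :=
  Iff.rfl

theorem isInv_labelStab (i : Fin r) : IsInv (labelStab D i) (D.part i) := fun h u hu => by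
  have e := smul_mem_part D (h : H) hu
  rwa [(mem_labelStab D).1 h.2] at e

/-- The group induced on a summand by the stabiliser of its label. -/
noncomputable def partGroup (i : Fin r) : Subgroup (AddMonoid.End (D.part i))ˣ :=
  letI := subAction (isInv_labelStab D i)
  (repHom (labelStab D i) (D.part i)).range

theorem mem_partGroup {i : Fin r} {e : (AddMonoid.End (D.part i))ˣ} :
    e ∈ partGroup D i ↔
      ∃ h : labelStab D i, ∀ x : D.part i, ((e • x : D.part i) : V) = (h : H) • (x : V) := by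
  letI := subAction (isInv_labelStab D i)
  constructor
  · rintro ⟨h, rfl⟩
    exact ⟨h, fun x => rfl⟩
  · rintro ⟨h, hh⟩
    exact ⟨h, Units.ext (AddMonoidHom.ext fun x => Subtype.ext (hh x).symm)⟩

theorem isSolvable_partGroup [Group.IsSolvable H] (i : Fin r) : Group.IsSolvable (partGroup D i) := by
  letI := subAction (isInv_labelStab D i)
  exact Group.isSolvable_of_surjective (repHom (labelStab D i) (D.part i)).rangeRestrict_surjective

theorem card_partGroup_dvd (i : Fin r) : Nat.card (partGroup D i) ∣ Nat.card H := by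
  letI := subAction (isInv_labelStab D i)
  exact (Subgroup.card_range_dvd (repHom (labelStab D i) (D.part i))).trans
    (Subgroup.card_subgroup_dvd_card _)

theorem semi_partGroup (hs : Semi H V) (htrans : ∀ i j, ∃ h, D.perm h i = j) (i₀ : Fin r) :
    Semi (partGroup D i₀) (D.part i₀) := by
  classical
  intro U hU
  set U₀ : AddSubgroup V := U.map (D.part i₀).subtype with hU₀
  have hU₀le : U₀ ≤ D.part i₀ := by
    rintro _ ⟨x, -, rfl⟩; exact x.2
  have hU₀inv : ∀ h ∈ labelStab D i₀, ∀ u ∈ U₀, h • u ∈ U₀ := by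
    rintro h hh _ ⟨x, hx, rfl⟩
    obtain ⟨e, he⟩ : ∃ e ∈ partGroup D i₀, ∀ x : D.part i₀, ((e • x : D.part i₀) : V) = h • (x : V) := by
      letI := subAction (isInv_labelStab D i₀)
      exact ⟨_, ⟨⟨h, hh⟩, rfl⟩, fun x => rfl⟩
    exact ⟨e • x, hU ⟨e, he.1⟩ x hx, he.2 x⟩
  let X : AddSubgroup V :=
    { carrier := {v | ∀ h : H, D.proj i₀ (h • v) ∈ U₀}
      zero_mem' := fun h => by rw [smul_zero, map_zero]; exact zero_mem _
      add_mem' := fun {a b} ha hb h => by rw [smul_add, map_add]; exact add_mem (ha h) (hb h)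
      neg_mem' := fun {a} ha h => by rw [smul_neg, map_neg]; exact neg_mem (ha h) }
  have hXinv : IsInv H X := fun g v hv h => by rw [← mul_smul]; exact hv (h * g)
  obtain ⟨Y, hY, hXY⟩ := hs X hXinv
  have hU₀X : U₀ ≤ X := by
    intro u hu h
    by_cases hh : D.perm h i₀ = i₀
    · have e := smul_mem_part D h (hU₀le hu)
      rw [hh] at e
      rw [D.proj_eq_self e]
      exact hU₀inv h hh u hu
    · rw [proj_part_ne D (Ne.symm hh) (smul_mem_part D h (hU₀le hu))]
      exact zero_mem _
  have huniq : ∀ {a b a' b' : V}, a ∈ X → b ∈ Y → a' ∈ X → b' ∈ Y → a + b = a' + b' → a = a' := by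
    intro a b a' b' ha hb ha' hb' e
    have h0 : a - a' ∈ X ⊓ Y := AddSubgroup.mem_inf.2 ⟨sub_mem ha ha', by
      rw [show a - a' = b' - b by rw [sub_eq_sub_iff_add_eq_add, e, add_comm]]
      exact sub_mem hb' hb⟩
    rw [hXY.inf_eq_bot, AddSubgroup.mem_bot, sub_eq_zero] at h0
    exact h0
  have hex : ∀ v : V, ∃ a ∈ X, ∃ b ∈ Y, a + b = v := fun v =>
    AddSubgroup.mem_sup.1 (hXY.sup_eq_top ▸ AddSubgroup.mem_top v)
  let U' : AddSubgroup (D.part i₀) :=
    { carrier := {x | ∀ a ∈ X, ∀ b ∈ Y, a + b = (x : V) → D.proj i₀ a = 0}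
      zero_mem' := fun a ha b hb e => by
        rw [huniq ha hb (zero_mem X) (zero_mem Y) (e.trans (add_zero (0 : V)).symm), map_zero]
      add_mem' := fun {x y} hx hy a ha b hb e => by
        obtain ⟨a₁, ha₁, b₁, hb₁, e₁⟩ := hex x
        obtain ⟨a₂, ha₂, b₂, hb₂, e₂⟩ := hex y
        rw [huniq ha hb (add_mem ha₁ ha₂) (add_mem hb₁ hb₂) (by
          rw [e, AddSubgroup.coe_add, ← e₁, ← e₂]; abel), map_add, hx a₁ ha₁ b₁ hb₁ e₁,
          hy a₂ ha₂ b₂ hb₂ e₂, add_zero]
      neg_mem' := fun {x} hx a ha b hb e => by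
        have := hx (-a) (neg_mem ha) (-b) (neg_mem hb) (by
          rw [← neg_add, e, AddSubgroup.coe_neg, neg_neg])
        rwa [map_neg, neg_eq_zero] at this }
  refine ⟨U', ?_, ?_⟩
  · rintro ⟨e, he⟩ x hx a ha b hb hab
    obtain ⟨h, hh⟩ := (mem_partGroup D).1 he
    change a + b = ((e • x : D.part i₀) : V) at hab
    rw [hh x] at hab
    have h0 := hx ((h : H)⁻¹ • a) (hXinv _ _ ha) ((h : H)⁻¹ • b) (hY _ _ hb)
      (by rw [← smul_add, hab, inv_smul_smul])
    have e1 := D.equi (h : H) i₀ ((h : H)⁻¹ • a)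
    rw [(mem_labelStab D).1 h.2, smul_inv_smul, h0, smul_zero] at e1
    exact e1
  constructor
  · rw [disjoint_iff, eq_bot_iff]
    intro x hx
    have h0 := hx.2 x (hU₀X ⟨x, hx.1, rfl⟩) 0 (zero_mem _) (add_zero _)
    rw [D.proj_eq_self x.2] at h0
    exact Subtype.ext h0
  · rw [codisjoint_iff, eq_top_iff]
    intro x _
    obtain ⟨a, ha, b, hb, hab⟩ := hex x
    have hu : D.proj i₀ a ∈ U₀ := by have := ha 1; rwa [one_smul] at this
    obtain ⟨u, huU, hu'⟩ := hu
    refine AddSubgroup.mem_sup.2 ⟨u, huU, x - u, fun a' ha' b' hb' e => ?_, add_sub_cancel _ _⟩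
    have hau : a - (u : V) ∈ X := sub_mem ha (hU₀X ⟨u, huU, rfl⟩)
    rw [huniq ha' hb' hau hb (by rw [e, AddSubgroup.coe_sub, ← hab]; abel), map_sub,
      D.proj_eq_self u.2]
    rw [← hu']
    exact sub_self _

/-- With labels fixed by every element, the stabiliser of a vector is bounded by the stabilisers of
its components. -/
theorem dl_stabilizer_of_trivial (hf : Faith H V) (h1 : ∀ h, D.perm h = 1) (x : ∀ i, D.part i)
    {d : ℕ} (hd : ∀ i, DL (stabilizer (partGroup D i) (x i)) d) :
    DL (stabilizer H (∑ i, (x i : V))) d := by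
  classical
  have hmem : ∀ (h : H) i, h ∈ labelStab D i := fun h i =>
    (mem_labelStab D).2 (by rw [h1 h, Perm.one_apply])
  have hcomp : ∀ (h : stabilizer H (∑ i, (x i : V))) i, (h : H) • (x i : V) = x i := by
    intro h i
    have hpi : D.proj i (∑ j, (x j : V)) = x i := congrArg (fun y => (y i : V)) (D.equiv.right_inv x)
    have e := D.equi (h : H) i (∑ j, (x j : V))
    rw [h1, Perm.one_apply, h.2, hpi] at e
    exact e.symm
  let g : ∀ i, stabilizer H (∑ i, (x i : V)) →* stabilizer (partGroup D i) (x i) := fun i =>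
    letI := subAction (isInv_labelStab D i)
    { toFun := fun h => ⟨⟨repHom (labelStab D i) (D.part i) ⟨(h : H), hmem _ i⟩, ⟨_, rfl⟩⟩,
        Subtype.ext (hcomp h i)⟩
      map_one' := Subtype.ext (Subtype.ext (map_one (repHom (labelStab D i) (D.part i))))
      map_mul' := fun a b => Subtype.ext (Subtype.ext
        (map_mul (repHom (labelStab D i) (D.part i)) ⟨(a : H), hmem _ i⟩ ⟨(b : H), hmem _ i⟩)) }
  refine DL.of_family g (fun h hh => Subtype.ext (hf _ fun v => ?_)) fun i => (hd i).subgroup _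
  rw [← D.sum v, Finset.smul_sum]
  refine Finset.sum_congr rfl fun i _ => ?_
  have e := congrArg (fun e : stabilizer (partGroup D i) (x i) =>
    ((((e : partGroup D i) : (AddMonoid.End (D.part i))ˣ) • (⟨D.proj i v, v, rfl⟩ : D.part i) :
      D.part i) : V)) (hh i)
  exact e.trans (by simp)

/-- Components of equal vectors, with labels fixed by every element. -/
theorem eq_of_smul_sum_of_trivial (h1 : ∀ h, D.perm h = 1) (x y : ∀ i, D.part i) {h : H}
    (e : h • (∑ i, (x i : V)) = ∑ i, (y i : V)) (i : Fin r) :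
    ∃ g ∈ partGroup D i, g • x i = y i := by
  letI := subAction (isInv_labelStab D i)
  refine ⟨_, ⟨⟨h, (mem_labelStab D).2 (by rw [h1 h, Perm.one_apply])⟩, rfl⟩, Subtype.ext ?_⟩
  have hpi : ∀ z : ∀ j, D.part j, D.proj i (∑ j, (z j : V)) = z i := fun z =>
    congrArg (fun y => (y i : V)) (D.equiv.right_inv z)
  have e' := D.equi h i (∑ j, (x j : V))
  rw [h1, Perm.one_apply, e, hpi, hpi] at e'
  exact e'.symm

/-- **Vectors given by colourings.** -/
theorem exists_colour_vectors (hf : Faith H V) (htrans : ∀ i j, ∃ h, D.perm h i = j) (i₀ : Fin r)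
    {ι : Type*} (a : ι → D.part i₀) (hconj : ∀ k l, ∀ g ∈ partGroup D i₀, g • a k = a l → k = l)
    {d : ℕ} (hd : ∀ k, DL (stabilizer (partGroup D i₀) (a k)) d) :
    ∃ w : (Fin r → ι) → V, (∀ c c' h, h • w c = w c' → ∀ i, c' (D.perm h i) = c i) ∧
      ∀ c t, DL (colourStab D.perm.range c) t → DL (stabilizer H (w c)) (t + d) := by
  classical
  choose t ht using fun i => htrans i₀ i
  have hmem : ∀ (c : Fin r → ι) i, t i • ((a (c i) : D.part i₀) : V) ∈ D.part i := fun (c : Fin r → ι) i => by
    have e := smul_mem_part D (t i) (a (c i)).2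
    rwa [ht] at e
  let w : (Fin r → ι) → V := fun c => ∑ i, t i • ((a (c i) : D.part i₀) : V)
  have hproj : ∀ c i, D.proj i (w c) = t i • ((a (c i) : D.part i₀) : V) := fun c i =>
    congrArg (fun y => (y i : V)) (D.equiv.right_inv fun j => ⟨_, hmem c j⟩)
  have hkey : ∀ c c' (h : H), h • w c = w c' → ∀ i, ∃ hh : (t (D.perm h i))⁻¹ * h * t i ∈
      labelStab D i₀, ((t (D.perm h i))⁻¹ * h * t i) • ((a (c i) : D.part i₀) : V) =
        a (c' (D.perm h i)) := by
    intro c c' h e i
    have hl : (t (D.perm h i))⁻¹ * h * t i ∈ labelStab D i₀ := by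
      rw [mem_labelStab, map_mul, map_mul, map_inv, Perm.mul_apply, Perm.mul_apply, ht,
        Perm.inv_eq_iff_eq, ht]
    refine ⟨hl, ?_⟩
    have e' := D.equi h i (w c)
    rw [e, hproj, hproj] at e'
    rw [mul_smul, mul_smul, ← e', inv_smul_smul]
  refine ⟨w, fun c c' h e i => ?_, fun c t' ht' => ?_⟩
  · obtain ⟨hl, he⟩ := hkey c c' h e i
    letI := subAction (isInv_labelStab D i₀)
    exact (hconj _ _ _ ⟨⟨_, hl⟩, rfl⟩ (Subtype.ext he)).symm
  set S := stabilizer H (w c)
  let f : S →* Perm (Fin r) := D.perm.comp S.subtype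
  have hrange : f.range ≤ colourStab D.perm.range c := by
    rintro _ ⟨h, rfl⟩
    refine mem_colourStab.2 ⟨⟨(h : H), rfl⟩, fun i => ?_⟩
    obtain ⟨hl, he⟩ := hkey c c h h.2 i
    letI := subAction (isInv_labelStab D i₀)
    exact (hconj _ _ _ ⟨⟨_, hl⟩, rfl⟩ (Subtype.ext he)).symm
  refine DL.of_hom f (ht'.of_le hrange) ?_
  have hker : ∀ (n : f.ker) i, ((t i)⁻¹ * ((n : S) : H) * t i) ∈ labelStab D i₀ := fun n i => by
    have hn : D.perm ((n : S) : H) = 1 := n.2
    rw [mem_labelStab, map_mul, map_mul, map_inv, Perm.mul_apply, Perm.mul_apply, ht, hn,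
      Perm.one_apply, Perm.inv_eq_iff_eq, ht]
  have hfix : ∀ (n : f.ker) i, ((t i)⁻¹ * ((n : S) : H) * t i) • ((a (c i) : D.part i₀) : V) =
      a (c i) := fun n i => by
    obtain ⟨hl, he⟩ := hkey c c _ (n : S).2 i
    have hn : D.perm ((n : S) : H) = 1 := n.2
    rwa [hn, Perm.one_apply] at he
  let φ : ∀ i, f.ker →* labelStab D i₀ := fun i =>
    { toFun := fun n => ⟨_, hker n i⟩
      map_one' := Subtype.ext (show (t i)⁻¹ * (((1 : f.ker) : S) : H) * t i = 1 by simp)
      map_mul' := fun a b => Subtype.ext (show (t i)⁻¹ * (((a * b : f.ker) : S) : H) * t i =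
        (t i)⁻¹ * ((a : S) : H) * t i * ((t i)⁻¹ * ((b : S) : H) * t i) by simp [mul_assoc]) }
  let g : ∀ i, f.ker →* stabilizer (partGroup D i₀) (a (c i)) := fun i =>
    letI := subAction (isInv_labelStab D i₀)
    ((repHom (labelStab D i₀) (D.part i₀)).rangeRestrict.comp (φ i)).codRestrict
      (stabilizer (partGroup D i₀) (a (c i))) fun n => Subtype.ext (hfix n i)
  refine DL.of_family g (fun n hn => Subtype.ext (Subtype.ext (hf _ fun v => ?_)))
    fun i => (hd _).subgroup _
  have hn1 : D.perm ((n : S) : H) = 1 := n.2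
  rw [← D.sum v, Finset.smul_sum]
  refine Finset.sum_congr rfl fun i _ => ?_
  have hp : (t i)⁻¹ • D.proj i v ∈ D.part i₀ := by
    have e := smul_mem_part D (t i)⁻¹ (i := i) (⟨v, rfl⟩ : D.proj i v ∈ D.part i)
    rwa [map_inv, show (D.perm (t i))⁻¹ i = i₀ from Perm.inv_eq_iff_eq.2 (ht i).symm] at e
  have e := congrArg (fun e : stabilizer (partGroup D i₀) (a (c i)) =>
    ((((e : partGroup D i₀) : (AddMonoid.End (D.part i₀))ˣ) • (⟨_, hp⟩ : D.part i₀) :
      D.part i₀) : V)) (hn i)
  have e' : ((t i)⁻¹ * ((n : S) : H) * t i) • ((t i)⁻¹ • D.proj i v) = (t i)⁻¹ • D.proj i v := by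
    exact e.trans (by simp)
  have e'' : (t i)⁻¹ • ((n : S) : H) • D.proj i v = (t i)⁻¹ • D.proj i v := by
    rw [← e', mul_smul, mul_smul, smul_inv_smul]
  exact MulAction.injective _ e''

end CfsgLib.StabLength
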