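import Cfsg.Agent.StabLength.Colour

/-!
# Families of inequivalent vectors with stabilisers of small derived length
-/

set_option autoImplicit false
set_option linter.unusedSectionVars false
set_option linter.style.haveILetI false

namespace CfsgLib.StabLength

open CfsgLib.SolvKGV MulAction

universe u

/-- `j` inequivalent vectors with stabilisers of derived length at most `j + 4`, where `2 ≤ j ≤ 5`. -/
def Good (H V : Type u) [Group H] [AddCommGroup V] [DistribMulAction H V] : Prop :=
  ∃ j, 2 ≤ j ∧ j ≤ 5 ∧ ∃ v : Fin j → V,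
    (∀ a b, ∀ g : H, g • v a = v b → a = b) ∧ ∀ a, DL (stabilizer H (v a)) (j + 4)

variable {H V : Type u} [Group H] [Finite H] [AddCommGroup V] [DistribMulAction H V] [Finite V]

/-- The induction, with the primitive case as a hypothesis. -/
theorem good_of_prim
    (hprim : ∀ {H V : Type u} [Group H] [Finite H] [Group.IsSolvable H] [AddCommGroup V]
      [DistribMulAction H V] [Finite V] [Nontrivial V],
      NoDecomp H V → Semi H V → Faith H V → Good H V) :
    ∀ (N : ℕ) {H V : Type u} [Group H] [Finite H] [Group.IsSolvable H] [AddCommGroup V]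
      [DistribMulAction H V] [Finite V] [Nontrivial V],
      Nat.card V = N → Semi H V → Faith H V → Good H V := by
  intro N
  induction N using Nat.strong_induction_on with
  | _ N ih =>
    intro H V _ _ _ _ _ _ _ hN hs hf
    by_cases hd : ∃ r, Nonempty (Decomp H V r)
    swap
    · exact hprim (fun r D => hd ⟨r, ⟨D⟩⟩) hs hf
    obtain ⟨r, D, hD⟩ := exists_minimal_decomp hd
    have hfaith : ∀ i, Faith (partGroup D i) (D.part i) := fun i => faith_units _
    have hnt : ∀ i, Nontrivial (D.part i) := fun i =>
      Finite.one_lt_card_iff_nontrivial.1 (D.one_lt_card_part i)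
    rcases hD with ⟨hr, h1⟩ | ⟨htrans, hprimK⟩
    · subst hr
      have hgood : ∀ i, Good (partGroup D i) (D.part i) := fun i => by
        haveI := isSolvable_partGroup D i
        haveI := hnt i
        exact ih _ (hN ▸ D.card_part_lt i) rfl (semi_part_of_trivial D hs h1 i) (hfaith i)
      choose j hj2 hj5 a ha hda using hgood
      obtain ⟨i₀, i₁, hne, hle⟩ : ∃ i₀ i₁ : Fin 2, i₀ ≠ i₁ ∧ j i₁ ≤ j i₀ := by
        rcases le_total (j 0) (j 1) with h | h
        · exact ⟨1, 0, by decide, h⟩
        · exact ⟨0, 1, by decide, h⟩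
      have hcase : ∀ i, i = i₀ ∨ i = i₁ := fun i => by omega
      let x : Fin (j i₀) → ∀ i, D.part i := fun k i =>
        if h : i = i₀ then h ▸ a i₀ k else a i ⟨0, by have := hj2 i; omega⟩
      refine ⟨j i₀, hj2 _, hj5 _, fun k => ∑ i, (x k i : V), fun k l g e => ?_, fun k =>
        dl_stabilizer_of_trivial D hf h1 (x k) fun i => ?_⟩
      · obtain ⟨p, hp, hpe⟩ := eq_of_smul_sum_of_trivial D h1 (x k) (x l) e i₀
        have hx : ∀ k, x k i₀ = a i₀ k := fun k => dif_pos rfl
        rw [hx, hx] at hpe
        exact ha i₀ k l ⟨p, hp⟩ hpe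
      · by_cases h : i = i₀
        · subst h
          rw [show x k i = a i k from dif_pos rfl]
          exact hda i k
        · rw [show x k i = a i ⟨0, by have := hj2 i; omega⟩ from dif_neg h]
          exact (hda i _).mono (by rcases hcase i with rfl | rfl <;> omega)
    · have hr := D.two
      let i₀ : Fin r := ⟨0, by omega⟩
      haveI := isSolvable_partGroup D i₀
      haveI := hnt i₀
      obtain ⟨j, hj2, hj5, a, ha, hda⟩ :=
        ih _ (hN ▸ D.card_part_lt i₀) rfl (semi_partGroup D hs htrans i₀) (hfaith i₀)
      obtain ⟨w, hw, hwdl⟩ := exists_colour_vectors D hf htrans i₀ a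
        (fun k l g hg e => ha k l ⟨g, hg⟩ e) hda
      obtain ⟨c, hc, hcdl⟩ := colours_of_primitive hr hj2 hj5
        (SolvKGV.isSolvable_range D.perm)
        (fun x y => by obtain ⟨h, e⟩ := htrans x y; exact ⟨_, ⟨h, rfl⟩, e⟩) hprimK
      refine ⟨(target j r).2, ?_, ?_, fun k => w (c k), fun k l g e => hc k l _ ⟨g, rfl⟩
        (hw _ _ g e), fun k => (hwdl _ _ (hcdl k)).mono ?_⟩
      all_goals
        simp only [target]
        split_ifs <;> simp only <;> omega

/-- A good family gives one vector. -/
theorem exists_dl_nine (h : Good H V) : ∃ v : V, DL (stabilizer H v) 9 := by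
  obtain ⟨j, hj2, hj5, v, -, hv⟩ := h
  exact ⟨v ⟨0, by omega⟩, (hv _).mono (by omega)⟩

/-- A family of inequivalent vectors from a large set. -/
theorem exists_inequivalent {S : Finset V} :
    ∀ k : ℕ, k * Nat.card H < S.card + Nat.card H →
      ∃ v : Fin k → V, (∀ a b, ∀ g : H, g • v a = v b → a = b) ∧ ∀ a, v a ∈ S := by
  classical
  haveI := Fintype.ofFinite H
  intro k
  induction k with
  | zero => exact fun _ => ⟨Fin.elim0, fun a => a.elim0, fun a => a.elim0⟩
  | succ k ih =>
    intro hk
    obtain ⟨v, hv, hvS⟩ := ih (by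
      have : k * Nat.card H ≤ (k + 1) * Nat.card H := Nat.mul_le_mul_right _ (by omega)
      omega)
    let O : Finset V := (Finset.univ : Finset (Fin k × H)).image fun p => p.2 • v p.1
    have hO : O.card ≤ k * Nat.card H := by
      refine Finset.card_image_le.trans (le_of_eq ?_)
      rw [Finset.card_univ, Fintype.card_prod, Fintype.card_fin, Nat.card_eq_fintype_card]
    obtain ⟨x, hxS, hxO⟩ := Finset.exists_mem_notMem_of_card_lt_card
      (s := O) (t := S) (by rw [Nat.succ_mul] at hk; omega)
    have hnx : ∀ (a : Fin k) (g : H), g • v a ≠ x := fun a g e =>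
      hxO (Finset.mem_image.2 ⟨(a, g), Finset.mem_univ _, e⟩)
    refine ⟨Fin.snoc v x, fun a b g e => ?_, fun a => ?_⟩
    · induction a using Fin.lastCases with
      | last =>
        induction b using Fin.lastCases with
        | last => rfl
        | cast b =>
          rw [Fin.snoc_last, Fin.snoc_castSucc] at e
          exact absurd (by rw [← e, inv_smul_smul]) (hnx b g⁻¹)
      | cast a =>
        induction b using Fin.lastCases with
        | last =>
          rw [Fin.snoc_last, Fin.snoc_castSucc] at e
          exact absurd e (hnx a g)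
        | cast b =>
          rw [Fin.snoc_castSucc, Fin.snoc_castSucc] at e
          rw [hv a b g e]
    · induction a using Fin.lastCases with
      | last => rw [Fin.snoc_last]; exact hxS
      | cast a => rw [Fin.snoc_castSucc]; exact hvS a

end CfsgLib.StabLength
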