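import Cfsg.Agent.StabLength.Basic
import Cfsg.Agent.SolvKGV.Inner
import Cfsg.Agent.SolvKGV.KBound

/-!
# Derived length and the layers of a linear group without decomposition
-/

set_option autoImplicit false
set_option linter.unusedSectionVars false
set_option linter.style.haveILetI false

namespace CfsgLib.StabLength

open CfsgLib.SolvKGV

universe u

variable {H : Type u} [Group H] [Finite H] {V : Type u} [AddCommGroup V] [DistribMulAction H V]
  [Finite V] (P : Prim H V)

theorem mem_C_comm {c a : H} (hc : c ∈ Subgroup.centralizer (P.A : Set H)) (ha : a ∈ P.A) :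
    c * a = a * c :=
  (Subgroup.mem_centralizer_iff.1 hc a ha).symm

theorem A_le_C : P.A ≤ Subgroup.centralizer (P.A : Set H) :=
  fun a ha => Subgroup.mem_centralizer_iff.2 fun b hb => P.comm b hb a ha

/-- The quotient by the centraliser of `A` is abelian, and trivial if the field has prime order. -/
theorem dl_add_of_centralizer_inf {d : ℕ} (K : Subgroup H)
    (hd : DL (K ⊓ Subgroup.centralizer (P.A : Set H) : Subgroup H) d) :
    DL K ((if P.e = 1 then 0 else 1) + d) := by
  haveI := P.normalA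
  haveI := P.cyclic
  let f : H →* MulAut P.A := MulAut.conjNormal
  have hker : f.ker = Subgroup.centralizer (P.A : Set H) := by
    ext h
    rw [MonoidHom.mem_ker, Subgroup.mem_centralizer_iff]
    constructor
    · intro hh a ha
      have e := congrArg (fun φ : MulAut P.A => ((φ ⟨a, ha⟩ : P.A) : H)) hh
      simp only [f, MulAut.conjNormal_apply, MulAut.one_apply] at e
      exact (mul_inv_eq_iff_eq_mul.1 e).symm
    · intro hh
      refine MulEquiv.ext fun a => Subtype.ext ?_
      show ((MulAut.conjNormal h a : P.A) : H) = a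
      rw [MulAut.conjNormal_apply, ← hh a a.2, mul_inv_cancel_right]
  let g : (f.comp K.subtype).ker →* (K ⊓ Subgroup.centralizer (P.A : Set H) : Subgroup H) :=
    { toFun := fun x => ⟨((x : K) : H), (x : K).2, hker.le x.2⟩
      map_one' := rfl
      map_mul' := fun _ _ => rfl }
  refine DL.of_hom (f.comp K.subtype) (DL.of_le (L := f.range) ?_ ?_)
    (hd.of_injective g fun x y e => Subtype.ext (Subtype.ext (congrArg (fun z => (z : (K ⊓ Subgroup.centralizer (P.A : Set H) : Subgroup H)).1) e)))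
  rotate_left
  · rintro _ ⟨x, rfl⟩; exact ⟨x, rfl⟩
  by_cases he : P.e = 1
  · rw [if_pos he]
    haveI : Subsingleton f.range := ⟨fun a b => by
      have h1 : ∀ x : f.range, x = 1 := by
        rintro ⟨_, h, rfl⟩
        refine Subtype.ext (MonoidHom.mem_ker.1 ?_)
        have hi := P.index_le
        rw [he] at hi
        have : Subgroup.centralizer (P.A : Set H) = ⊤ := Subgroup.index_eq_one.1 (by
          have := Subgroup.index_ne_zero_of_finite (H := Subgroup.centralizer (P.A : Set H))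
          omega)
        rw [hker, this]
        exact Subgroup.mem_top h
      rw [h1 a, h1 b]⟩
    exact dl_of_subsingleton 0
  · rw [if_neg he]
    refine dl_one_of_comm fun φ ψ => Subtype.ext (MulEquiv.ext fun a => ?_)
    obtain ⟨i, hi⟩ := MonoidHom.map_cyclic (φ.1).toMonoidHom
    obtain ⟨j, hj⟩ := MonoidHom.map_cyclic (ψ.1).toMonoidHom
    have hi' : ∀ y, (φ.1 : MulAut P.A) y = y ^ i := hi
    have hj' : ∀ y, (ψ.1 : MulAut P.A) y = y ^ j := hj
    show φ.1 (ψ.1 a) = ψ.1 (φ.1 a)
    rw [hj', hi', hi', hj', ← zpow_mul, ← zpow_mul, mul_comm]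

theorem dl_add_of_centralizer {d : ℕ} (hd : DL (Subgroup.centralizer (P.A : Set H)) d) :
    DL H ((if P.e = 1 then 0 else 1) + d) :=
  (dl_add_of_centralizer_inf P ⊤ (hd.of_le inf_le_right)).congr Subgroup.topEquiv

theorem dl_two_of_centralizer_eq (hC : Subgroup.centralizer (P.A : Set H) = P.A) : DL H 2 := by
  refine (dl_add_of_centralizer P (d := 1) ?_).mono (by split_ifs <;> omega)
  rw [hC]
  exact dl_one_of_comm fun a b => Subtype.ext (P.comm a a.2 b b.2)

variable {P} (I : Inner P)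

theorem B_comm_A {b a : H} (hb : b ∈ I.B) (ha : a ∈ P.A) : b * a = a * b :=
  mem_C_comm P (I.BC hb) ha

theorem dl_B : DL I.B 2 := by
  refine dl_succ_of_commutator (n := 1) (dl_one_of_comm fun x y => Subtype.ext (Subtype.ext ?_))
  have hle : ∀ z ∈ commutator I.B, ((z : I.B) : H) ∈ P.A := by
    intro z hz
    have : commutator I.B ≤ P.A.comap I.B.subtype := by
      rw [commutator_def, Subgroup.commutator_le]
      exact fun a _ b _ => I.com a a.2 b b.2
    exact this hz
  exact P.comm _ (hle _ x.2) _ (hle _ y.2)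

theorem dl_centralizer {d : ℕ} (hd : DL I.f.range d) :
    DL (Subgroup.centralizer (P.A : Set H)) (d + 2) :=
  DL.of_hom I.f hd ((dl_B I).congr
    ((MulEquiv.subgroupCongr I.ker_f).trans (Subgroup.subgroupOfEquivOfLe I.BC)).symm)

theorem dl_of_inner {d : ℕ} (hd : DL I.f.range d) : DL H ((if P.e = 1 then 0 else 1) + (d + 2)) :=
  dl_add_of_centralizer P (dl_centralizer I hd)

/-- An element of the centraliser of `A` acting trivially on `B/A` lies in `B`. -/
theorem mem_B_of_com {c : H} (hc : c ∈ Subgroup.centralizer (P.A : Set H))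
    (h : ∀ b ∈ I.B, c * b * c⁻¹ * b⁻¹ ∈ P.A) : c ∈ I.B := by
  classical
  let X : Subgroup H :=
    { carrier := {x | x ∈ Subgroup.centralizer (P.A : Set H) ∧ ∀ b ∈ I.B, x * b * x⁻¹ * b⁻¹ ∈ P.A}
      one_mem' := ⟨one_mem _, fun b _ => by simp [P.A.one_mem]⟩
      mul_mem' := fun {x y} hx hy => ⟨mul_mem hx.1 hy.1, fun b hb => by
        have h1 := hy.2 b hb
        have h2 := hx.2 b hb
        have e : x * y * b * (x * y)⁻¹ * b⁻¹ =
            (y * b * y⁻¹ * b⁻¹) * (x * b * x⁻¹ * b⁻¹) := by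
          have hc' := mem_C_comm P hx.1 h1
          calc x * y * b * (x * y)⁻¹ * b⁻¹
              = (x * (y * b * y⁻¹ * b⁻¹)) * (b * x⁻¹ * b⁻¹) := by group
            _ = ((y * b * y⁻¹ * b⁻¹) * x) * (b * x⁻¹ * b⁻¹) := by rw [hc']
            _ = _ := by group
        rw [e]
        exact mul_mem h1 h2⟩
      inv_mem' := fun {x} hx => ⟨inv_mem hx.1, fun b hb => by
        have h1 := inv_mem (hx.2 b hb)
        have hc' := mem_C_comm P (inv_mem hx.1) h1
        have e : x⁻¹ * b * x⁻¹⁻¹ * b⁻¹ = x⁻¹ * (x * b * x⁻¹ * b⁻¹)⁻¹ * x := by group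
        rw [e, hc', inv_mul_cancel_right]
        exact h1⟩ }
  have hBX : I.B ≤ X := fun b hb => ⟨I.BC hb, fun y hy => I.com b hb y hy⟩
  have hp := card_pairing_le P.cyclic X I.B P.A I.AB (fun x hx y hy => hx.2 y hy)
    (fun x hx a ha => mem_C_comm P hx.1 ha) (fun y hy a ha => B_comm_A I hy ha) P.comm
    (fun x hx z hz => mem_C_comm P hx.1 hz) (fun y hy y' hy' => I.com y hy y' hy')
  have hle : Nat.card (X ⊓ Subgroup.centralizer (I.B : Set H) : Subgroup H) ≤ Nat.card P.A :=
    Subgroup.card_le_of_le fun x hx => I.cenB.le ⟨hx.1.1, hx.2⟩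
  have hX : Nat.card X ≤ Nat.card I.B :=
    Nat.le_of_mul_le_mul_right (hp.trans (Nat.mul_le_mul_left _ hle)) Nat.card_pos
  exact (Subgroup.eq_of_le_of_card_ge hBX hX).ge ⟨hc, h⟩

theorem exists_noncommuting {b : H} (hb : b ∈ I.B) (hbA : b ∉ P.A) :
    ∃ y ∈ I.B, b * y * b⁻¹ * y⁻¹ ≠ 1 := by
  by_contra! hall
  exact hbA (I.cenB.le ⟨I.BC hb, Subgroup.mem_centralizer_iff.2 fun y hy =>
    (mul_inv_eq_iff_eq_mul.1 (mul_inv_eq_one.1 (hall y hy))).symm⟩)

/-- For `M = 3` the outer group preserves the pairing, so has order at most `24`. -/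
theorem card_range_le_of_three (hM : I.M = 3) : Nat.card I.f.range ≤ 24 := by
  classical
  haveI := P.normalA
  set B := I.B
  set a := Nat.card P.A
  have hBc : Nat.card B = a * 9 := by rw [I.card_B, hM]; rfl
  have hdvd : ∀ K : Subgroup H, P.A ≤ K → K ≤ B → K ≠ B → Nat.card K ≤ a * 3 := by
    intro K hAK hKB hne
    obtain ⟨s, hs⟩ := Subgroup.card_dvd_of_le hAK
    have h1 : a * s ∣ a * 9 := hs ▸ hBc ▸ Subgroup.card_dvd_of_le hKB
    have h2 : s ∣ 3 ^ 2 := (Nat.mul_dvd_mul_iff_left (Nat.card_pos (α := P.A))).1 h1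
    obtain ⟨j, hj, rfl⟩ := (Nat.dvd_prime_pow Nat.prime_three).1 h2
    rw [hs]
    refine Nat.mul_le_mul_left _ ((Nat.pow_le_pow_right (by norm_num) ?_).trans_eq (pow_one 3))
    by_contra! hj2
    obtain rfl : j = 2 := by omega
    exact hne (Subgroup.eq_of_le_of_card_ge hKB (by rw [hs, hBc]; exact le_rfl))
  let A' := P.A.subgroupOf B
  let q := QuotientGroup.mk' A'
  have hq9 : Nat.card (B ⧸ A') = 9 := by
    have h := Subgroup.card_eq_card_quotient_mul_card_subgroup A'
    rw [Nat.card_congr (Subgroup.subgroupOfEquivOfLe I.AB).toEquiv, hBc] at h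
    exact Nat.eq_of_mul_eq_mul_right (Nat.card_pos (α := P.A)) (by rw [← h, mul_comm])
  obtain ⟨x, hx⟩ : ∃ x : B, (x : H) ∉ P.A := by
    by_contra! h
    have := Subgroup.card_le_of_le (show B ≤ P.A from fun b hb => h ⟨b, hb⟩)
    rw [hBc] at this
    have := Nat.card_pos (α := P.A)
    omega
  obtain ⟨y₀, hy₀, hxy⟩ := exists_noncommuting I x.2 hx
  let y : B := ⟨y₀, hy₀⟩
  set z : H := (x : H) * y * (x : H)⁻¹ * (y : H)⁻¹ with hz
  let S : Finset ((B ⧸ A') × (B ⧸ A')) :=
    letI := Fintype.ofFinite (B ⧸ A')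
    Finset.univ.filter fun p => ∃ u v : B, q u = p.1 ∧ q v = p.2 ∧
      (u : H) * v * (u : H)⁻¹ * (v : H)⁻¹ = z
  let C := Subgroup.centralizer (P.A : Set H)
  let conj : C → B → B := fun c b => ⟨(c : H) * b * (c : H)⁻¹, I.normalB.conj_mem b b.2 c⟩
  have hzA : z ∈ P.A := I.com x x.2 y y.2
  let Φ : C → (B ⧸ A') × (B ⧸ A') := fun c => (q (conj c x), q (conj c y))
  have hΦS : ∀ c, Φ c ∈ S := fun c => by
    refine Finset.mem_filter.2 ⟨by simp,
      conj c x, conj c y, rfl, rfl, ?_⟩
    show (c : H) * x * (c : H)⁻¹ * ((c : H) * y * (c : H)⁻¹) * ((c : H) * x * (c : H)⁻¹)⁻¹ *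
      ((c : H) * y * (c : H)⁻¹)⁻¹ = z
    calc _ = (c : H) * z * (c : H)⁻¹ := by rw [hz]; group
      _ = z := by rw [mem_C_comm P c.2 hzA, mul_inv_cancel_right]
  -- the fibres lie in cosets of the kernel
  have hgen : ∀ K : Subgroup H, P.A ≤ K → (x : H) ∈ K → (y : H) ∈ K → B ≤ K := by
    intro K hAK hxK hyK
    by_contra hne
    set T := P.A ⊔ Subgroup.zpowers (x : H) with hT
    have hTB : T ≤ B := sup_le I.AB (Subgroup.zpowers_le.2 x.2)
    have hyT : (y : H) ∉ T := fun hy => by
      apply hxy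
      have : T ≤ Subgroup.centralizer {(x : H)} := sup_le
        (fun t ht => Subgroup.mem_centralizer_singleton_iff.2 (B_comm_A I x.2 ht).symm)
        (Subgroup.zpowers_le.2 (Subgroup.mem_centralizer_singleton_iff.2 rfl))
      have e := Subgroup.mem_centralizer_singleton_iff.1 (this hy)
      show (x : H) * y * (x : H)⁻¹ * (y : H)⁻¹ = 1
      rw [← e]; group
    set T' := T ⊔ Subgroup.zpowers (y : H)
    have hT'B : T' = B := by
      refine Subgroup.eq_of_le_of_card_ge (sup_le hTB (Subgroup.zpowers_le.2 y.2)) ?_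
      by_contra! hlt
      have h1 := hdvd T' (le_sup_left.trans le_sup_left) (sup_le hTB (Subgroup.zpowers_le.2 y.2))
        (fun e => by rw [e] at hlt; exact lt_irrefl _ hlt)
      obtain ⟨s, hs⟩ := Subgroup.card_dvd_of_le (le_sup_left : P.A ≤ T)
      have hTlt : Nat.card T < Nat.card T' := by
        refine lt_of_le_of_ne (Subgroup.card_le_of_le le_sup_left) fun e => hyT ?_
        rw [Subgroup.eq_of_le_of_card_ge (le_sup_left : T ≤ T') e.ge]
        exact Subgroup.mem_sup_right (Subgroup.mem_zpowers _)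
      have hAT : Nat.card P.A < Nat.card T := by
        refine lt_of_le_of_ne (Subgroup.card_le_of_le le_sup_left) fun e => hx ?_
        rw [Subgroup.eq_of_le_of_card_ge (le_sup_left : P.A ≤ T) e.ge]
        exact Subgroup.mem_sup_right (Subgroup.mem_zpowers _)
      obtain ⟨s', hs'⟩ := Subgroup.card_dvd_of_le
        ((le_sup_left : P.A ≤ T).trans (le_sup_left : T ≤ T'))
      have h3 : s' ≤ 3 := by rw [hs'] at h1; exact Nat.le_of_mul_le_mul_left h1 Nat.card_pos
      have h4 : 1 < s ∧ s < s' := by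
        rw [hs] at hAT hTlt
        rw [hs'] at hTlt
        exact ⟨Nat.lt_of_mul_lt_mul_left (a := a) (by rwa [mul_one]),
          Nat.lt_of_mul_lt_mul_left hTlt⟩
      have hs9 : s ∣ 3 ^ 2 :=
        (Nat.mul_dvd_mul_iff_left (Nat.card_pos (α := P.A))).1
          (by rw [← hs]; exact hBc ▸ Subgroup.card_dvd_of_le hTB)
      obtain ⟨j, -, rfl⟩ := (Nat.dvd_prime_pow Nat.prime_three).1 hs9
      rcases Nat.eq_zero_or_pos j with rfl | hj
      · simp at h4
      · have : 3 ≤ 3 ^ j := Nat.le_self_pow hj.ne' 3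
        omega
    exact hne (hT'B ▸ sup_le (sup_le hAK (Subgroup.zpowers_le.2 hxK)) (Subgroup.zpowers_le.2 hyK))
  have hfib : ∀ c d : C, Φ c = Φ d → ((c : H)⁻¹ * d) ∈ B := by
    intro c d e
    have key : ∀ b : B, q (conj c b) = q (conj d b) →
        ((c : H)⁻¹ * d) * b * ((c : H)⁻¹ * d)⁻¹ * (b : H)⁻¹ ∈ P.A := by
      intro b hb
      have h1 : ((conj c b : B) : H)⁻¹ * (conj d b : B) ∈ P.A := by
        have := QuotientGroup.eq.1 hb
        exact this
      have h2 := P.normalA.conj_mem _ h1 (c : H)⁻¹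
      have e2 : (c : H)⁻¹ * (((conj c b : B) : H)⁻¹ * (conj d b : B)) * (c : H)⁻¹⁻¹ =
          (b : H)⁻¹ * (((c : H)⁻¹ * d) * b * ((c : H)⁻¹ * d)⁻¹) := by
        simp only [conj]; group
      rw [e2] at h2
      have h3 := P.normalA.conj_mem _ h2 (b : H)
      have e3 : (b : H) * ((b : H)⁻¹ * (((c : H)⁻¹ * d) * b * ((c : H)⁻¹ * d)⁻¹)) * (b : H)⁻¹ =
          ((c : H)⁻¹ * d) * b * ((c : H)⁻¹ * d)⁻¹ * (b : H)⁻¹ := by group
      rwa [e3] at h3
    set g := (c : H)⁻¹ * d
    have hgC : g ∈ C := mul_mem (inv_mem c.2) d.2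
    refine mem_B_of_com I hgC fun b hb => ?_
    let K : Subgroup H :=
      { carrier := {b | b ∈ B ∧ g * b * g⁻¹ * b⁻¹ ∈ P.A}
        one_mem' := ⟨one_mem _, by simp [P.A.one_mem]⟩
        mul_mem' := fun {u v} hu hv => ⟨mul_mem hu.1 hv.1, by
          have e' : g * (u * v) * g⁻¹ * (u * v)⁻¹ =
              (g * u * g⁻¹ * u⁻¹) * (u * (g * v * g⁻¹ * v⁻¹) * u⁻¹) := by group
          rw [e']
          exact mul_mem hu.2 (P.normalA.conj_mem _ hv.2 u)⟩
        inv_mem' := fun {u} hu => ⟨inv_mem hu.1, by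
          have e' : g * u⁻¹ * g⁻¹ * u⁻¹⁻¹ = u⁻¹ * (g * u * g⁻¹ * u⁻¹)⁻¹ * u⁻¹⁻¹ := by group
          rw [e']
          exact P.normalA.conj_mem _ (inv_mem hu.2) _⟩ }
    exact (hgen K (fun t ht => ⟨I.AB ht, by
      rw [mem_C_comm P hgC ht, mul_inv_cancel_right, mul_inv_cancel]; exact one_mem _⟩)
      ⟨x.2, key x (congrArg Prod.fst e)⟩ ⟨y.2, key y (congrArg Prod.snd e)⟩ hb).2
  have hrange : Nat.card I.f.range ≤ S.card := by
    rw [← Nat.card_congr (QuotientGroup.quotientKerEquivRange I.f).toEquiv,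
      ← Nat.card_eq_finsetCard S]
    refine Nat.card_le_card_of_injective (fun k => (⟨Φ k.out, hΦS _⟩ : S)) fun k k' e => ?_
    rw [← k.out_eq, ← k'.out_eq]
    refine QuotientGroup.eq.2 ((SetLike.ext_iff.1 I.ker_f _).2 ?_)
    show ((k.out⁻¹ * k'.out : C) : H) ∈ I.B
    exact hfib _ _ (congrArg Subtype.val e)
  refine hrange.trans ?_
  letI := Fintype.ofFinite (B ⧸ A')
  calc S.card ≤ ((Finset.univ.erase (1 : B ⧸ A')).biUnion
        fun u => (S.filter fun p => p.1 = u)).card := by
        refine Finset.card_le_card fun p hp => Finset.mem_biUnion.2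
          ⟨p.1, Finset.mem_erase.2 ⟨fun h1 => ?_, Finset.mem_univ _⟩, Finset.mem_filter.2 ⟨hp, rfl⟩⟩
        obtain ⟨u, v, hu, -, huv⟩ := (Finset.mem_filter.1 hp).2
        rw [h1] at hu
        have huA : (u : H) ∈ P.A := (QuotientGroup.eq_one_iff u).1 hu
        apply hxy
        show z = 1
        rw [← huv, ← B_comm_A I v.2 huA]; group
    _ ≤ ∑ u ∈ Finset.univ.erase (1 : B ⧸ A'), (S.filter fun p => p.1 = u).card :=
        Finset.card_biUnion_le
    _ ≤ ∑ _u ∈ Finset.univ.erase (1 : B ⧸ A'), 3 := by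
        refine Finset.sum_le_sum fun w hw => ?_
        rcases (S.filter fun p => p.1 = w).eq_empty_or_nonempty with h | ⟨p₀, hp₀⟩
        · rw [h]; simp
        obtain ⟨hp₀S, hp₀1⟩ := Finset.mem_filter.1 hp₀
        obtain ⟨u, v₀, hu, hv₀, huv₀⟩ := (Finset.mem_filter.1 hp₀S).2
        let K : Subgroup H := B ⊓ Subgroup.centralizer {(u : H)}
        have hAK : P.A ≤ K := fun t ht => ⟨I.AB ht,
          Subgroup.mem_centralizer_singleton_iff.2 (B_comm_A I u.2 ht).symm⟩
        have hKne : K ≠ B := fun e => by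
          apply (Finset.mem_erase.1 hw).1
          rw [← hp₀1, ← hu]
          refine (QuotientGroup.eq_one_iff u).2 (I.cenB.le ⟨I.BC u.2,
            Subgroup.mem_centralizer_iff.2 fun t ht => ?_⟩)
          have ht' : t ∈ K := (SetLike.ext_iff.1 e t).2 ht
          exact Subgroup.mem_centralizer_singleton_iff.1 ht'.2
        let K' := (K.subgroupOf B).map q
        have hK' : Nat.card K' ≤ 3 := by
          have h1 := Subgroup.card_eq_card_quotient_mul_card_subgroup
            (((q.comp (K.subgroupOf B).subtype)).ker)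
          rw [Nat.card_congr (QuotientGroup.quotientKerEquivRange _).toEquiv,
            Nat.card_congr (Subgroup.subgroupOfEquivOfLe (inf_le_left : K ≤ B)).toEquiv] at h1
          have hr : (q.comp (K.subgroupOf B).subtype).range = K' := by
            rw [MonoidHom.range_comp, Subgroup.range_subtype]
          rw [hr] at h1
          have h2 : a ≤ Nat.card (q.comp (K.subgroupOf B).subtype).ker := by
            refine Nat.card_le_card_of_injective (fun t => ⟨⟨⟨t, I.AB t.2⟩, hAK t.2⟩,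
              (QuotientGroup.eq_one_iff _).2 t.2⟩) fun t t' e => ?_
            exact Subtype.ext (congrArg (fun s => ((s.1.1 : B) : H)) e)
          have h3 := hdvd K hAK inf_le_left hKne
          have h4 : Nat.card K' * a ≤ a * 3 := (Nat.mul_le_mul_left _ h2).trans (h1.symm.le.trans h3)
          rw [mul_comm a 3] at h4
          exact Nat.le_of_mul_le_mul_right h4 Nat.card_pos
        refine le_trans ?_ hK'
        rw [← Nat.card_eq_finsetCard]
        refine Nat.card_le_card_of_injective (fun p => ⟨(q v₀)⁻¹ * p.1.2, ?_⟩) fun p p' e => ?_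
        · obtain ⟨hpS, hp1⟩ := Finset.mem_filter.1 p.2
          obtain ⟨u', v, hu', hv, huv⟩ := (Finset.mem_filter.1 hpS).2
          refine ⟨v₀⁻¹ * v, ?_, by rw [map_mul, map_inv, hv]⟩
          refine ⟨(v₀⁻¹ * v).2, Subgroup.mem_centralizer_singleton_iff.2 ?_⟩
          have hd : (u : H)⁻¹ * u' ∈ P.A :=
            (QuotientGroup.eq (s := A')).1 (show q u = q u' by rw [hu, hu', hp₀1, hp1])
          obtain ⟨t, ht, hut⟩ : ∃ t ∈ P.A, (u' : H) = u * t := ⟨_, hd, by group⟩
          rw [hut] at huv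
          have h5 : (u : H) * v * (u : H)⁻¹ * (v : H)⁻¹ = z := by
            rw [← huv]
            have e5 := B_comm_A I v.2 ht
            calc (u : H) * v * (u : H)⁻¹ * (v : H)⁻¹
                = (u : H) * ((v : H) * t) * t⁻¹ * (u : H)⁻¹ * (v : H)⁻¹ := by group
              _ = (u : H) * (t * v) * t⁻¹ * (u : H)⁻¹ * (v : H)⁻¹ := by rw [e5]
              _ = _ := by group
          have h6 : (u : H) * v₀ * (u : H)⁻¹ * (v₀ : H)⁻¹ = (u : H) * v * (u : H)⁻¹ * (v : H)⁻¹ :=
            huv₀.trans h5.symm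
          set k := (u : H) * v₀ * (u : H)⁻¹ * (v₀ : H)⁻¹
          have h7 : (u : H) * v₀ * (u : H)⁻¹ = k * v₀ := by simp only [k]; group
          have h8 : (u : H) * v * (u : H)⁻¹ = k * v := by rw [h6]; group
          show ((v₀⁻¹ * v : B) : H) * u = u * ((v₀⁻¹ * v : B) : H)
          rw [Subgroup.coe_mul, Subgroup.coe_inv]
          refine (mul_inv_eq_iff_eq_mul.1 (Eq.symm ?_)).symm
          calc (v₀ : H)⁻¹ * v = (k * v₀)⁻¹ * (k * v) := by group
            _ = ((u : H) * v₀ * (u : H)⁻¹)⁻¹ * ((u : H) * v * (u : H)⁻¹) := by rw [h7, h8]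
            _ = _ := by group
        · refine Subtype.ext (Prod.ext ?_ (mul_left_cancel (congrArg Subtype.val e)))
          rw [(Finset.mem_filter.1 p.2).2, (Finset.mem_filter.1 p'.2).2]
    _ = 24 := by
        rw [Finset.sum_const, Finset.card_erase_of_mem (Finset.mem_univ _), Finset.card_univ,
          ← Nat.card_eq_fintype_card, hq9]
        rfl

end CfsgLib.StabLength
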