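import Cfsg.Agent.StabLength.PermStep
import Cfsg.Agent.StabLength.Inner
import Cfsg.Agent.SolvKGV.OrderBound

/-!
# The derived length of solvable linear groups: the inductive step
-/

set_option autoImplicit false
set_option linter.unusedSectionVars false
set_option linter.style.haveILetI false

namespace CfsgLib.StabLength

open CfsgLib.SolvKGV

universe u

/-- A bound for the derived length of the outer group with given `M`. -/
structure DInner.{v} (M d : ℕ) : Prop where
  /-- the bound -/
  dl : ∀ {H : Type v} [Group H] [Finite H] [Group.IsSolvable H] {V : Type v} [AddCommGroup V]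
    [DistribMulAction H V] [Finite V] (P : Prim H V) (I : SolvKGV.Inner P),
    I.M = M → DL I.f.range d

theorem DLB.mono {q n b b' : ℕ} (h : DLB.{u} q n b) (hb : b ≤ b') : DLB.{u} q n b' :=
  ⟨fun h1 h2 h3 => (h.dl h1 h2 h3).mono hb⟩

theorem DInner.mono {M d d' : ℕ} (h : DInner.{u} M d) (hd : d ≤ d') : DInner.{u} M d' :=
  ⟨fun P I hI => (h.dl P I hI).mono hd⟩

theorem semi_part_of_trivial {H : Type u} [Group H] [Finite H] {V : Type u} [AddCommGroup V]
    [DistribMulAction H V] [Finite V] {r : ℕ} (D : Decomp H V r) (hs : Semi H V)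
    (h1 : ∀ h, D.perm h = 1) (i : Fin r) :
    Semi (partGroup D i) (D.part i) := by
  have hinv : IsInv H (D.part i) := fun h u hu => by
    have e := smul_mem_part D h hu
    rwa [h1, Equiv.Perm.one_apply] at e
  letI := subAction hinv
  letI := subAction (isInv_labelStab D i)
  let φ : H →* partGroup D i :=
    (repHom (labelStab D i) (D.part i)).rangeRestrict.comp
      { toFun := fun h => ⟨h, (mem_labelStab D).2 (by rw [h1, Equiv.Perm.one_apply])⟩
        map_one' := rfl
        map_mul' := fun a b => rfl }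
  refine semi_congr φ ?_ (fun h x => rfl) (semi_restrict hs hinv)
  rintro ⟨_, ⟨h, hh⟩, rfl⟩
  exact ⟨h, rfl⟩

/-- Completely reducible groups split along the primes. -/
theorem dl_of_primary {d : ℕ} : ∀ (N : ℕ) {H : Type u} [Group H] [Finite H] [Group.IsSolvable H]
    {W : Type u} [AddCommGroup W] [DistribMulAction H W] [Finite W],
    Nat.card W = N → Semi H W → Faith H W →
      (∀ r a : ℕ, r.Prime → r ^ a ∣ N → DLB.{u} r a d) → DL H d := by
  intro N
  induction N using Nat.strong_induction_on with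
  | _ N ih =>
    intro H _ _ _ W _ _ _ hN hs hf hb
    by_cases h1 : N = 1
    · haveI : Subsingleton W := Finite.card_le_one_iff_subsingleton.1 (by omega)
      haveI : Subsingleton H := ⟨fun a b => by
        rw [hf a fun v => Subsingleton.elim _ _, hf b fun v => Subsingleton.elim _ _]⟩
      exact dl_of_subsingleton d
    obtain ⟨r, hr, hrN⟩ := Nat.exists_prime_and_dvd h1
    haveI := Fact.mk hr
    have hN0 : 0 < N := hN ▸ Nat.card_pos
    set a := N.factorization r
    set b := N / r ^ a
    have hab : r ^ a * b = N := Nat.mul_div_cancel' (Nat.ordProj_dvd N r)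
    have hco : (r ^ a).Coprime b := Nat.Coprime.pow_left a (Nat.coprime_ordCompl hr hN0.ne')
    set U := (nsmulAddMonoidHom (α := W) (r ^ a)).ker with hU
    set U' := (nsmulAddMonoidHom (α := W) b).ker with hU'
    have hmem : ∀ (n : ℕ) (w : W), w ∈ (nsmulAddMonoidHom (α := W) n).ker ↔ n • w = 0 :=
      fun n w => by rw [AddMonoidHom.mem_ker, nsmulAddMonoidHom_apply]
    have hinv : ∀ n : ℕ, IsInv H (nsmulAddMonoidHom (α := W) n).ker := fun n h u hu => by
      rw [hmem] at hu ⊢
      rw [← smul_comm, hu, smul_zero]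
    have hprimes : ∀ (n : ℕ) (A : AddSubgroup W), (∀ w ∈ A, n • w = 0) →
        ∀ s : ℕ, s.Prime → s ∣ Nat.card A → s ∣ n := by
      intro n A hA s hs hd
      haveI := Fact.mk hs
      obtain ⟨x, hx⟩ := exists_prime_addOrderOf_dvd_card' s hd
      rw [← hx]
      exact addOrderOf_dvd_of_nsmul_eq_zero (Subtype.ext (by simpa using hA x x.2))
    have hUdvd : Nat.card U ∣ N := hN ▸ U.card_addSubgroup_dvd_card
    have hU'dvd : Nat.card U' ∣ N := hN ▸ U'.card_addSubgroup_dvd_card
    obtain ⟨j, hj⟩ : ∃ j, Nat.card U = r ^ j := ⟨_, Nat.eq_prime_pow_of_unique_prime_dvd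
      Nat.card_pos.ne' fun {s} hs hd => (Nat.prime_dvd_prime_iff_eq hs hr).1 (hs.dvd_of_dvd_pow
        (hprimes _ U (fun w hw => (hmem _ w).1 hw) s hs hd))⟩
    have hU'b : Nat.card U' ∣ b := by
      refine Nat.Coprime.dvd_of_dvd_mul_left ?_ (hab.symm ▸ hU'dvd)
      refine Nat.Coprime.pow_right _ ((Nat.Prime.coprime_iff_not_dvd hr).2 fun hd => ?_).symm
      exact (Nat.Prime.coprime_iff_not_dvd hr).1 (Nat.coprime_ordCompl hr hN0.ne')
        (hprimes _ U' (fun w hw => (hmem _ w).1 hw) r hr hd)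
    letI := subAction (hinv (r ^ a))
    letI act' := subAction (hinv b)
    let g : ∀ t : Bool, H →* (AddMonoid.End (bif t then U else U' : AddSubgroup W))ˣ := fun t =>
      match t with
      | true => repHom H U
      | false => repHom H U'
    refine DL.of_family g (fun h hh => hf h fun w => ?_) fun t => ?_
    · have hu : ∀ u ∈ U, h • u = u := fun u hu =>
        congrArg (fun e : (AddMonoid.End U)ˣ => ((e • (⟨u, hu⟩ : U) : U) : W)) (hh true)
      have hu' : ∀ u ∈ U', h • u = u := fun u hu =>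
        congrArg (fun e : (AddMonoid.End U')ˣ => ((e • (⟨u, hu⟩ : U') : U') : W)) (hh false)
      have hbez := Nat.Coprime.isCoprime hco
      obtain ⟨x, y, hxy⟩ := hbez
      have hw : w = (y * (b : ℤ)) • w + (x * ((r ^ a : ℕ) : ℤ)) • w := by
        rw [← add_smul, add_comm, hxy, one_smul]
      have hN' : ∀ w : W, N • w = 0 := fun w => hN ▸ card_nsmul_eq_zero'
      have m1 : (y * (b : ℤ)) • w ∈ U := by
        rw [hU, hmem, smul_comm, mul_smul, natCast_zsmul, ← mul_smul b (r ^ a), mul_comm b,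
          hab, hN', smul_zero]
      have m2 : (x * ((r ^ a : ℕ) : ℤ)) • w ∈ U' := by
        rw [hU', hmem, smul_comm, mul_smul, natCast_zsmul, ← mul_smul (r ^ a) b, hab, hN', smul_zero]
      rw [hw, smul_add, hu _ m1, hu' _ m2]
    · cases t
      · show DL (repHom H U').range d
        haveI := Group.isSolvable_of_surjective (repHom H U').rangeRestrict_surjective
        refine ih (Nat.card U') ?_ rfl
          (semi_congr (repHom H U').rangeRestrict (MonoidHom.rangeRestrict_surjective _)
            (fun h x => rfl) (semi_restrict hs (hinv b)))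
          (faith_units _) fun s c hs hd => hb s c hs (hd.trans hU'dvd)
        refine lt_of_le_of_lt (Nat.le_of_dvd (Nat.pos_of_dvd_of_pos (Dvd.intro_left _ hab) hN0) hU'b) ?_
        · refine Nat.div_lt_self hN0 (Nat.one_lt_pow ?_ hr.one_lt)
          exact (hr.factorization_pos_of_dvd hN0.ne' hrN).ne'
      · show DL (repHom H U).range d
        haveI := Group.isSolvable_of_surjective (repHom H U).rangeRestrict_surjective
        exact (hb r j hr (hj ▸ hUdvd)).dl hj
          (semi_congr (repHom H U).rangeRestrict (MonoidHom.rangeRestrict_surjective _)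
            (fun h x => rfl) (semi_restrict hs (hinv _))) (faith_units _)

theorem dInner_of_primary {M d : ℕ} (h : ∀ r a : ℕ, r.Prime → r ^ a ∣ M ^ 2 → DLB.{u} r a d) :
    DInner.{u} M d := by
  refine ⟨fun {H} _ _ _ {V} _ _ _ P I hM => ?_⟩
  haveI := isSolvable_range (H := Subgroup.centralizer (P.A : Set H)) I.f
  exact dl_of_primary _ rfl I.semi (faith_units _) (by rw [I.card_W, hM]; exact h)

theorem dInner_two : DInner.{u} 2 2 := by
  refine ⟨fun {H} _ _ _ {V} _ _ _ P I hM => ?_⟩
  haveI := isSolvable_range (H := Subgroup.centralizer (P.A : Set H)) I.f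
  exact dl_two_of_card_le ((card_le_four (faith_units _) (by rw [I.card_W, hM]; rfl)).trans
    (by norm_num))

theorem dInner_three : DInner.{u} 3 3 := by
  refine ⟨fun {H} _ _ _ {V} _ _ _ P I hM => ?_⟩
  haveI := isSolvable_range (H := Subgroup.centralizer (P.A : Set H)) I.f
  exact dl_three_of_card_le (card_range_le_of_three I hM)

/-- One-dimensional groups are abelian. -/
theorem dlB_one (q : ℕ) (hq : q.Prime) : DLB.{u} q 1 (if q = 2 then 0 else 1) := by
  refine ⟨fun {H} _ _ _ {V} _ _ _ hV hs hf => ?_⟩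
  rw [pow_one] at hV
  haveI := Fact.mk hq
  haveI : IsAddCyclic V := isAddCyclic_of_prime_card hV
  by_cases h2 : q = 2
  · rw [if_pos h2]
    have h := card_le_of_prime hf (hV ▸ hq)
    rw [hV, h2] at h
    haveI : Subsingleton H := Finite.card_le_one_iff_subsingleton.1 (by omega)
    exact dl_of_subsingleton 0
  · rw [if_neg h2]
    refine dl_one_of_comm fun a b => ?_
    refine inv_mul_eq_one.1 (hf _ fun v => ?_)
    obtain ⟨i, hi⟩ := AddMonoidHom.map_addCyclic (DistribSMul.toAddMonoidHom V a)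
    obtain ⟨j, hj⟩ := AddMonoidHom.map_addCyclic (DistribSMul.toAddMonoidHom V b)
    have hi' : ∀ y : V, a • y = i • y := hi
    have hj' : ∀ y : V, b • y = j • y := hj
    have e : ∀ y : V, (a * b) • y = (b * a) • y := fun y => by
      rw [mul_smul, mul_smul, hj' y, hi', hi' y, hj', smul_comm]
    rw [mul_smul, ← e v, inv_smul_smul]

/-- Groups with a decomposition. -/
theorem dl_of_decomp {q n b : ℕ} (hq : q.Prime) (F Pf : ℕ → ℕ)
    (hpart : ∀ k, 0 < k → k < n → DLB.{u} q k (F k)) (hF : ∀ k, 0 < k → k < n → F k ≤ b)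
    (hperm : ∀ r, r ∣ n → 2 ≤ r → DLP r (Pf r) ∧ Pf r + F (n / r) ≤ b) {H : Type u} [Group H]
    [Finite H] [Group.IsSolvable H] {V : Type u} [AddCommGroup V] [DistribMulAction H V] [Finite V]
    (hV : Nat.card V = q ^ n) (hs : Semi H V) (hf : Faith H V)
    (hd : ∃ r, Nonempty (Decomp H V r)) : DL H b := by
  obtain ⟨r, D, hD⟩ := exists_minimal_decomp hd
  have hpartk : ∀ i, ∃ k, 0 < k ∧ k < n ∧ Nat.card (D.part i) = q ^ k := by
    intro i
    obtain ⟨k, -, hk⟩ := (Nat.dvd_prime_pow hq).1 (hV ▸ card_part_dvd D i)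
    refine ⟨k, Nat.pos_of_ne_zero fun h0 => ?_, ?_, hk⟩
    · have := D.one_lt_card_part i
      rw [hk, h0, pow_zero] at this
      omega
    · have := D.card_part_lt i
      rw [hk, hV] at this
      exact (Nat.pow_lt_pow_iff_right hq.one_lt).1 this
  have hker : DL D.perm.ker b ∧ (∀ k, (∀ i, Nat.card (D.part i) = q ^ k) →
      DL D.perm.ker (F k)) := by
    have hrep : ∀ i k, 0 < k → k < n → Nat.card (D.part i) = q ^ k →
        DL (D.rep i).range (F k) := by
      intro i k h0 hkn hk
      rw [MonoidHom.range_eq_map]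
      haveI := D.isSolvable_map i (⊤ : Subgroup D.perm.ker)
      exact (hpart k h0 hkn).dl (H := (⊤ : Subgroup D.perm.ker).map (D.rep i)) (V := D.part i) hk (D.semi_rep hs i ⊤) (faith_units _)
    refine ⟨DL.of_family (fun i => D.rep i) (fun m hm => D.rep_faith hf m hm) fun i => ?_,
      fun k hk => DL.of_family (fun i => D.rep i) (fun m hm => D.rep_faith hf m hm) fun i => ?_⟩
    · obtain ⟨k, h0, hkn, hk⟩ := hpartk i
      exact (hrep i k h0 hkn hk).mono (hF k h0 hkn)
    · obtain ⟨k', h0, hkn, hk'⟩ := hpartk i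
      obtain rfl : k = k' := Nat.pow_right_injective hq.two_le ((hk i).symm.trans hk')
      exact hrep i k h0 hkn hk'
  rcases hD with ⟨-, h1⟩ | ⟨htrans, -⟩
  · have hk : D.perm.ker = ⊤ := eq_top_iff.2 fun h _ => h1 h
    exact hker.1.congr ((MulEquiv.subgroupCongr hk).trans Subgroup.topEquiv)
  · have i₀ : Fin r := ⟨0, by have := D.two; omega⟩
    obtain ⟨k, h0, hkn, hk⟩ := hpartk i₀
    have hall : ∀ i, Nat.card (D.part i) = q ^ k := fun i => by
      obtain ⟨h, rfl⟩ := htrans i₀ i
      rw [D.card_part_perm, hk]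
    have hnrk : r * k = n := by
      have h := D.card_eq
      rw [Finset.prod_congr rfl fun i _ => hall i, Finset.prod_const, Finset.card_univ,
        Fintype.card_fin, hV, ← pow_mul] at h
      rw [Nat.pow_right_injective hq.two_le h, mul_comm]
    obtain ⟨hP, hb⟩ := hperm r ⟨k, hnrk.symm⟩ D.two
    rw [← hnrk, Nat.mul_div_cancel_left k (by have := D.two; omega)] at hb
    exact (DL.of_hom D.perm (hP _ (Nat.card_fin r) _
      (SolvKGV.isSolvable_range D.perm)) (hker.2 k hall)).mono hb

/-- The inductive step for linear groups. -/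
theorem dlB_step {q n b : ℕ} (hq : q.Prime) (F Pf : ℕ → ℕ)
    (hpart : ∀ k, 0 < k → k < n → DLB.{u} q k (F k)) (hF : ∀ k, 0 < k → k < n → F k ≤ b)
    (hperm : ∀ r, r ∣ n → 2 ≤ r → DLP r (Pf r) ∧ Pf r + F (n / r) ≤ b) (h2 : 2 ≤ b)
    (hinner : ∀ e m M, e * m = n → 2 ≤ M → M ≤ m → (∀ r, r.Prime → r ∣ M → r ∣ q ^ e - 1) →
      ∃ d, DInner.{u} M d ∧ (if e = 1 then 0 else 1) + (d + 2) ≤ b) : DLB.{u} q n b := by
  refine ⟨fun {H} _ _ _ {V} _ _ _ hV hs hf => ?_⟩
  rcases subsingleton_or_nontrivial V with hsub | hnt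
  · haveI : Subsingleton H := ⟨fun a c => by
      rw [hf a fun v => Subsingleton.elim _ _, hf c fun v => Subsingleton.elim _ _]⟩
    exact dl_of_subsingleton b
  by_cases hd : ∃ r, Nonempty (Decomp H V r)
  · exact dl_of_decomp hq F Pf hpart hF hperm hV hs hf hd
  · obtain ⟨P⟩ := exists_prim (fun r D => hd ⟨r, ⟨D⟩⟩) hs hf
    obtain ⟨hpq, hem⟩ := prime_mul_eq P.prime hq P.e_pos P.m_pos
      (show P.p ^ (P.e * P.m) = q ^ n by rw [← P.card_eq, hV])
    by_cases hC : Subgroup.centralizer (P.A : Set H) = P.A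
    · exact (dl_two_of_centralizer_eq P hC).mono h2
    · obtain ⟨I⟩ := exists_inner P hC
      obtain ⟨d, hd', hdb⟩ := hinner P.e P.m I.M hem I.two_le I.le_m fun r hr hrM =>
        (I.prime_dvd r hr hrM).trans (hpq ▸ P.card_dvd)
      exact (dl_of_inner I (hd'.dl P I rfl)).mono hdb

end CfsgLib.StabLength
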