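import Cfsg.Agent.StabLength.Decomp
import Cfsg.Agent.SolvKGV.Inner
import Cfsg.Agent.RegOrbit.Main
import Mathlib.GroupTheory.SpecificGroups.Cyclic

/-!
# Completely reducible groups of odd order: general facts

Restrictions to invariant subgroups, the quotient by the centraliser of the cyclic normal subgroup,
and the consequences of odd order for decompositions.
-/

set_option autoImplicit false
set_option linter.unusedSectionVars false
set_option linter.style.haveILetI false

namespace CfsgLib.StabLength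

open CfsgLib.SolvKGV

universe u v

variable {H : Type u} [Group H] {V : Type v} [AddCommGroup V] [DistribMulAction H V]

/-- The group induced on an invariant subgroup. -/
noncomputable def subImage {U : AddSubgroup V} (hU : IsInv H U) : Subgroup (AddMonoid.End U)ˣ :=
  letI := subAction hU
  (repHom H U).range

theorem semi_subImage [Finite V] (hs : Semi H V) {U : AddSubgroup V} (hU : IsInv H U) :
    Semi (subImage hU) U := by
  letI := subAction hU
  exact semi_congr (repHom H U).rangeRestrict (repHom H U).rangeRestrict_surjective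
    (fun h x => rfl) (semi_restrict hs hU)

theorem faith_subImage {U : AddSubgroup V} (hU : IsInv H U) : Faith (subImage hU) U :=
  faith_units _

theorem card_subImage_dvd [Finite H] {U : AddSubgroup V} (hU : IsInv H U) :
    Nat.card (subImage hU) ∣ Nat.card H := by
  letI := subAction hU
  exact Subgroup.card_range_dvd _

theorem isSolvable_subImage [Group.IsSolvable H] {U : AddSubgroup V} (hU : IsInv H U) :
    Group.IsSolvable (subImage hU) := by
  letI := subAction hU
  exact Group.isSolvable_of_surjective (repHom H U).rangeRestrict_surjective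

/-- A group acting faithfully embeds into the product of the groups induced on two summands. -/
theorem exists_split_hom (hf : Faith H V) {U X : AddSubgroup V} (hU : IsInv H U) (hX : IsInv H X)
    (hc : U ⊔ X = ⊤) :
    ∃ f : H →* subImage hU × subImage hX, Function.Injective f := by
  let fU : H →* subImage hU :=
    letI := subAction hU
    (repHom H U).rangeRestrict
  let fX : H →* subImage hX :=
    letI := subAction hX
    (repHom H X).rangeRestrict
  refine ⟨fU.prod fX, (injective_iff_map_eq_one _).2 fun h e => hf h fun v => ?_⟩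
  obtain ⟨e1, e2⟩ := Prod.ext_iff.1 e
  obtain ⟨a, ha, b, hb, rfl⟩ := AddSubgroup.mem_sup.1 (hc ▸ AddSubgroup.mem_top v : v ∈ U ⊔ X)
  rw [smul_add]
  congr 1
  · have h1 := congrArg (fun z : subImage hU =>
      (((z : (AddMonoid.End U)ˣ) • (⟨a, ha⟩ : U) : U) : V)) e1
    exact h1.trans (by simp)
  · have h1 := congrArg (fun z : subImage hX =>
      (((z : (AddMonoid.End X)ˣ) • (⟨b, hb⟩ : X) : X) : V)) e2
    exact h1.trans (by simp)

theorem card_le_subImage_mul [Finite V] [Finite H] (hf : Faith H V) {U X : AddSubgroup V}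
    (hU : IsInv H U) (hX : IsInv H X) (hc : U ⊔ X = ⊤) :
    Nat.card H ≤ Nat.card (subImage hU) * Nat.card (subImage hX) := by
  obtain ⟨f, hinj⟩ := exists_split_hom hf hU hX hc
  rw [← Nat.card_prod]
  exact Nat.card_le_card_of_injective f hinj

theorem card_dvd_subImage_mul [Finite V] [Finite H] (hf : Faith H V) {U X : AddSubgroup V}
    (hU : IsInv H U) (hX : IsInv H X) (hc : U ⊔ X = ⊤) :
    Nat.card H ∣ Nat.card (subImage hU) * Nat.card (subImage hX) := by
  obtain ⟨f, hinj⟩ := exists_split_hom hf hU hX hc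
  rw [← Nat.card_prod]
  exact Subgroup.card_dvd_of_injective f hinj

theorem comm_of_subImage (hf : Faith H V) {U X : AddSubgroup V}
    (hU : IsInv H U) (hX : IsInv H X) (hc : U ⊔ X = ⊤)
    (h1 : ∀ a b : subImage hU, a * b = b * a) (h2 : ∀ a b : subImage hX, a * b = b * a) :
    ∀ a b : H, a * b = b * a := by
  obtain ⟨f, hinj⟩ := exists_split_hom hf hU hX hc
  intro a b
  refine hinj ?_
  rw [map_mul, map_mul]
  exact Prod.ext (h1 _ _) (h2 _ _)

theorem card_eq_mul_of_isCompl [Finite V] {U X : AddSubgroup V} (hc : IsCompl U X) :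
    Nat.card V = Nat.card U * Nat.card X := by
  rw [← Nat.card_prod]
  refine (Nat.card_congr (Equiv.ofBijective (fun p : U × X => (p.1 : V) + p.2) ⟨?_, ?_⟩)).symm
  · rintro ⟨a, b⟩ ⟨a', b'⟩ e
    have e' : (a : V) + b = a' + b' := e
    have h : (a : V) - a' ∈ U ⊓ X := ⟨U.sub_mem a.2 a'.2, by
      rw [show (a : V) - a' = b' - b from sub_eq_sub_iff_add_eq_add.2 (by rw [e', add_comm])]
      exact X.sub_mem b'.2 b.2⟩
    rw [hc.inf_eq_bot, AddSubgroup.mem_bot, sub_eq_zero] at h
    refine Prod.ext (Subtype.ext h) (Subtype.ext ?_)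
    rw [h] at e'
    exact add_left_cancel e'
  · intro v
    obtain ⟨a, ha, b, hb, e⟩ := AddSubgroup.mem_sup.1 (hc.sup_eq_top.ge (AddSubgroup.mem_top v))
    exact ⟨(⟨a, ha⟩, ⟨b, hb⟩), e⟩

/-- Two fixed labels give two invariant complements. -/
theorem parts_isCompl [Finite H] [Finite V] (D : Decomp H V 2) (h1 : ∀ h, D.perm h = 1) :
    IsInv H (D.part 0) ∧ IsInv H (D.part 1) ∧ IsCompl (D.part 0) (D.part 1) := by
  have hi : ∀ i, IsInv H (D.part i) := by
    rintro i h _ ⟨w, rfl⟩
    have e := D.equi h i w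
    rw [h1, Equiv.Perm.one_apply] at e
    exact ⟨h • w, e⟩
  refine ⟨hi 0, hi 1, disjoint_iff.2 ?_, codisjoint_iff.2 (eq_top_iff.2 fun v _ => ?_)⟩
  · rw [eq_bot_iff]
    rintro v ⟨a, b⟩
    have e := proj_part_ne D (i := 1) (j := 0) (by decide) a
    rwa [D.proj_eq_self b] at e
  · have e := D.sum v
    rw [Fin.sum_univ_two] at e
    exact AddSubgroup.mem_sup.2 ⟨_, ⟨v, rfl⟩, _, ⟨v, rfl⟩, e⟩

variable [Finite H] [Finite V]

theorem odd_of_dvd {a b : ℕ} (hb : Odd b) (h : a ∣ b) : Odd a :=
  hb.of_dvd_nat h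

/-- A transitive action of a group of odd order on the labels has an odd number of labels. -/
theorem odd_labels {r : ℕ} (D : Decomp H V r) (hodd : Odd (Nat.card H))
    (ht : ∀ i j, ∃ h, D.perm h i = j) : Odd r ∧ 3 ≤ r := by
  have h2 := D.two
  letI : MulAction H (Fin r) := MulAction.compHom (Fin r) D.perm
  haveI : MulAction.IsPretransitive H (Fin r) := ⟨fun i j => ht i j⟩
  have h : r ∣ Nat.card H := by
    have e := MulAction.index_stabilizer_of_transitive H (⟨0, by omega⟩ : Fin r)
    rw [Nat.card_fin] at e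
    have h' := Subgroup.index_dvd_card (MulAction.stabilizer H (⟨0, by omega⟩ : Fin r))
    rwa [e] at h'
  have := hodd.of_dvd_nat h
  refine ⟨this, ?_⟩
  obtain ⟨k, hk⟩ := this
  omega

/-- Transitively permuted summands are equipotent. -/
theorem card_eq_pow_part {r : ℕ} (D : Decomp H V r) (ht : ∀ i j, ∃ h, D.perm h i = j) (i₀ : Fin r) :
    Nat.card V = Nat.card (D.part i₀) ^ r := by
  rw [D.card_eq, Finset.prod_congr rfl fun i _ => show Nat.card (D.part i) = Nat.card (D.part i₀) by
    obtain ⟨h, rfl⟩ := ht i₀ i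
    exact D.card_part_perm h i₀]
  rw [Finset.prod_const, Finset.card_univ, Fintype.card_fin]

/-- Trivial groups on the summands: the labels are permuted faithfully. -/
theorem perm_injective {r : ℕ} (D : Decomp H V r) (hf : Faith H V)
    (ht : ∀ i j, ∃ h, D.perm h i = j) (i₀ : Fin r) (hE : ∀ e ∈ partGroup D i₀, e = 1) :
    Function.Injective D.perm := by
  refine (injective_iff_map_eq_one _).2 fun n hn => hf n fun v => ?_
  rw [← D.sum v, Finset.smul_sum]
  refine Finset.sum_congr rfl fun i _ => ?_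
  obtain ⟨t, rfl⟩ := ht i₀ i
  have hl : t⁻¹ * n * t ∈ labelStab D i₀ := by
    rw [mem_labelStab, map_mul, map_mul, hn, mul_one, ← map_mul, inv_mul_cancel, map_one,
      Equiv.Perm.one_apply]
  letI := subAction (isInv_labelStab D i₀)
  have e := hE _ ⟨⟨_, hl⟩, rfl⟩
  have hp : t⁻¹ • D.proj (D.perm t i₀) v ∈ D.part i₀ := by
    have h := smul_mem_part D t⁻¹ (i := D.perm t i₀) (⟨v, rfl⟩ : D.proj (D.perm t i₀) v ∈ D.part _)
    rwa [← Equiv.Perm.mul_apply, ← map_mul, inv_mul_cancel, map_one, Equiv.Perm.one_apply] at h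
  have e1 : (t⁻¹ * n * t) • (t⁻¹ • D.proj (D.perm t i₀) v) = t⁻¹ • D.proj (D.perm t i₀) v :=
    congrArg Subtype.val ((repHom_eq_one_iff _).1 e ⟨_, hp⟩)
  rw [mul_smul, smul_inv_smul, mul_smul] at e1
  exact MulAction.injective _ e1

/-- The action on the cyclic normal subgroup. -/
theorem exists_conj_hom [Nontrivial V] (P : Prim H V) :
    ∃ f : H →* MulAut P.A, f.ker = Subgroup.centralizer (P.A : Set H) := by
  haveI := P.normalA
  refine ⟨MulAut.conjNormal, ?_⟩
  ext h
  rw [MonoidHom.mem_ker, Subgroup.mem_centralizer_iff]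
  constructor
  · intro e a ha
    have h1 := congrArg (fun z : MulAut P.A => ((z ⟨a, ha⟩ : P.A) : H)) e
    simp only [MulAut.conjNormal_apply, MulAut.one_apply] at h1
    exact (mul_inv_eq_iff_eq_mul.1 h1).symm
  · intro e
    refine MulEquiv.ext fun a => Subtype.ext ?_
    rw [MulAut.conjNormal_apply, MulAut.one_apply, ← e a a.2, mul_inv_cancel_right]

theorem commute_mulAut (A : Subgroup H) [IsCyclic A] (x y : MulAut A) : x * y = y * x :=
  (IsCyclic.mulAutMulEquiv A).injective (by rw [map_mul, map_mul, mul_comm])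

theorem index_dvd_totient [Nontrivial V] (P : Prim H V) :
    (Subgroup.centralizer (P.A : Set H)).index ∣ Nat.totient (Nat.card P.A) := by
  obtain ⟨f, hf⟩ := exists_conj_hom P
  haveI := P.cyclic
  rw [← hf, Subgroup.index_ker, ← IsCyclic.card_mulAut]
  exact Subgroup.card_subgroup_dvd_card _

theorem odd_index_centralizer [Nontrivial V] (P : Prim H V) (hodd : Odd (Nat.card H)) :
    Odd (Subgroup.centralizer (P.A : Set H)).index :=
  hodd.of_dvd_nat (Subgroup.index_dvd_card _)

/-- Subgroups meeting the centraliser of the cyclic normal subgroup trivially are abelian. -/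
theorem dl_one_of_inf_centralizer [Nontrivial V] (P : Prim H V) (S : Subgroup H)
    (h : ∀ s ∈ S, s ∈ Subgroup.centralizer (P.A : Set H) → s = 1) : DL S 1 := by
  obtain ⟨f, hf⟩ := exists_conj_hom P
  haveI := P.cyclic
  have hinj : Function.Injective (f.comp S.subtype) := (injective_iff_map_eq_one _).2 fun s e =>
    Subtype.ext (h s s.2 (hf ▸ (MonoidHom.mem_ker.2 e : (s : H) ∈ f.ker)))
  exact dl_one_of_comm fun a b => hinj (by
    rw [map_mul, map_mul]; exact commute_mulAut P.A _ _)

/-- Without inner part the group is small. -/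
theorem card_of_centralizer_eq [Nontrivial V] (P : Prim H V) (hodd : Odd (Nat.card H))
    (hC : Subgroup.centralizer (P.A : Set H) = P.A) :
    ∃ i, Nat.card H = Nat.card P.A * i ∧ Odd i ∧ i ≤ P.e ∧ i ∣ Nat.totient (Nat.card P.A) ∧
      (i = 1 → ∀ a b : H, a * b = b * a) := by
  refine ⟨_, ?_, odd_index_centralizer P hodd, P.index_le, index_dvd_totient P, fun h1 => ?_⟩
  · conv_lhs => rw [← (Subgroup.centralizer (P.A : Set H)).card_mul_index]
    rw [hC]
  · rw [Subgroup.index_eq_one, hC] at h1
    exact fun a b => P.comm a (h1 ▸ Subgroup.mem_top a) b (h1 ▸ Subgroup.mem_top b)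

theorem inner_M_odd [Nontrivial V] {P : Prim H V} (I : Inner.{u, v} P) (hodd : Odd (Nat.card H)) :
    Odd I.M ∧ 3 ≤ I.M := by
  have h : I.M ∣ Nat.card H :=
    (Dvd.intro_left _ (by rw [I.card_B, sq, ← mul_assoc] : _ * I.M = Nat.card I.B)).trans
      (Subgroup.card_subgroup_dvd_card _)
  have h1 := hodd.of_dvd_nat h
  refine ⟨h1, ?_⟩
  have := I.two_le
  obtain ⟨k, hk⟩ := h1
  omega

/-- The primes of the inner part are odd, different from the characteristic and divide `q - 1`. -/
theorem inner_prime [Nontrivial V] {P : Prim H V} (I : Inner.{u, v} P) (hodd : Odd (Nat.card H))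
    {r : ℕ} (hr : r.Prime) (hrM : r ∣ I.M) :
    3 ≤ r ∧ r ≠ P.p ∧ r ∣ Nat.card P.A ∧ r ∣ P.p ^ P.e - 1 := by
  have hA := I.prime_dvd r hr hrM
  have h3 : 3 ≤ r := by
    obtain ⟨k, hk⟩ := hodd.of_dvd_nat (hA.trans (Subgroup.card_subgroup_dvd_card _))
    have := hr.two_le
    omega
  exact ⟨h3, fun e => P.not_dvd (e ▸ hA), hA, hA.trans P.card_dvd⟩

theorem centralizer_eq_of_small [Nontrivial V] [Group.IsSolvable H] (P : Prim H V)
    (hodd : Odd (Nat.card H)) (hsmall : ∀ r : ℕ, r.Prime → 3 ≤ r → r ≤ P.m → r ∣ P.p ^ P.e - 1 → r ≠ P.p →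
      False) : Subgroup.centralizer (P.A : Set H) = P.A := by
  by_contra hne
  obtain ⟨I⟩ := exists_inner P hne
  obtain ⟨-, h3⟩ := inner_M_odd I hodd
  obtain ⟨r, hr, hrM⟩ := Nat.exists_prime_and_dvd (by omega : I.M ≠ 1)
  obtain ⟨h3r, hne', -, hd⟩ := inner_prime I hodd hr hrM
  exact hsmall r hr h3r ((Nat.le_of_dvd (by omega) hrM).trans I.le_m) hd hne'

end CfsgLib.StabLength
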