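import Cfsg.Agent.StabLength.OddBase
import Cfsg.Agent.RegOrbit.WBound
import Mathlib.Data.Nat.Squarefree

/-!
# Completely reducible groups of odd order on small groups

The groups acting on a group of squarefree square order are abelian and small; those acting on
groups of order `3 ^ d`, `d ≤ 6`, are bounded.
-/

set_option autoImplicit false
set_option linter.unusedSectionVars false
set_option linter.style.haveILetI false

namespace CfsgLib.StabLength

open CfsgLib.SolvKGV

universe u

theorem odd_dvd_of_dvd {a k m : ℕ} (ha : Odd a) (h : a ∣ 2 ^ k * m) : a ∣ m :=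
  (Nat.Coprime.pow_right k (Nat.coprime_two_right.2 ha)).dvd_of_dvd_mul_left h

section action

variable {H : Type u} [Group H] [Finite H] {V : Type u} [AddCommGroup V] [DistribMulAction H V]
  [Finite V]

theorem card_eq_one_of_card_one (hf : Faith H V) (h : Nat.card V = 1) : Nat.card H = 1 := by
  haveI := (Nat.card_eq_one_iff_unique.1 h).1
  haveI : Subsingleton H :=
    ⟨fun a b => (hf a fun v => Subsingleton.elim _ _).trans (hf b fun v => Subsingleton.elim _ _).symm⟩
  exact Nat.card_of_subsingleton 1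

theorem comm_of_card_one (h : Nat.card H = 1) (a b : H) : a * b = b * a := by
  haveI := (Nat.card_eq_one_iff_unique.1 h).1
  exact Subsingleton.elim _ _

/-- A faithful group on a group of prime order. -/
theorem comm_of_prime (hf : Faith H V) (h : (Nat.card V).Prime) :
    (∀ a b : H, a * b = b * a) ∧ Nat.card H ∣ Nat.card V - 1 := by
  haveI : Nontrivial V := Finite.one_lt_card_iff_nontrivial.1 h.one_lt
  obtain ⟨v, hv⟩ := exists_ne (0 : V)
  haveI := Fact.mk h
  constructor
  · have hgen : AddSubgroup.zmultiples v = ⊤ :=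
      (AddSubgroup.eq_bot_or_eq_top_of_prime_card _).resolve_left
        (by simpa [AddSubgroup.zmultiples_eq_bot] using hv)
    have key : ∀ g : H, ∃ k : ℤ, ∀ w : V, g • w = k • w := by
      intro g
      obtain ⟨k, hk⟩ := AddSubgroup.mem_zmultiples_iff.1
        (hgen ▸ AddSubgroup.mem_top (g • v) : g • v ∈ AddSubgroup.zmultiples v)
      refine ⟨k, fun w => ?_⟩
      obtain ⟨l, rfl⟩ := AddSubgroup.mem_zmultiples_iff.1
        (hgen ▸ AddSubgroup.mem_top w : w ∈ AddSubgroup.zmultiples v)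
      rw [← smul_comm l g v, ← hk, smul_comm]
    intro a b
    obtain ⟨i, hi⟩ := key a
    obtain ⟨j, hj⟩ := key b
    refine (inv_mul_eq_one.1 (hf _ fun w => ?_)).symm
    rw [mul_smul, inv_smul_eq_iff, mul_smul, mul_smul, hj w, hi (j • w), hi w, hj (i • w), smul_comm]
  · letI : Module (ZMod (Nat.card V)) V :=
      AddCommGroup.zmodModule fun x => card_nsmul_eq_zero'
    have h1 := RegOrbit.natCard_dvd_GL_module (r := Nat.card V) (d := 1) (pow_one _).symm
      (DistribMulAction.toAddMonoidEnd H V) (rho_injective hf)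
    simpa using h1

variable [Group.IsSolvable H]

theorem prim_eq_prime [Nontrivial V] (P : Prim H V) {r d : ℕ} (hr : r.Prime)
    (hV : Nat.card V = r ^ d) : P.p = r ∧ P.e * P.m = d := by
  have h1 : 1 ≤ P.e * P.m := Nat.one_le_iff_ne_zero.2 (Nat.mul_ne_zero
    (Nat.one_le_iff_ne_zero.1 P.e_pos) (Nat.one_le_iff_ne_zero.1 P.m_pos))
  have hd : d ≠ 0 := by
    rintro rfl
    rw [pow_zero] at hV
    exact absurd (Finite.one_lt_card_iff_nontrivial.2 (inferInstance : Nontrivial V)) (by omega)
  have h : P.p ^ (P.e * P.m) = r ^ d := P.card_eq.symm.trans hV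
  have hp : P.p = r := (Nat.prime_dvd_prime_iff_eq P.prime hr).1
    (P.prime.dvd_of_dvd_pow (h ▸ dvd_pow_self P.p (by omega)))
  exact ⟨hp, Nat.pow_right_injective hr.two_le (hp ▸ h :)⟩

/-- Groups of odd order on a group of order a square of a prime. -/
theorem prime_sq (hs : Semi H V) (hf : Faith H V) (hodd : Odd (Nat.card H)) {r : ℕ}
    (hr : r.Prime) (hV : Nat.card V = r ^ 2) :
    (∀ a b : H, a * b = b * a) ∧
      (Nat.card H ∣ (r - 1) ^ 2 ∨ Nat.card H ∣ r ^ 2 - 1) := by
  haveI : Nontrivial V := Finite.one_lt_card_iff_nontrivial.1 (by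
    rw [hV]; exact Nat.one_lt_pow (by omega) hr.one_lt)
  by_cases hd : ∃ n, Nonempty (Decomp H V n)
  · obtain ⟨n, D, hD⟩ := exists_minimal_decomp hd
    rcases hD with ⟨rfl, h1⟩ | ⟨ht, -⟩
    · obtain ⟨i0, i1, hc⟩ := parts_isCompl D h1
      have hpr : ∀ i, Nat.card (D.part i) = r := by
        intro i
        obtain ⟨k, hk, e⟩ := (Nat.dvd_prime_pow hr).1
          (hV ▸ (D.part i).card_addSubgroup_dvd_card)
        have a := D.one_lt_card_part i
        have b := D.card_part_lt i
        rw [hV] at b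
        interval_cases k <;> simp_all
      have q0 := comm_of_prime (faith_subImage i0) (by rw [hpr]; exact hr)
      have q1 := comm_of_prime (faith_subImage i1) (by rw [hpr]; exact hr)
      rw [hpr] at q0 q1
      refine ⟨comm_of_subImage hf i0 i1 hc.sup_eq_top q0.1 q1.1, Or.inl ?_⟩
      rw [sq]
      exact (card_dvd_subImage_mul hf i0 i1 hc.sup_eq_top).trans (Nat.mul_dvd_mul q0.2 q1.2)
    · exfalso
      obtain ⟨-, h3⟩ := odd_labels D hodd ht
      have e := card_eq_pow_part D ht ⟨0, by omega⟩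
      have a := D.one_lt_card_part ⟨0, by omega⟩
      obtain ⟨k, -, hk⟩ := (Nat.dvd_prime_pow hr).1
        (hV ▸ (D.part ⟨0, by omega⟩).card_addSubgroup_dvd_card)
      rw [hV, hk, ← pow_mul] at e
      have e' := Nat.pow_right_injective hr.two_le e
      rw [hk] at a
      have hk0 : 1 ≤ k := Nat.one_le_iff_ne_zero.2 (by rintro rfl; simp at a)
      have := Nat.mul_le_mul hk0 h3
      omega
  · obtain ⟨P⟩ := exists_prim (fun n D => hd ⟨n, ⟨D⟩⟩) hs hf
    obtain ⟨hp, hem⟩ := prim_eq_prime P hr hV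
    have hm : P.m ≤ 2 := hem ▸ Nat.le_mul_of_pos_left _ P.e_pos
    have he : P.e ≤ 2 := hem ▸ Nat.le_mul_of_pos_right _ P.m_pos
    obtain ⟨i, hi, hiodd, hie, -, hcomm⟩ := card_of_centralizer_eq P hodd
      (centralizer_eq_of_small P hodd fun s _ h3 hsm _ _ => by omega)
    have hi1 : i = 1 := by
      obtain ⟨k, rfl⟩ := hiodd
      omega
    refine ⟨hcomm hi1, Or.inr ?_⟩
    rw [hi, hi1, mul_one]
    refine P.card_dvd.trans ?_
    rw [hp]
    exact Nat.pow_sub_one_dvd_pow_sub_one r (hem ▸ dvd_mul_right _ _)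

theorem prime_sq_le (hs : Semi H V) (hf : Faith H V) (hodd : Odd (Nat.card H)) {r : ℕ}
    (hr : r.Prime) (hV : Nat.card V = r ^ 2) : Nat.card H ≤ r ^ 2 := by
  have h2 := hr.two_le
  rcases (prime_sq hs hf hodd hr hV).2 with h | h
  · exact (Nat.le_of_dvd (pow_pos (by omega) 2) h).trans (Nat.pow_le_pow_left (Nat.sub_le r 1) 2)
  · refine (Nat.le_of_dvd ?_ h).trans (Nat.sub_le _ _)
    have := Nat.pow_le_pow_left h2 2
    omega

end action

/-- The elements killed by a number. -/
def torsionSub (V : Type u) [AddCommGroup V] (n : ℕ) : AddSubgroup V :=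
  (nsmulAddMonoidHom (α := V) n).ker

theorem mem_torsionSub {V : Type u} [AddCommGroup V] {n : ℕ} {v : V} :
    v ∈ torsionSub V n ↔ n • v = 0 :=
  Iff.rfl

theorem isInv_torsionSub (H : Type u) [Group H] {V : Type u} [AddCommGroup V] [DistribMulAction H V]
    (n : ℕ) : IsInv H (torsionSub V n) := fun h v hv => by
  rw [mem_torsionSub] at hv ⊢
  rw [smul_comm, hv, smul_zero]

theorem torsionSub_isCompl {V : Type u} [AddCommGroup V] [Finite V] {a b : ℕ} (hab : a.Coprime b)
    (hV : Nat.card V = a * b) :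
    IsCompl (torsionSub V a) (torsionSub V b) ∧ Nat.card (torsionSub V a) = a ∧
      Nat.card (torsionSub V b) = b := by
  have hdvd : ∀ {n m : ℕ}, n.Coprime m → Nat.card V = n * m → Nat.card (torsionSub V n) ∣ n := by
    intro n m hnm hV'
    have h := (torsionSub V n).card_addSubgroup_dvd_card
    rw [hV'] at h
    refine Nat.Coprime.dvd_of_dvd_mul_right ?_ h
    refine Nat.coprime_of_dvd fun s hs h1 h2 => ?_
    haveI := Fact.mk hs
    obtain ⟨x, hx⟩ := exists_prime_addOrderOf_dvd_card' (G := torsionSub V n) s h1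
    have h3 : addOrderOf x ∣ n := addOrderOf_dvd_of_nsmul_eq_zero (Subtype.ext x.2)
    rw [hx] at h3
    exact hs.one_lt.ne' (Nat.eq_one_of_dvd_coprimes hnm h3 h2)
  have hinf : ∀ v : V, a • v = 0 → b • v = 0 → v = 0 := fun v h1 h2 =>
    AddMonoid.addOrderOf_eq_one_iff.1 (Nat.eq_one_of_dvd_coprimes hab
      (addOrderOf_dvd_of_nsmul_eq_zero h1) (addOrderOf_dvd_of_nsmul_eq_zero h2))
  have hc : IsCompl (torsionSub V a) (torsionSub V b) := by
    refine ⟨disjoint_iff.2 (eq_bot_iff.2 fun v hv => hinf v hv.1 hv.2),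
      codisjoint_iff.2 (eq_top_iff.2 fun v _ => ?_)⟩
    obtain ⟨α, β, hαβ⟩ := (Nat.Coprime.isCoprime hab : IsCoprime (a : ℤ) b)
    have h0 : ∀ x : ℤ, (x * ((a : ℤ) * b)) • v = 0 := fun x => by
      rw [mul_zsmul, ← Nat.cast_mul, natCast_zsmul, ← hV, card_nsmul_eq_zero', zsmul_zero]
    refine AddSubgroup.mem_sup.2 ⟨(β * b) • v, ?_, (α * a) • v, ?_, ?_⟩
    · rw [mem_torsionSub, ← natCast_zsmul, ← mul_zsmul,
        show (a : ℤ) * (β * b) = β * ((a : ℤ) * b) by ring, h0]
    · rw [mem_torsionSub, ← natCast_zsmul, ← mul_zsmul,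
        show (b : ℤ) * (α * a) = α * ((a : ℤ) * b) by ring, h0]
    · rw [← add_zsmul, add_comm, hαβ, one_zsmul]
  have h := card_eq_mul_of_isCompl hc
  have h1 := hdvd hab hV
  have h2 := hdvd hab.symm (hV.trans (mul_comm a b))
  have ha : 0 < a := Nat.pos_of_ne_zero (by rintro rfl; simp [Nat.card_pos.ne'] at hV)
  have hb : 0 < b := Nat.pos_of_ne_zero (by rintro rfl; simp [Nat.card_pos.ne'] at hV)
  refine ⟨hc, ?_⟩
  have l1 := Nat.le_of_dvd ha h1
  have l2 := Nat.le_of_dvd hb h2
  rw [hV] at h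
  constructor
  · refine le_antisymm l1 (Nat.le_of_mul_le_mul_right ?_ hb)
    rw [h]
    exact Nat.mul_le_mul_left _ l2
  · refine le_antisymm l2 (Nat.le_of_mul_le_mul_left ?_ ha)
    rw [h]
    exact Nat.mul_le_mul_right _ l1

/-- Groups of odd order on a group of squarefree square order. -/
theorem squarefree_sq (M : ℕ) : ∀ (H : Type u) [Group H] [Finite H] [Group.IsSolvable H] (V : Type u)
    [AddCommGroup V] [DistribMulAction H V] [Finite V], Semi H V → Faith H V → Odd (Nat.card H) →
      Squarefree M → Nat.card V = M ^ 2 →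
      (∀ a b : H, a * b = b * a) ∧ Nat.card H ≤ M ^ 2 := by
  induction M using Nat.strong_induction_on with
  | _ M ih =>
  intro H _ _ _ V _ _ _ hs hf hodd hsq hV
  rcases eq_or_ne M 1 with rfl | hM1
  · have h1 := card_eq_one_of_card_one hf (hV.trans (one_pow 2))
    exact ⟨comm_of_card_one h1, by simp [h1]⟩
  obtain ⟨r, hr, M', rfl⟩ := Nat.exists_prime_and_dvd hM1
  have hco : r.Coprime M' := Nat.coprime_of_squarefree_mul hsq
  rcases eq_or_ne M' 1 with rfl | hM'
  · rw [mul_one] at hV ⊢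
    exact ⟨(prime_sq hs hf hodd hr hV).1, prime_sq_le hs hf hodd hr hV⟩
  obtain ⟨hc, ha, hb⟩ := torsionSub_isCompl (V := V) (a := r ^ 2) (b := M' ^ 2)
    (Nat.Coprime.pow 2 2 hco) (hV.trans (mul_pow r M' 2))
  have iU := isInv_torsionSub H (V := V) (r ^ 2)
  have iX := isInv_torsionSub H (V := V) (M' ^ 2)
  haveI := isSolvable_subImage (H := H) iU
  haveI := isSolvable_subImage (H := H) iX
  have hM0 : 0 < M' := Nat.pos_of_ne_zero (by rintro rfl; simp at hsq)
  have hlt : M' < r * M' := lt_mul_of_one_lt_left hM0 hr.one_lt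
  have hrlt : r < r * M' := lt_mul_of_one_lt_right hr.pos (by omega)
  have q1 := ih r hrlt _ _ (semi_subImage hs iU) (faith_subImage iU)
    (hodd.of_dvd_nat (card_subImage_dvd iU)) hr.squarefree ha
  have q2 := ih M' hlt _ _ (semi_subImage hs iX) (faith_subImage iX)
    (hodd.of_dvd_nat (card_subImage_dvd iX)) (hsq.squarefree_of_dvd (dvd_mul_left _ _)) hb
  refine ⟨comm_of_subImage hf iU iX hc.sup_eq_top q1.1 q2.1, ?_⟩
  rw [mul_pow]
  exact (card_le_subImage_mul hf iU iX hc.sup_eq_top).trans (Nat.mul_le_mul q1.2 q2.2)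

/-- The three cases on a group of order `3 ^ d`. -/
theorem three_cases {H : Type u} [Group H] [Finite H] [Group.IsSolvable H] {V : Type u}
    [AddCommGroup V] [DistribMulAction H V] [Finite V] (hs : Semi H V) (hf : Faith H V)
    (hodd : Odd (Nat.card H)) {d : ℕ} (hd : 1 ≤ d) (hd6 : d ≤ 6) (hV : Nat.card V = 3 ^ d)
    (hsmall : ∀ s, s ≤ 2 → ∀ (K : Type u) [Group K] [Finite K] [Group.IsSolvable K] (U : Type u)
      [AddCommGroup U] [DistribMulAction K U] [Finite U], Semi K U → Faith K U → Odd (Nat.card K) →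
      Nat.card U = 3 ^ s → s < d → Nat.card K = 1) :
    (∃ a b : ℕ, 1 ≤ a ∧ a ≤ b ∧ a + b = d ∧ ∃ U X : AddSubgroup V, ∃ hU : IsInv H U,
        ∃ hX : IsInv H X, U ⊔ X = ⊤ ∧ Nat.card U = 3 ^ a ∧ Nat.card X = 3 ^ b ∧
          Nat.card H ∣ Nat.card (subImage hU) * Nat.card (subImage hX)) ∨
    (∃ r s : ℕ, Odd r ∧ 3 ≤ r ∧ 1 ≤ s ∧ r * s = d ∧ (s ≤ 2 → Nat.card H ∣ r.factorial)) ∨
    (∃ e a i : ℕ, 1 ≤ e ∧ e ∣ d ∧ Odd a ∧ a ∣ 3 ^ e - 1 ∧ Odd i ∧ i ≤ e ∧ i ∣ Nat.totient a ∧
      Nat.card H = a * i ∧ (i = 1 → ∀ x y : H, x * y = y * x)) := by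
  haveI : Nontrivial V := Finite.one_lt_card_iff_nontrivial.1 (by
    rw [hV]; exact Nat.one_lt_pow (by omega) (by norm_num))
  have h3 : Nat.Prime 3 := Nat.prime_three
  by_cases hdc : ∃ n, Nonempty (Decomp H V n)
  · obtain ⟨n, D, hD⟩ := exists_minimal_decomp hdc
    have hcard : ∀ i, ∃ k, 1 ≤ k ∧ k < d ∧ Nat.card (D.part i) = 3 ^ k := by
      intro i
      obtain ⟨k, -, hk⟩ := (Nat.dvd_prime_pow h3).1 (hV ▸ (D.part i).card_addSubgroup_dvd_card)
      have a := D.one_lt_card_part i
      have b := D.card_part_lt i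
      rw [hk] at a b
      rw [hV] at b
      exact ⟨k, Nat.one_le_iff_ne_zero.2 (by rintro rfl; simp at a),
        (Nat.pow_lt_pow_iff_right (by norm_num)).1 b, hk⟩
    rcases hD with ⟨rfl, h1⟩ | ⟨ht, -⟩
    · left
      obtain ⟨i0, i1, hc⟩ := parts_isCompl D h1
      obtain ⟨a, ha, -, ha'⟩ := hcard 0
      obtain ⟨b, hb, -, hb'⟩ := hcard 1
      have hab : a + b = d := by
        have := card_eq_mul_of_isCompl hc
        rw [hV, ha', hb', ← pow_add] at this
        exact (Nat.pow_right_injective (by norm_num) this).symm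
      rcases le_total a b with h | h
      · exact ⟨a, b, ha, h, hab, _, _, i0, i1, hc.sup_eq_top, ha', hb',
          card_dvd_subImage_mul hf i0 i1 hc.sup_eq_top⟩
      · exact ⟨b, a, hb, h, by omega, _, _, i1, i0, hc.symm.sup_eq_top, hb', ha',
          card_dvd_subImage_mul hf i1 i0 hc.symm.sup_eq_top⟩
    · right; left
      obtain ⟨hro, hr3⟩ := odd_labels D hodd ht
      set i₀ : Fin n := ⟨0, by omega⟩
      obtain ⟨s, hs1, hsd, hs'⟩ := hcard i₀
      have hrs : n * s = d := by
        have := card_eq_pow_part D ht i₀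
        rw [hV, hs', ← pow_mul] at this
        rw [mul_comm]
        exact (Nat.pow_right_injective (by norm_num) this).symm
      refine ⟨n, s, hro, hr3, hs1, hrs, fun hs2 => ?_⟩
      haveI := isSolvable_partGroup D i₀
      have h := hsmall s hs2 (partGroup D i₀) (D.part i₀) (semi_partGroup D hs ht i₀) (faith_units _)
        (hodd.of_dvd_nat (card_partGroup_dvd D i₀)) hs' hsd
      haveI := (Nat.card_eq_one_iff_unique.1 h).1
      have hinj := perm_injective D hf ht i₀ fun e he =>
        congrArg Subtype.val (Subsingleton.elim (⟨e, he⟩ : partGroup D i₀) 1)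
      have hd' := Subgroup.card_dvd_of_injective D.perm hinj
      rwa [Nat.card_perm, Nat.card_fin] at hd'
  · right; right
    obtain ⟨P⟩ := exists_prim (fun n D => hdc ⟨n, ⟨D⟩⟩) hs hf
    obtain ⟨hp, hem⟩ := prim_eq_prime P h3 hV
    have hC := centralizer_eq_of_small P hodd fun r hr hr3 hrm hrd hrp => by
      rw [hp] at hrd hrp
      have hm : r ≤ 6 := hrm.trans ((hem ▸ Nat.le_mul_of_pos_left _ P.e_pos : P.m ≤ d).trans hd6)
      have he : P.e = 1 := by
        have := P.e_pos
        by_contra hne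
        have : 2 * P.m ≤ P.e * P.m := Nat.mul_le_mul_right _ (by omega)
        interval_cases r <;> omega
      rw [he] at hrd
      have := Nat.le_of_dvd (by norm_num) hrd
      omega
    obtain ⟨i, hi, hiodd, hie, hit, hcomm⟩ := card_of_centralizer_eq P hodd hC
    exact ⟨P.e, Nat.card P.A, i, P.e_pos, hem ▸ dvd_mul_right _ _,
      hodd.of_dvd_nat (Subgroup.card_subgroup_dvd_card _), hp ▸ P.card_dvd, hiodd, hie, hit, hi, hcomm⟩

section three

variable {H : Type u} [Group H] [Finite H] [Group.IsSolvable H] {V : Type u}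
    [AddCommGroup V] [DistribMulAction H V] [Finite V]

theorem three_small (hf : Faith H V) (hs : Semi H V) (hodd : Odd (Nat.card H)) {d : ℕ} (hd : d ≤ 2)
    (hV : Nat.card V = 3 ^ d) : Nat.card H = 1 := by
  interval_cases d
  · exact card_eq_one_of_card_one hf (by simpa using hV)
  · have h := (comm_of_prime hf (by rw [hV]; norm_num)).2
    rw [hV] at h
    have := Nat.le_of_dvd (by norm_num) h
    obtain ⟨k, hk⟩ := hodd
    norm_num at this
    omega
  · have h := (prime_sq hs hf hodd Nat.prime_three hV).2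
    have : Nat.card H ∣ 2 ^ 3 * 1 := by
      rcases h with h | h
      · exact h.trans (by decide)
      · exact h
    exact Nat.dvd_one.1 (odd_dvd_of_dvd hodd this)

theorem three_three (hf : Faith H V) (hs : Semi H V) (hodd : Odd (Nat.card H))
    (hV : Nat.card V = 3 ^ 3) : Nat.card H ∣ 39 := by
  rcases three_cases hs hf hodd (by norm_num) (by norm_num) hV
      (fun s hs2 K _ _ _ U _ _ _ h1 h2 h3 h4 _ => three_small h2 h1 h3 hs2 h4) with
    ⟨a, b, ha, hab, hd, U, X, hU, hX, -, hUc, hXc, h⟩ | ⟨r, s, hr, hr3, hs1, hrs, h⟩ |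
      ⟨e, a, i, he, hed, ha, had, hi, hie, -, hH, -⟩
  · haveI := isSolvable_subImage (H := H) hU
    haveI := isSolvable_subImage (H := H) hX
    rw [three_small (faith_subImage hU) (semi_subImage hs hU)
      (hodd.of_dvd_nat (card_subImage_dvd hU)) (by omega) hUc,
      three_small (faith_subImage hX) (semi_subImage hs hX)
      (hodd.of_dvd_nat (card_subImage_dvd hX)) (by omega) hXc] at h
    exact h.trans (one_dvd 39)
  · have h1 : r ≤ 3 := hrs ▸ Nat.le_mul_of_pos_right _ hs1
    have hr' : r = 3 := le_antisymm h1 hr3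
    subst hr'
    have h' := h (by omega)
    exact (odd_dvd_of_dvd hodd (k := 1) (m := 3) h').trans (by norm_num)
  · rw [hH]
    have := Nat.le_of_dvd (by norm_num) hed
    obtain ⟨k, rfl⟩ := hi
    interval_cases e
    · rw [show 2 * k + 1 = 1 by omega, mul_one]
      exact (odd_dvd_of_dvd ha (k := 1) (m := 1) had).trans (one_dvd _)
    · norm_num at hed
    · have h13 := odd_dvd_of_dvd ha (k := 1) (m := 13) had
      rcases (by omega : k = 0 ∨ k = 1) with rfl | rfl
      · rw [show 2 * 0 + 1 = 1 by norm_num, mul_one]; exact h13.trans (by norm_num)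
      · exact (Nat.mul_dvd_mul h13 dvd_rfl).trans (by norm_num)

theorem three_four (hf : Faith H V) (hs : Semi H V) (hodd : Odd (Nat.card H))
    (hV : Nat.card V = 3 ^ 4) : Nat.card H ≤ 39 ∧
      (¬ 13 ∣ Nat.card H → (∀ a b : H, a * b = b * a) ∧ Nat.card H ≤ 5) := by
  rcases three_cases hs hf hodd (by norm_num) (by norm_num) hV
      (fun s hs2 K _ _ _ U _ _ _ h1 h2 h3 h4 _ => three_small h2 h1 h3 hs2 h4) with
    ⟨a, b, ha, hab, hd, U, X, hU, hX, hc, hUc, hXc, h⟩ | ⟨r, s, hr, hr3, hs1, hrs, -⟩ |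
      ⟨e, a, i, he, hed, ha, had, hi, hie, hit, hH, hcomm⟩
  · haveI := isSolvable_subImage (H := H) hU
    haveI := isSolvable_subImage (H := H) hX
    rw [three_small (faith_subImage hU) (semi_subImage hs hU)
      (hodd.of_dvd_nat (card_subImage_dvd hU)) (by omega) hUc, one_mul] at h
    have h39 : Nat.card H ∣ 39 := by
      refine h.trans ?_
      by_cases hb : b ≤ 2
      · rw [three_small (faith_subImage hX) (semi_subImage hs hX)
          (hodd.of_dvd_nat (card_subImage_dvd hX)) hb hXc]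
        exact one_dvd _
      · obtain rfl : b = 3 := by omega
        exact three_three (faith_subImage hX) (semi_subImage hs hX)
          (hodd.of_dvd_nat (card_subImage_dvd hX)) hXc
    refine ⟨Nat.le_of_dvd (by norm_num) h39, fun h13 => ?_⟩
    have h3 : Nat.card H ∣ 3 :=
      Nat.Coprime.dvd_of_dvd_mul_right
        ((Nat.Prime.coprime_iff_not_dvd (by norm_num : Nat.Prime 13)).2 h13).symm
        (show Nat.card H ∣ 3 * 13 from h39)
    haveI := Fact.mk Nat.prime_three
    have hp : IsPGroup 3 (⊤ : Subgroup H) := by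
      rcases (Nat.dvd_prime Nat.prime_three).1 h3 with e | e
      · exact IsPGroup.of_card (n := 0) (by rw [Subgroup.card_top, e, pow_zero])
      · exact IsPGroup.of_card (n := 1) (by rw [Subgroup.card_top, e, pow_one])
    have ht := eq_bot_of_isPGroup hs hf ⟨4, hV⟩ hp
    have h1 : Nat.card H = 1 := by rw [← Subgroup.card_top, ht, Subgroup.card_bot]
    exact ⟨comm_of_card_one h1, by omega⟩
  · have h1 : r ≤ 4 := hrs ▸ Nat.le_mul_of_pos_right _ hs1
    obtain ⟨k, rfl⟩ := hr
    have hr' : 2 * k + 1 = 3 := by omega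
    rw [hr'] at hrs
    omega
  · have := Nat.le_of_dvd (by norm_num) hed
    have key : i = 1 ∧ a ≤ 5 := by
      interval_cases e
      · obtain ⟨k, rfl⟩ := hi
        exact ⟨by omega, (Nat.le_of_dvd one_pos (odd_dvd_of_dvd ha (k := 1) (m := 1) had)).trans (by norm_num)⟩
      · obtain ⟨k, rfl⟩ := hi
        exact ⟨by omega, (Nat.le_of_dvd one_pos (odd_dvd_of_dvd ha (k := 3) (m := 1) had)).trans (by norm_num)⟩
      · norm_num at hed
      · have h5 := odd_dvd_of_dvd ha (k := 4) (m := 5) had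
        refine ⟨?_, Nat.le_of_dvd (by norm_num) h5⟩
        rcases (Nat.dvd_prime (by norm_num : Nat.Prime 5)).1 h5 with rfl | rfl
        · simpa using hit
        · exact Nat.dvd_one.1 (odd_dvd_of_dvd hi (k := 2) (m := 1) (by
            simpa [Nat.totient_prime (by norm_num : Nat.Prime 5)] using hit))
    rw [hH, key.1, mul_one]
    exact ⟨by omega, fun _ => ⟨hcomm key.1, key.2⟩⟩

theorem three_five (hf : Faith H V) (hs : Semi H V) (hodd : Odd (Nat.card H))
    (hV : Nat.card V = 3 ^ 5) : Nat.card H ≤ 605 := by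
  rcases three_cases hs hf hodd (by norm_num) (by norm_num) hV
      (fun s hs2 K _ _ _ U _ _ _ h1 h2 h3 h4 _ => three_small h2 h1 h3 hs2 h4) with
    ⟨a, b, ha, hab, hd, U, X, hU, hX, -, hUc, hXc, h⟩ | ⟨r, s, hr, hr3, hs1, hrs, h⟩ |
      ⟨e, a, i, he, hed, ha, had, hi, hie, -, hH, -⟩
  · haveI := isSolvable_subImage (H := H) hU
    haveI := isSolvable_subImage (H := H) hX
    rw [three_small (faith_subImage hU) (semi_subImage hs hU)
      (hodd.of_dvd_nat (card_subImage_dvd hU)) (by omega) hUc, one_mul] at h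
    have hb : b = 3 ∨ b = 4 := by omega
    refine (Nat.le_of_dvd Nat.card_pos h).trans ?_
    rcases hb with rfl | rfl
    · exact (Nat.le_of_dvd (by norm_num) (three_three (faith_subImage hX) (semi_subImage hs hX)
        (hodd.of_dvd_nat (card_subImage_dvd hX)) hXc)).trans (by norm_num)
    · exact (three_four (faith_subImage hX) (semi_subImage hs hX)
        (hodd.of_dvd_nat (card_subImage_dvd hX)) hXc).1.trans (by norm_num)
  · have h1 : r ≤ 5 := hrs ▸ Nat.le_mul_of_pos_right _ hs1
    refine (Nat.le_of_dvd (Nat.factorial_pos r) (h ?_)).trans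
      ((Nat.factorial_le h1).trans (by decide))
    have := Nat.mul_le_mul_right s hr3
    omega
  · have := Nat.le_of_dvd (by norm_num) hed
    rw [hH]
    refine (Nat.mul_le_mul ?_ (hie.trans this)).trans (le_refl (121 * 5))
    interval_cases e
    · exact (Nat.le_of_dvd (by norm_num) had).trans (by norm_num)
    · exact (Nat.le_of_dvd (by norm_num) had).trans (by norm_num)
    · exact (Nat.le_of_dvd (by norm_num) had).trans (by norm_num)
    · exact (Nat.le_of_dvd (by norm_num) had).trans (by norm_num)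
    · exact Nat.le_of_dvd (by norm_num) (odd_dvd_of_dvd ha (k := 1) (m := 121) had)

theorem three_six (hf : Faith H V) (hs : Semi H V) (hodd : Odd (Nat.card H))
    (hV : Nat.card V = 3 ^ 6) : Nat.card H ≤ 1521 := by
  rcases three_cases hs hf hodd (by norm_num) (by norm_num) hV
      (fun s hs2 K _ _ _ U _ _ _ h1 h2 h3 h4 _ => three_small h2 h1 h3 hs2 h4) with
    ⟨a, b, ha, hab, hd, U, X, hU, hX, -, hUc, hXc, h⟩ | ⟨r, s, hr, hr3, hs1, hrs, h⟩ |
      ⟨e, a, i, he, hed, ha, had, hi, hie, -, hH, -⟩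
  · haveI := isSolvable_subImage (H := H) hU
    haveI := isSolvable_subImage (H := H) hX
    refine (Nat.le_of_dvd (Nat.mul_pos Nat.card_pos Nat.card_pos) h).trans ?_
    have o1 := hodd.of_dvd_nat (card_subImage_dvd hU)
    have o2 := hodd.of_dvd_nat (card_subImage_dvd hX)
    rcases (by omega : a ≤ 2 ∧ (b = 4 ∨ b = 5) ∨ a = 3 ∧ b = 3) with ⟨h2, hb⟩ | ⟨rfl, rfl⟩
    · rw [three_small (faith_subImage hU) (semi_subImage hs hU) o1 h2 hUc, one_mul]
      rcases hb with rfl | rfl
      · exact (three_four (faith_subImage hX) (semi_subImage hs hX) o2 hXc).1.trans (by norm_num)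
      · exact (three_five (faith_subImage hX) (semi_subImage hs hX) o2 hXc).trans (by norm_num)
    · exact Nat.mul_le_mul (Nat.le_of_dvd (by norm_num)
        (three_three (faith_subImage hU) (semi_subImage hs hU) o1 hUc))
        (Nat.le_of_dvd (by norm_num) (three_three (faith_subImage hX) (semi_subImage hs hX) o2 hXc))
  · have h1 : r ≤ 6 := hrs ▸ Nat.le_mul_of_pos_right _ hs1
    refine (Nat.le_of_dvd (Nat.factorial_pos r) (h ?_)).trans
      ((Nat.factorial_le h1).trans (by decide))
    have := Nat.mul_le_mul_right s hr3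
    omega
  · have := Nat.le_of_dvd (by norm_num) hed
    rw [hH]
    refine (Nat.mul_le_mul ?_ (hie.trans this)).trans (show 121 * 6 ≤ 1521 by norm_num)
    interval_cases e
    · exact (Nat.le_of_dvd (by norm_num) had).trans (by norm_num)
    · exact (Nat.le_of_dvd (by norm_num) had).trans (by norm_num)
    · exact (Nat.le_of_dvd (by norm_num) had).trans (by norm_num)
    · exact (Nat.le_of_dvd (by norm_num) had).trans (by norm_num)
    · norm_num at hed
    · exact (Nat.le_of_dvd (by norm_num) (odd_dvd_of_dvd ha (k := 3) (m := 91) had)).trans (by norm_num)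

end three

end CfsgLib.StabLength
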