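import Cfsg.Agent.StabLength.Affine

/-!
# The derived length of solvable permutation groups: the inductive step
-/

set_option autoImplicit false
set_option linter.unusedSectionVars false
set_option linter.style.haveILetI false

namespace CfsgLib.StabLength

open CfsgLib.SolvKGV Equiv

/-- The derived length of solvable permutation groups on `n` points is at most `b`. -/
def DLP (n b : ℕ) : Prop :=
  ∀ (Ω : Type) [Finite Ω], Nat.card Ω = n → ∀ G : Subgroup (Perm Ω), Group.IsSolvable G → DL G b

/-- The derived length of solvable completely reducible groups on `q ^ n` vectors is at most `b`. -/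
structure DLB.{u} (q n b : ℕ) : Prop where
  /-- the bound -/
  dl : ∀ {H : Type u} [Group H] [Finite H] [Group.IsSolvable H] {V : Type u} [AddCommGroup V]
    [DistribMulAction H V] [Finite V],
    Nat.card V = q ^ n → Semi H V → Faith H V → DL H b

theorem DLP.mono {n b b' : ℕ} (h : DLP n b) (hb : b ≤ b') : DLP n b' :=
  fun Ω _ hn G hG => (h Ω hn G hG).mono hb

theorem dlP_of_le_one {n b : ℕ} (hn : n ≤ 1) : DLP n b := by
  intro Ω _ hΩ G _
  haveI : Subsingleton Ω := Finite.card_le_one_iff_subsingleton.1 (by omega)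
  haveI : Subsingleton G := ⟨fun a c => Subtype.ext (Equiv.ext fun x => Subsingleton.elim _ _)⟩
  exact dl_of_subsingleton b

/-- A group preserving a relation: bounds on the classes and on the fibres add up. -/
theorem dl_of_setoid {Ω : Type} [Finite Ω] (G : Subgroup (Perm Ω)) (hsol : Group.IsSolvable G)
    (s : Setoid Ω) (hs : ∀ g ∈ G, ∀ x y, s.r x y → s.r (g x) (g y)) {a b : ℕ}
    (hq : ∀ K : Subgroup (Perm (Quotient s)), Group.IsSolvable K →
      (∀ k ∈ K, ∃ g ∈ G, ∀ x, k (Quotient.mk s x) = Quotient.mk s (g x)) → DL K a)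
    (hf : ∀ c : Quotient s, ∀ K : Subgroup (Perm {x // Quotient.mk s x = c}),
      Group.IsSolvable K → DL K b) : DL G (a + b) := by
  haveI := hsol
  let π : Ω → Quotient s := Quotient.mk s
  let τfun : G → Quotient s → Quotient s := fun g =>
    Quotient.map (g : Perm Ω) fun x y h => hs g g.2 x y h
  have hτone : ∀ q, τfun 1 q = q := fun q => Quotient.inductionOn q fun x => rfl
  have hτmul : ∀ g h q, τfun (g * h) q = τfun g (τfun h q) := fun g h q =>
    Quotient.inductionOn q fun x => rfl
  let τ : G →* Perm (Quotient s) :=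
    { toFun := fun g => ⟨τfun g, τfun g⁻¹,
        fun q => by rw [← hτmul, inv_mul_cancel, hτone],
        fun q => by rw [← hτmul, mul_inv_cancel, hτone]⟩
      map_one' := Equiv.ext hτone
      map_mul' := fun g h => Equiv.ext (hτmul g h) }
  have hτ : ∀ (g : G) x, π ((g : Perm Ω) x) = τ g (π x) := fun g x => rfl
  refine DL.of_hom τ (hq τ.range (Group.isSolvable_of_surjective τ.rangeRestrict_surjective) ?_) ?_
  · rintro _ ⟨g, rfl⟩
    exact ⟨g, g.2, fun x => (hτ g x).symm⟩
  have hker : ∀ (g : τ.ker) (x : Ω), π (((g : G) : Perm Ω) x) = π x := fun g x => by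
    rw [hτ, MonoidHom.mem_ker.1 g.2]; rfl
  let ρ : ∀ c, τ.ker →* Perm {x // π x = c} := fun c =>
    { toFun := fun g => ((g : G) : Perm Ω).subtypePerm fun x => by rw [hker g x]
      map_one' := Equiv.ext fun x => rfl
      map_mul' := fun g h => Equiv.ext fun x => rfl }
  refine DL.of_family ρ (fun g hg => Subtype.ext (Subtype.ext (Equiv.ext fun x => ?_))) fun c =>
    hf c _ (Group.isSolvable_of_surjective (ρ c).rangeRestrict_surjective)
  exact congrArg (fun σ : Perm {y // π y = π x} => ((σ ⟨x, rfl⟩ : {y // π y = π x}) : Ω)) (hg (π x))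

/-- The inductive step for permutation groups. -/
theorem dlP_step {n b : ℕ} (P : ℕ → ℕ) (hn : 2 ≤ n) (hsmall : ∀ k, k < n → DLP k (P k))
    (hintrans : ∀ k, k < n → P k ≤ b) (hblocks : ∀ s c, s * c = n → 2 ≤ s → 2 ≤ c → P s + P c ≤ b)
    (haffine : ∀ q k, q.Prime → q ^ k = n → ∃ d, DLB.{0} q k d ∧ 1 + d ≤ b) : DLP n b := by
  intro Ω _ hΩ G hsol
  classical
  haveI : Nontrivial Ω := Finite.one_lt_card_iff_nontrivial.1 (by omega)
  by_cases htrans : ∀ x y : Ω, ∃ g ∈ G, g x = y
  swap
  · let orb : Setoid Ω :=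
      { r := fun x y => ∃ g ∈ G, g x = y
        iseqv := ⟨fun x => ⟨1, one_mem _, rfl⟩, fun {x y} => fun ⟨g, hg, h⟩ =>
          ⟨g⁻¹, inv_mem hg, by rw [← h]; simp⟩,
          fun {x y z} => fun ⟨g, hg, h⟩ ⟨g', hg', h'⟩ =>
            ⟨g' * g, mul_mem hg' hg, by rw [Perm.mul_apply, h, h']⟩⟩ }
    rw [← zero_add b]
    refine dl_of_setoid G hsol orb (fun g hg x y ⟨u, hu, h⟩ =>
      ⟨g * u * g⁻¹, mul_mem (mul_mem hg hu) (inv_mem hg), by simp [h]⟩) (fun K _ hK => ?_)
      fun c K hK => ?_
    · haveI : Subsingleton K := ⟨fun k k' => Subtype.ext (Equiv.ext fun z =>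
        Quotient.inductionOn z fun x => by
          obtain ⟨g, hg, hgx⟩ := hK k k.2
          obtain ⟨g', hg', hgx'⟩ := hK k' k'.2
          rw [hgx, hgx']
          exact Quotient.sound ⟨g' * g⁻¹, mul_mem hg' (inv_mem hg), by simp⟩)⟩
      exact dl_of_subsingleton 0
    · have hlt : Nat.card {x // Quotient.mk orb x = c} < n := by
        rw [← hΩ]
        refine lt_of_le_of_ne (Finite.card_subtype_le _) fun h => htrans fun x y => ?_
        have hall : ∀ z, Quotient.mk orb z = c := fun z => by
          obtain ⟨w, rfl⟩ := ((Nat.bijective_iff_injective_and_card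
            (Subtype.val : {x // Quotient.mk orb x = c} → Ω)).2 ⟨Subtype.val_injective, h⟩).2 z
          exact w.2
        exact Quotient.exact ((hall x).trans (hall y).symm)
      exact ((hsmall _ hlt) _ rfl K hK).mono (hintrans _ hlt)
  by_cases hprim : PrimLabels G
  · obtain ⟨D⟩ := exists_affine hsol htrans hprim
    obtain ⟨d, hd, hdb⟩ := haffine D.q D.k D.prime (by rw [← D.card_eq, hΩ])
    haveI := D.solvable
    exact (D.dl d (hd.dl D.card_W D.semi (fun h hh => Subtype.ext (Units.ext (AddMonoidHom.ext hh))))).mono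
      hdb
  simp only [PrimLabels, not_forall, not_or] at hprim
  obtain ⟨s, hs, hsb, hst⟩ := hprim
  haveI : Fintype (Quotient s) := Fintype.ofFinite _
  have heq : ∀ c c' : Quotient s,
      Nat.card {x // Quotient.mk s x = c} = Nat.card {x // Quotient.mk s x = c'} := by
    intro c c'
    induction c using Quotient.inductionOn with
    | _ x =>
      induction c' using Quotient.inductionOn with
      | _ y =>
        obtain ⟨g, hg, rfl⟩ := htrans x y
        refine Nat.card_congr (Equiv.subtypeEquiv g fun z => ⟨fun h => ?_, fun h => ?_⟩)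
        · exact Quotient.sound (hs g hg _ _ (Quotient.exact h))
        · have := hs g⁻¹ (inv_mem hg) _ _ (Quotient.exact h)
          exact Quotient.sound (by simpa using this)
  obtain ⟨x₀, -⟩ := exists_pair_ne Ω
  set c := Nat.card {x // Quotient.mk s x = Quotient.mk s x₀}
  have hmul : Nat.card (Quotient s) * c = n := by
    rw [← hΩ, ← Nat.card_congr (Equiv.sigmaFiberEquiv (Quotient.mk s)), Nat.card_sigma,
      Finset.sum_congr rfl fun i _ => heq i (Quotient.mk s x₀), Finset.sum_const, Finset.card_univ,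
      smul_eq_mul, ← Nat.card_eq_fintype_card]
  have hs2 : 2 ≤ Nat.card (Quotient s) := by
    by_contra! hlt
    refine hst (Setoid.eq_top_iff.2 fun x y => Quotient.exact ?_)
    haveI : Subsingleton (Quotient s) := Finite.card_le_one_iff_subsingleton.1 (by omega)
    exact Subsingleton.elim _ _
  have hc2 : 2 ≤ c := by
    by_contra! hlt
    refine hsb (eq_bot_iff.2 fun x y hxy => ?_)
    have h1 : Nat.card {z // Quotient.mk s z = Quotient.mk s x} ≤ 1 := by rw [heq _ (Quotient.mk s x₀)]; omega
    haveI := Finite.card_le_one_iff_subsingleton.1 h1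
    exact congrArg Subtype.val (Subsingleton.elim
      (⟨x, rfl⟩ : {z // Quotient.mk s z = Quotient.mk s x}) ⟨y, (Quotient.sound hxy).symm⟩)
  refine (dl_of_setoid G hsol s hs (fun K hK _ => hsmall _ ?_ _ rfl K hK) fun c' K hK => ?_).mono
    (hblocks _ _ hmul hs2 hc2)
  · nlinarith
  · have hcc : Nat.card {x // Quotient.mk s x = c'} = c := heq _ _
    exact hsmall c (by nlinarith) _ hcc K hK

end CfsgLib.StabLength
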