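import Cfsg.Agent.StabLength.Good

/-!
# Groups without decomposition: stabilisers, orders and counting

The stabiliser of a non-zero vector is one step shorter than the whole group; a bound on the order
of the group gives inequivalent vectors.
-/

set_option autoImplicit false
set_option linter.unusedSectionVars false
set_option linter.style.haveILetI false

namespace CfsgLib.StabLength

open CfsgLib.SolvKGV MulAction

universe u

variable {H : Type u} [Group H] [Finite H] {V : Type u} [AddCommGroup V] [DistribMulAction H V]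
  [Finite V]

/-- Inequivalence of a family of vectors. -/
def Ineq (H : Type*) {V : Type*} [SMul H V] {n : ℕ} (v : Fin n → V) : Prop :=
  ∀ a b, ∀ g : H, g • v a = v b → a = b

theorem good_of_family {n : ℕ} (hn : 2 ≤ n) (hn' : n ≤ 5) (v : Fin n → V) (hv : Ineq H v)
    (hd : ∀ a, DL (stabilizer H (v a)) (n + 4)) : Good H V :=
  ⟨n, hn, hn', v, hv, hd⟩

/-- Non-zero inequivalent vectors together with zero. -/
theorem good_zero {n : ℕ} (hn : 1 ≤ n) (hn' : n ≤ 4) (hH : DL H (n + 5)) (v : Fin n → V)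
    (hv : Ineq H v) (hv0 : ∀ a, v a ≠ 0) (hd : ∀ a, DL (stabilizer H (v a)) (n + 5)) :
    Good H V := by
  refine good_of_family (n := n + 1) (by omega) (by omega) (Fin.snoc v 0) (fun a b g e => ?_)
    fun a => ?_
  · induction a using Fin.lastCases with
    | last =>
      induction b using Fin.lastCases with
      | last => rfl
      | cast b =>
        rw [Fin.snoc_last, Fin.snoc_castSucc, smul_zero] at e
        exact absurd e.symm (hv0 b)
    | cast a =>
      induction b using Fin.lastCases with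
      | last =>
        rw [Fin.snoc_last, Fin.snoc_castSucc] at e
        exact absurd (MulAction.injective g (e.trans (smul_zero g).symm)) (hv0 a)
      | cast b =>
        rw [Fin.snoc_castSucc, Fin.snoc_castSucc] at e
        rw [hv a b g e]
  · induction a using Fin.lastCases with
    | last => exact hH.subgroup _
    | cast a => rw [Fin.snoc_castSucc]; exact (hd a).mono (by omega)

/-- Short groups have a good pair. -/
theorem good_of_dl [Nontrivial V] (hH : DL H 6) : Good H V := by
  obtain ⟨x, hx⟩ := exists_ne (0 : V)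
  exact good_zero (n := 1) le_rfl (by norm_num) hH (fun _ => x)
    (fun a b _ _ => Subsingleton.elim a b) (fun _ => hx) fun _ => hH.subgroup _

/-- Many vectors: a family of non-zero inequivalent vectors. -/
theorem exists_nonzero_family {k : ℕ} {N q m : ℕ} (hV : Nat.card V = q ^ m) (hN : Nat.card H ≤ N)
    (h : k * N + 1 < q ^ m) :
    ∃ v : Fin (k + 1) → V, Ineq H v ∧ ∀ a, v a ≠ 0 := by
  classical
  haveI := Fintype.ofFinite V
  have hle : k * Nat.card H ≤ k * N := Nat.mul_le_mul_left k hN
  obtain ⟨v, hv, hvS⟩ := exists_inequivalent (H := H) (S := Finset.univ.erase (0 : V)) (k + 1) (by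
    rw [Finset.card_erase_of_mem (Finset.mem_univ _), Finset.card_univ,
      ← Nat.card_eq_fintype_card, hV, Nat.succ_mul]
    omega)
  exact ⟨v, hv, fun a => Finset.ne_of_mem_erase (hvS a)⟩

/-- Three orbits of non-zero vectors by arithmetic. -/
theorem exists_three_of_dvd [Nontrivial V] {N T : ℕ} (hN : Nat.card H ∣ N)
    (hT : Nat.card V = T + 1) (hsol : ∀ a : ℕ, a ∣ N → a ≠ T ∧ ¬ (T - a) ∣ N) :
    ∃ v : Fin 3 → V, Ineq H v ∧ ∀ a, v a ≠ 0 := by
  classical
  have hcard : ∀ x : V, (orbit H x).ncard ∣ N := fun x => by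
    rw [← index_stabilizer H x]
    exact (Subgroup.index_dvd_card _).trans hN
  have hne : ∀ (x y : V), x ≠ 0 → y ∈ orbit H x → y ≠ 0 := by
    rintro x _ hx ⟨g, rfl⟩ e
    exact hx (MulAction.injective g (e.trans (smul_zero g).symm))
  have hall : ({x : V | x ≠ 0}).ncard = T := by
    have h := Set.ncard_add_ncard_compl ({0} : Set V)
    rw [Set.ncard_singleton, hT] at h
    have e : ({x : V | x ≠ 0}) = ({0} : Set V)ᶜ := by ext; simp
    rw [e]
    omega
  obtain ⟨x, hx⟩ := exists_ne (0 : V)
  obtain ⟨y, hy, hyx⟩ : ∃ y : V, y ≠ 0 ∧ y ∉ orbit H x := by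
    by_contra! hc
    refine (hsol _ (hcard x)).1 ?_
    rw [← hall]
    congr 1
    ext z
    exact ⟨hne x z hx, hc z⟩
  obtain ⟨z, hz, hzx, hzy⟩ : ∃ z : V, z ≠ 0 ∧ z ∉ orbit H x ∧ z ∉ orbit H y := by
    by_contra! hc
    refine (hsol _ (hcard x)).2 ?_
    have hdis : Disjoint (orbit H x) (orbit H y) := by
      rw [Set.disjoint_left]
      intro w hwx hwy
      apply hyx
      rw [← orbit_eq_iff.2 hwx, orbit_eq_iff.2 hwy]
      exact mem_orbit_self y
    have e : T = (orbit H x).ncard + (orbit H y).ncard := by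
      rw [← hall, ← Set.ncard_union_eq hdis]
      congr 1
      ext w
      refine ⟨fun hw => ?_, ?_⟩
      · by_cases hwx : w ∈ orbit H x
        · exact Or.inl hwx
        · exact Or.inr (hc w hw hwx)
      · rintro (hw | hw)
        · exact hne x w hx hw
        · exact hne y w hy hw
    rw [e, Nat.add_sub_cancel_left]
    exact hcard y
  refine ⟨![x, y, z], fun a b g e => ?_, fun a => by fin_cases a <;> assumption⟩
  have key : ∀ {u w : V}, w ∉ orbit H u → g • u ≠ w ∧ g • w ≠ u := fun {u w} hw =>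
    ⟨fun h => hw ⟨g, h⟩, fun h => hw ⟨g⁻¹, by simp [← h]⟩⟩
  fin_cases a <;> fin_cases b <;> simp at e ⊢
  exacts [(key hyx).1 e, (key hzx).1 e, (key hyx).2 e, (key hzy).1 e, (key hzx).2 e, (key hzy).2 e]

/-- An automorphism group of a completely reducible `r`-group is elementary. -/
theorem elem_of_semi {X W : Type*} [Group X] [AddCommGroup W] [DistribMulAction X W] [Finite W]
    {r d : ℕ} (hW : Nat.card W = r ^ d) (hs : Semi X W) : ∀ w : W, r • w = 0 := by
  set U := (nsmulAddMonoidHom (α := W) r).range with hU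
  have hinv : IsInv X U := by
    rintro h _ ⟨w, rfl⟩
    exact ⟨h • w, (smul_comm h r w).symm⟩
  obtain ⟨U', hinv', hc⟩ := hs U hinv
  have hrU : ∀ w : W, ∃ z, r • w = r • r • z := fun w => by
    obtain ⟨u, hu, u', hu', e⟩ :=
      AddSubgroup.mem_sup.1 (hc.sup_eq_top.symm ▸ AddSubgroup.mem_top w : w ∈ U ⊔ U')
    obtain ⟨z, rfl⟩ := hu
    refine ⟨z, ?_⟩
    have h0 : r • u' = 0 := by
      have hmem : r • u' ∈ U ⊓ U' := ⟨⟨u', rfl⟩, U'.nsmul_mem hu' r⟩
      rwa [hc.inf_eq_bot, AddSubgroup.mem_bot] at hmem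
    rw [← e, nsmul_add, h0, add_zero]
    rfl
  have hpow : ∀ (n : ℕ) (w : W), ∃ z, r • w = r ^ (n + 1) • z := by
    intro n
    induction n with
    | zero => exact fun w => ⟨w, by rw [pow_one]⟩
    | succ n ih =>
      intro w
      obtain ⟨z, hz⟩ := ih w
      obtain ⟨z', hz'⟩ := hrU z
      refine ⟨z', ?_⟩
      rw [hz, pow_succ r n, mul_smul, hz', ← mul_smul, ← mul_smul, pow_succ r (n + 1), pow_succ r n,
        mul_assoc]
  intro w
  obtain ⟨z, hz⟩ := hpow d w
  rw [hz, pow_succ, mul_comm, mul_smul, ← hW, card_nsmul_eq_zero', smul_zero]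

/-- The order of a linear group of dimension two. -/
theorem card_le_GL_two {X W : Type u} [Group X] [Finite X] [AddCommGroup W] [DistribMulAction X W]
    [Finite W] (hf : Faith X W) {r : ℕ} (hr : r.Prime) (hW : Nat.card W = r ^ 2) :
    Nat.card X ≤ (r ^ 2 - 1) * (r ^ 2 - r) := by
  classical
  haveI := Fintype.ofFinite W
  obtain ⟨x, y, hx, hxy, -⟩ := exists_two_generators hr hW
  have hnz : ∀ (g : X) {u : W}, u ≠ 0 → g • u ≠ 0 := fun g u hu e =>
    hu (MulAction.injective g (e.trans (smul_zero g).symm))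
  have hU : Fintype.card W = r ^ 2 := by rw [← Nat.card_eq_fintype_card, hW]
  by_cases hy : y ∈ AddSubgroup.zmultiples x
  · have htop : AddSubgroup.closure {x, x} = ⊤ := by
      rw [eq_top_iff, ← hxy, AddSubgroup.closure_le]
      rintro w (rfl | rfl)
      · exact AddSubgroup.subset_closure (by simp)
      · rw [Set.pair_eq_singleton, ← AddSubgroup.zmultiples_eq_closure]
        exact hy
    refine (card_le_of_generators (X := X) hf htop
      (((Finset.univ.erase (0 : W)).image fun w => (w, w) : Finset (W × W)) : Set (W × W))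
      fun (g : X) => Finset.mem_coe.2 (Finset.mem_image.2
        ⟨g • x, Finset.mem_erase.2 ⟨hnz g hx, Finset.mem_univ _⟩, rfl⟩)).trans ?_
    rw [Nat.card_coe_set_eq, Set.ncard_coe_finset]
    refine Finset.card_image_le.trans ?_
    rw [Finset.card_erase_of_mem (Finset.mem_univ _), Finset.card_univ, hU]
    exact Nat.le_mul_of_pos_right _
      (Nat.sub_pos_of_lt (by nlinarith [hr.two_le] : r < r ^ 2))
  · let S : Finset (W × W) := (Finset.univ.erase (0 : W)).biUnion fun u =>
      (Finset.univ.filter fun w => w ∉ AddSubgroup.zmultiples u).image fun w => (u, w)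
    refine (card_le_of_generators (X := X) hf hxy (S : Set (W × W)) fun (g : X) =>
      Finset.mem_coe.2 (Finset.mem_biUnion.2 ⟨g • x, Finset.mem_erase.2 ⟨hnz g hx,
        Finset.mem_univ _⟩, Finset.mem_image.2 ⟨g • y, Finset.mem_filter.2
          ⟨Finset.mem_univ _, fun hm => hy ?_⟩, rfl⟩⟩)).trans ?_
    · obtain ⟨i, hi⟩ := AddSubgroup.mem_zmultiples_iff.1 hm
      exact AddSubgroup.mem_zmultiples_iff.2
        ⟨i, MulAction.injective g (((DistribSMul.toAddMonoidHom W g).map_zsmul i x).trans hi)⟩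
    rw [Nat.card_coe_set_eq, Set.ncard_coe_finset]
    refine (Finset.card_biUnion_le.trans (Finset.sum_le_sum fun u hu => Finset.card_image_le.trans
      ?_)).trans (le_of_eq (by
        rw [Finset.sum_const, smul_eq_mul, Finset.card_erase_of_mem (Finset.mem_univ _),
          Finset.card_univ, hU]))
    rw [Finset.filter_not, Finset.card_univ_diff, hU]
    refine Nat.sub_le_sub_left ?_ _
    have hc : r ≤ Nat.card (AddSubgroup.zmultiples u) := by
      obtain ⟨j, -, hj⟩ := (Nat.dvd_prime_pow hr).1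
        (hW ▸ (AddSubgroup.zmultiples u).card_addSubgroup_dvd_card)
      rw [hj]
      refine Nat.le_self_pow (fun h0 => (Finset.mem_erase.1 hu).1 ?_) r
      rw [h0, pow_zero, AddSubgroup.card_eq_one, AddSubgroup.zmultiples_eq_bot] at hj
      exact hj
    refine hc.trans (le_of_eq ?_)
    rw [Nat.card_eq_fintype_card]
    exact Fintype.card_of_subtype _ (by simp)

variable [Group.IsSolvable H] [Nontrivial V] {P : Prim H V} (I : SolvKGV.Inner P)

/-- The stabiliser of a non-zero vector. -/
theorem dl_stabilizer {d : ℕ} (hd : DL I.f.range d) {v : V} (hv : v ≠ 0) :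
    DL (stabilizer H v) ((if P.e = 1 then 0 else 1) + (d + 1)) := by
  refine dl_add_of_centralizer_inf P _ ?_
  set S : Subgroup H := stabilizer H v ⊓ Subgroup.centralizer (P.A : Set H)
  let f' : S →* (AddMonoid.End I.W)ˣ :=
    I.f.comp (Subgroup.inclusion (inf_le_right : S ≤ Subgroup.centralizer (P.A : Set H)))
  refine DL.of_hom f' (hd.of_le ?_) ?_
  · rintro _ ⟨x, rfl⟩; exact ⟨_, rfl⟩
  refine dl_one_of_comm fun a b => ?_
  have hB : ∀ c : f'.ker, ((c : S) : H) ∈ I.B := fun c =>
    (SetLike.ext_iff.1 I.ker_f _).1 c.2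
  refine Subtype.ext (Subtype.ext ?_)
  show ((a : S) : H) * (b : S) = (b : S) * (a : S)
  have hfix : ∀ c : f'.ker, ((c : S) : H) • v = v := fun c => (c : S).2.1
  refine mul_inv_eq_iff_eq_mul.1 (mul_inv_eq_one.1 (P.free _ (I.com _ (hB a) _ (hB b)) v hv ?_))
  have hi : ∀ c : f'.ker, ((c : S) : H)⁻¹ • v = v := fun c => inv_smul_eq_iff.2 (hfix c).symm
  simp only [mul_smul, hi, hfix]

/-- The order of the group. -/
theorem card_le_index (R : ℕ) (hR : Nat.card I.f.range ≤ R) :
    Nat.card H ≤ P.e * (R * ((P.p ^ P.e - 1) * I.M ^ 2)) := by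
  have hA : Nat.card P.A ≤ P.p ^ P.e - 1 := by
    have := P.card_lt
    omega
  rw [Inner.card_eq I, I.card_B]
  gcongr
  exact P.card_quot

/-- Divisors of the order of the group. -/
theorem card_dvd_of_range {c R : ℕ} (hc : Nat.card (H ⧸ Subgroup.centralizer (P.A : Set H)) ∣ c)
    (hR : Nat.card I.f.range ∣ R) :
    Nat.card H ∣ c * (R * ((P.p ^ P.e - 1) * I.M ^ 2)) := by
  rw [Inner.card_eq I, I.card_B]
  exact mul_dvd_mul hc (mul_dvd_mul hR (mul_dvd_mul_right P.card_dvd _))

theorem card_eq_q : Nat.card V = (P.p ^ P.e) ^ P.m := by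
  rw [P.card_eq, pow_mul]

theorem two_le_q (P : Prim H V) : 2 ≤ P.p ^ P.e :=
  P.prime.two_le.trans (Nat.le_self_pow (by have := P.e_pos; omega) _)

theorem e_le_q (P : Prim H V) : P.e ≤ P.p ^ P.e :=
  (Nat.lt_two_pow_self (n := P.e)).le.trans (Nat.pow_le_pow_left P.prime.two_le _)

theorem e_eq_one (P : Prim H V) {q : ℕ} (hq : P.p ^ P.e = q) (h : q.Prime) : P.e = 1 :=
  (h.pow_eq_iff.1 hq).2

theorem prime_dvd_q {r : ℕ} (hr : r.Prime) (h : r ∣ I.M) : r ∣ P.p ^ P.e - 1 :=
  (I.prime_dvd r hr h).trans P.card_dvd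

theorem prime_le_q {r : ℕ} (hr : r.Prime) (h : r ∣ I.M) : r < P.p ^ P.e := by
  have h1 := prime_dvd_q I hr h
  have h2 := two_le_q P
  have := Nat.le_of_dvd (by omega) h1
  omega

end CfsgLib.StabLength
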