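import Cfsg.Agent.StabLength.PrimBase

/-!
# Groups without decomposition: five vectors for inner parts of middle size
-/

set_option autoImplicit false
set_option linter.unusedSectionVars false
set_option linter.style.haveILetI false

namespace CfsgLib.StabLength

open CfsgLib.SolvKGV MulAction

universe u

/-- The outer group for `M` not divisible by `2 ^ 8` or by a fourth power of an odd prime. -/
theorem dInner_middle {M : ℕ} (hM : M ≠ 0) (h2 : ¬ 2 ^ 8 ∣ M)
    (h4 : ∀ r, r.Prime → 3 ≤ r → ¬ r ^ 4 ∣ M) : DInner.{u} M 7 := by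
  refine dInner_of_primary fun r a hr h => ?_
  have ha : a ≤ 2 * M.factorization r := by
    have := (hr.pow_dvd_iff_le_factorization (pow_ne_zero 2 hM)).1 h
    rwa [Nat.factorization_pow, Finsupp.smul_apply, smul_eq_mul] at this
  rcases Nat.eq_zero_or_pos a with rfl | ha0
  · exact dlB_zero _ _
  by_cases hr2 : r = 2
  · subst hr2
    have h7 : M.factorization 2 ≤ 7 := by
      by_contra! h8
      exact h2 ((hr.pow_dvd_iff_le_factorization hM).2 h8)
    refine DLB.mono (dlB_two a ha0 (by omega)) ?_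
    have : a ≤ 14 := by omega
    interval_cases a <;> decide
  · have h3 : M.factorization r ≤ 3 := by
      by_contra! h8
      exact h4 r hr (by have := hr.two_le; omega) ((hr.pow_dvd_iff_le_factorization hM).2 h8)
    have : a ≤ 6 := by omega
    refine DLB.mono (dlB_gen hr a this) ?_
    interval_cases a <;> decide

theorem four_mul_pow_lt {M : ℕ} (hM : 14 ≤ M) : 4 * M ^ 8 < 7 ^ (M - 2) := by
  induction M, hM using Nat.le_induction with
  | base => norm_num
  | succ n hn ih =>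
    rw [show n + 1 - 2 = (n - 2) + 1 by omega, pow_succ 7 (n - 2)]
    have h1 : (4 * (n + 1)) ^ 8 ≤ (5 * n) ^ 8 := Nat.pow_le_pow_left (by omega) 8
    rw [mul_pow, mul_pow] at h1
    norm_num at h1
    omega

/-- The count for five orbits. -/
theorem mid_count {q e M : ℕ} (hq : 2 ≤ q) (hM : 1 ≤ M) (h : 4 * e * M ^ 8 < q ^ (M - 1)) :
    4 * (e * (M ^ 6 * ((q - 1) * M ^ 2))) + 1 < q ^ M := by
  obtain ⟨k, rfl⟩ := Nat.exists_eq_add_of_le' hM
  obtain ⟨t, rfl⟩ := Nat.exists_eq_add_of_le' (show 1 ≤ q by omega)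
  rw [Nat.add_sub_cancel] at h ⊢
  have e1 : 4 * (e * ((k + 1) ^ 6 * (t * (k + 1) ^ 2))) = 4 * e * (k + 1) ^ 8 * t := by ring
  rw [e1, pow_succ (t + 1)]
  generalize 4 * e * (k + 1) ^ 8 = X at h ⊢
  generalize (t + 1) ^ k = Y at h ⊢
  have h1 : (X + 1) * t ≤ Y * t := Nat.mul_le_mul_right t h
  rw [add_mul, one_mul] at h1
  rw [mul_add, mul_one]
  omega

theorem eq_prime_pow {M r : ℕ} (hM : M ≠ 0)
    (h : ∀ s, s.Prime → s ∣ M → s = r) : ∃ k, M = r ^ k :=
  ⟨_, Nat.eq_prime_pow_of_unique_prime_dvd hM fun {s} hs hd => h s hs hd⟩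

/-- The arithmetic of the middle range. -/
theorem mid_key {q e M : ℕ} (h10 : 10 ≤ M) (h8 : ¬ 2 ^ 8 ∣ M)
    (hodd : ∀ r, r.Prime → 3 ≤ r → ¬ r ^ 4 ∣ M) (h16 : ¬ (M = 16 ∧ q = 3)) (he : e ≤ q)
    (he1 : q.Prime → e = 1) (he4 : q = 4 → e ≤ 2) (hq6 : q ≠ 6)
    (hpr : ∀ r : ℕ, r.Prime → r ∣ M → r ∣ q - 1) (hq : 2 ≤ q := by omega) :
    4 * e * M ^ 8 < q ^ (M - 1) := by
  have gen : ∀ t : ℕ, t ≤ q → 4 * M ^ 8 < t ^ (M - 2) → 4 * e * M ^ 8 < q ^ (M - 1) := by
    intro t ht h
    rw [show M - 1 = (M - 2) + 1 by omega, pow_succ q (M - 2)]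
    calc 4 * e * M ^ 8 = e * (4 * M ^ 8) := by ring
      _ ≤ q * (4 * M ^ 8) := Nat.mul_le_mul_right _ he
      _ < q * q ^ (M - 2) := Nat.mul_lt_mul_of_pos_left (h.trans_le (Nat.pow_le_pow_left ht _))
          (by omega)
      _ = q ^ (M - 2) * q := mul_comm _ _
  rcases le_or_gt 14 M with h14 | h14
  · rcases le_or_gt 7 q with h7 | h7
    · exact gen 7 h7 (four_mul_pow_lt h14)
    clear gen
    have hM0 : M ≠ 0 := by omega
    obtain ⟨r, hr, hrM⟩ := Nat.exists_prime_and_dvd (show M ≠ 1 by omega)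
    have h3 : 3 ≤ q := by
      have := Nat.le_of_dvd (by omega) (hpr r hr hrM)
      have := hr.two_le
      omega
    rcases (by omega : q = 3 ∨ q = 4 ∨ q = 5) with rfl | rfl | rfl
    · obtain ⟨k, rfl⟩ := eq_prime_pow hM0 (r := 2) fun s hs hd =>
        (Nat.prime_dvd_prime_iff_eq hs Nat.prime_two).1 (hpr s hs hd)
      have hk7 : k ≤ 7 := by
        by_contra! hk8
        exact h8 (pow_dvd_pow 2 hk8)
      rw [he1 Nat.prime_three]
      interval_cases k <;> norm_num at *
    · obtain ⟨k, rfl⟩ := eq_prime_pow hM0 (r := 3) fun s hs hd =>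
        (Nat.prime_dvd_prime_iff_eq hs Nat.prime_three).1 (hpr s hs hd)
      have hk3 : k ≤ 3 := by
        by_contra! hk4
        exact hodd 3 Nat.prime_three le_rfl (pow_dvd_pow 3 hk4)
      calc 4 * e * (3 ^ k) ^ 8 ≤ 4 * 2 * (3 ^ k) ^ 8 :=
            Nat.mul_le_mul_right _ (Nat.mul_le_mul_left _ (he4 rfl))
        _ < 4 ^ (3 ^ k - 1) := by interval_cases k <;> norm_num at *
    · obtain ⟨k, rfl⟩ := eq_prime_pow hM0 (r := 2) fun s hs hd =>
        (Nat.prime_dvd_prime_iff_eq hs Nat.prime_two).1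
          (hs.dvd_of_dvd_pow (n := 2) (hpr s hs hd))
      have hk7 : k ≤ 7 := by
        by_contra! hk8
        exact h8 (pow_dvd_pow 2 hk8)
      rw [he1 Nat.prime_five]
      interval_cases k <;> norm_num at *
  · interval_cases M
    · have h2 := hpr 2 Nat.prime_two (by norm_num)
      have h5 := hpr 5 Nat.prime_five (by norm_num)
      rcases (by omega : q = 11 ∨ 12 ≤ q) with h | h
      · subst h; rw [he1 (by norm_num)]; norm_num
      · exact gen 12 h (by norm_num)
    · have h11 := hpr 11 (by norm_num) (by norm_num)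
      exact gen 12 (by omega) (by norm_num)
    · have h2 := hpr 2 Nat.prime_two (by norm_num)
      have h3 := hpr 3 Nat.prime_three (by norm_num)
      rcases (by omega : q = 7 ∨ 9 ≤ q) with h | h
      · subst h; rw [he1 (by norm_num)]; norm_num
      · exact gen 9 h (by norm_num)
    · have h13 := hpr 13 (by norm_num) (by norm_num)
      exact gen 14 (by omega) (by norm_num)

variable {H : Type u} [Group H] [Finite H] [Group.IsSolvable H] {V : Type u} [AddCommGroup V]
  [DistribMulAction H V] [Finite V] [Nontrivial V]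

/-- Five vectors for inner parts of middle size. -/
theorem good_middle {P : Prim H V} (I : SolvKGV.Inner P) (h10 : 10 ≤ I.M)
    (hbig : ¬ (2 ^ 8 ∣ I.M ∨ ∃ r, r.Prime ∧ 3 ≤ r ∧ r ^ 4 ∣ I.M))
    (h16 : ¬ (I.M = 16 ∧ P.p ^ P.e = 3)) : Good H V := by
  simp only [not_or, not_exists, not_and] at hbig
  set M := I.M with hMdef
  set q := P.p ^ P.e with hqdef
  have hM0 : M ≠ 0 := by omega
  haveI := SolvKGV.isSolvable_range (H := Subgroup.centralizer (P.A : Set H)) I.f
  have hd : DL I.f.range 7 := (dInner_middle hM0 hbig.1 hbig.2).dl P I rfl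
  have hR : Nat.card I.f.range ≤ M ^ 6 :=
    (card_le_cube I.semi (faith_units _)).trans_eq (by rw [I.card_W, ← pow_mul])
  have hq2 : 2 ≤ q := two_le_q P
  have he : P.e ≤ q := e_le_q P
  have hpr : ∀ r : ℕ, r.Prime → r ∣ M → r ∣ q - 1 := fun r hr h => prime_dvd_q I hr h
  have key : 4 * P.e * M ^ 8 < q ^ (M - 1) := mid_key h10 hbig.1 hbig.2 h16 he
    (fun h => e_eq_one P rfl h) (fun h4 => ?_) (fun h6 => ?_) hpr
  rotate_left
  · by_contra! h3
    have h1 : 2 ^ P.e ≤ q := Nat.pow_le_pow_left P.prime.two_le P.e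
    have h2 : 2 ^ 3 ≤ 2 ^ P.e := Nat.pow_le_pow_right (by norm_num) h3
    omega
  · have e2 : 2 = P.p := (Nat.prime_dvd_prime_iff_eq Nat.prime_two P.prime).1
      (Nat.prime_two.dvd_of_dvd_pow (show 2 ∣ q from h6 ▸ by norm_num))
    have e3 : 3 = P.p := (Nat.prime_dvd_prime_iff_eq Nat.prime_three P.prime).1
      (Nat.prime_three.dvd_of_dvd_pow (show 3 ∣ q from h6 ▸ by norm_num))
    omega
  have hcount := (mid_count hq2 (by omega) key).trans_le
    (Nat.pow_le_pow_right (show 1 ≤ q by omega) (show M ≤ P.m from I.le_m))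
  obtain ⟨v, hv, hv0⟩ := exists_nonzero_family (H := H) (k := 4) (card_eq_q (P := P))
    (card_le_index I _ hR) hcount
  exact good_of_family (n := 5) (by norm_num) le_rfl v hv fun a =>
    (dl_stabilizer I hd (hv0 a)).mono (by split_ifs <;> norm_num)

end CfsgLib.StabLength
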