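import Cfsg.Agent.StabLength.PrimBase

/-!
# Groups without decomposition: inner parts with `M ≤ 7`
-/

set_option autoImplicit false
set_option linter.unusedSectionVars false
set_option linter.style.haveILetI false

namespace CfsgLib.StabLength

open CfsgLib.SolvKGV MulAction

universe u

theorem dInner_seven : DInner.{u} 7 4 := by
  refine dInner_of_primary fun r a hr h => ?_
  rcases exp_le_of_dvd_pow hr (show Nat.Prime 7 by norm_num) (show r ^ a ∣ 7 ^ 2 from h) with
    rfl | ⟨rfl, ha⟩
  · exact dlB_zero _ _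
  · interval_cases a
    exacts [dlB_zero _ _, DLB.mono (dlB_any_one hr) (by norm_num), dlB_gen_two hr]

/-- The count for two orbits of non-zero vectors. -/
theorem two_count {q e m R M : ℕ} (he : e ≤ q) (hq : 2 ≤ q) (hm : M ≤ m) (hM : 3 ≤ M)
    (h : R * M ^ 2 < q ^ (M - 2)) : 1 * (e * (R * ((q - 1) * M ^ 2))) + 1 < q ^ m := by
  obtain ⟨t, rfl⟩ := Nat.exists_eq_add_of_le' (show 1 ≤ q by omega)
  refine lt_of_lt_of_le ?_ (Nat.pow_le_pow_right (by omega) hm)
  obtain ⟨k, rfl⟩ := Nat.exists_eq_add_of_le' (show 2 ≤ M by omega)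
  rw [Nat.add_sub_cancel] at h ⊢
  rw [one_mul, pow_add (t + 1) k 2]
  generalize (t + 1) ^ k = Y at h ⊢
  generalize hX : R * (k + 2) ^ 2 = X at h
  have e1 : e * (R * (t * (k + 2) ^ 2)) = e * X * t := by rw [← hX]; ring
  have h1 : e * X * t ≤ (t + 1) * X * t :=
    Nat.mul_le_mul_right _ (Nat.mul_le_mul_right _ he)
  have h2 : (X + 1) * ((t + 1) * t) ≤ Y * ((t + 1) * t) := Nat.mul_le_mul_right _ h
  rw [e1]
  nlinarith

variable {H : Type u} [Group H] [Finite H] [Group.IsSolvable H] {V : Type u} [AddCommGroup V]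
  [DistribMulAction H V] [Finite V] [Nontrivial V]

/-- Inner parts with `M ≤ 7`. -/
theorem good_small {P : Prim H V} (I : SolvKGV.Inner P) (h7 : I.M ≤ 7) : Good H V := by
  have h2 := I.two_le
  haveI := SolvKGV.isSolvable_range (H := Subgroup.centralizer (P.A : Set H)) I.f
  -- two non-zero vectors, if the group is long
  have two : ∀ R, Nat.card I.f.range ≤ R → DL I.f.range 4 →
      1 * (P.e * (R * ((P.p ^ P.e - 1) * I.M ^ 2))) + 1 < (P.p ^ P.e) ^ P.m → Good H V := by
    intro R hR hd hcount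
    obtain ⟨v, hv, hv0⟩ := exists_nonzero_family (H := H) (k := 1) (card_eq_q (P := P))
      (card_le_index I R hR) hcount
    exact good_zero (n := 2) (by norm_num) (by norm_num)
      ((dl_of_inner I hd).mono (by split_ifs <;> norm_num)) v hv hv0
      fun a => (dl_stabilizer I hd (hv0 a)).mono (by split_ifs <;> norm_num)
  have hGL : ∀ r : ℕ, r.Prime → I.M = r → Nat.card I.f.range ≤ (r ^ 2 - 1) * (r ^ 2 - r) :=
    fun r hr h => card_le_GL_two (faith_units _) hr (by rw [I.card_W, h])
  have hone : ∀ d, DL I.f.range d → (if P.e = 1 then 0 else 1) + (d + 2) ≤ 6 → Good H V :=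
    fun d hd h => good_of_dl ((dl_of_inner I hd).mono h)
  rcases (by omega : I.M ≤ 4 ∨ I.M = 5 ∨ I.M = 6 ∨ I.M = 7) with h | h | h | h
  · refine hone 3 (((dInner_small h2 (by omega)).dl P I rfl).mono ?_) (by split_ifs <;> norm_num)
    interval_cases I.M <;> decide
  · have hd : DL I.f.range 4 := (dInner_small h2 (by omega)).dl P I rfl |>.mono (by rw [h]; decide)
    by_cases he : P.e = 1
    · exact hone 4 hd (by rw [if_pos he])
    refine two 480 ((hGL 5 Nat.prime_five h).trans (by norm_num)) hd ?_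
    rw [h]
    have h5 := prime_dvd_q I Nat.prime_five (h ▸ dvd_rfl)
    have hq2 := two_le_q P
    have hnp : ¬ (P.p ^ P.e).Prime := fun hp => he (e_eq_one P rfl hp)
    rcases le_or_gt 23 (P.p ^ P.e) with h23 | h23
    · exact two_count (e_le_q P) hq2 (h ▸ I.le_m) (by norm_num)
        (lt_of_lt_of_le (by norm_num) (Nat.pow_le_pow_left h23 _))
    · have he4 : P.p ^ P.e = 6 ∨ P.p ^ P.e = 16 ∨ P.p ^ P.e = 21 := by
        rcases (by omega : P.p ^ P.e = 6 ∨ P.p ^ P.e = 11 ∨ P.p ^ P.e = 16 ∨ P.p ^ P.e = 21)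
          with e | e | e | e
        · exact Or.inl e
        · exact absurd (e ▸ (by norm_num : Nat.Prime 11)) hnp
        · exact Or.inr (Or.inl e)
        · exact Or.inr (Or.inr e)
      have hpp : ∀ a b : ℕ, a.Prime → b.Prime → a ≠ b → a * b ∣ P.p ^ P.e → False :=
        fun a b ha hb hab hd =>
          hab (((Nat.prime_dvd_prime_iff_eq ha P.prime).1
            (ha.dvd_of_dvd_pow ((dvd_mul_right a b).trans hd))).trans
              ((Nat.prime_dvd_prime_iff_eq hb P.prime).1
                (hb.dvd_of_dvd_pow ((dvd_mul_left b a).trans hd))).symm)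
      rcases he4 with e | e | e
      · exact (hpp 2 3 Nat.prime_two Nat.prime_three (by norm_num) (by norm_num [e])).elim
      · have h4 : P.e ≤ 4 := by
          have h1 : 2 ^ P.e ≤ 2 ^ 4 :=
            (Nat.pow_le_pow_left P.prime.two_le P.e).trans (by rw [e]; norm_num)
          exact (Nat.pow_le_pow_iff_right (by norm_num : 1 < 2)).1 h1
        rw [e]
        refine lt_of_le_of_lt (Nat.add_le_add_right (Nat.mul_le_mul_left 1
          (Nat.mul_le_mul_right _ h4)) 1) (lt_of_lt_of_le ?_ (Nat.pow_le_pow_right (by norm_num)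
            (show 5 ≤ P.m from h ▸ I.le_m)))
        norm_num
      · exact (hpp 3 7 Nat.prime_three (by norm_num) (by norm_num) (by norm_num [e])).elim
  · have hd : DL I.f.range 4 := (dInner_small h2 (by omega)).dl P I rfl |>.mono (by rw [h]; decide)
    by_cases he : P.e = 1
    · exact hone 4 hd (by rw [if_pos he])
    refine two 1296 ((SolvKGV.card_le_thirty_six (faith_units _)
      (by rw [I.card_W, h]; norm_num)).trans (by norm_num)) hd ?_
    rw [h]
    have hd2 := prime_dvd_q I Nat.prime_two (h ▸ by norm_num)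
    have hd3 := prime_dvd_q I Nat.prime_three (h ▸ by norm_num)
    have hnp : ¬ (P.p ^ P.e).Prime := fun hp => he (e_eq_one P rfl hp)
    have hq2 := two_le_q P
    have h25 : 15 ≤ P.p ^ P.e := by
      by_contra! hlt
      rcases (by omega : P.p ^ P.e = 7 ∨ P.p ^ P.e = 13) with e | e <;>
        exact hnp (e ▸ by norm_num)
    exact two_count (e_le_q P) hq2 (h ▸ I.le_m) (by norm_num)
      (lt_of_lt_of_le (by norm_num) (Nat.pow_le_pow_left h25 _))
  · have hd : DL I.f.range 4 := (h ▸ dInner_seven).dl P I rfl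
    by_cases he : P.e = 1
    · exact hone 4 hd (by rw [if_pos he])
    refine two 2016 ((hGL 7 (by norm_num) h).trans (by norm_num)) hd ?_
    rw [h]
    have hd7 := prime_dvd_q I (show Nat.Prime 7 by norm_num) (h ▸ dvd_rfl)
    have hq2 := two_le_q P
    rcases (by omega : P.p ^ P.e = 8 ∨ 10 ≤ P.p ^ P.e) with e | e
    · have h3 : P.e ≤ 3 := by
        have h1 : 2 ^ P.e ≤ 2 ^ 3 :=
          (Nat.pow_le_pow_left P.prime.two_le P.e).trans (by rw [e]; norm_num)
        exact (Nat.pow_le_pow_iff_right (by norm_num : 1 < 2)).1 h1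
      rw [e]
      refine lt_of_le_of_lt (Nat.add_le_add_right (Nat.mul_le_mul_left 1
        (Nat.mul_le_mul_right _ h3)) 1) (lt_of_lt_of_le ?_ (Nat.pow_le_pow_right (by norm_num)
          (show 7 ≤ P.m from h ▸ I.le_m)))
      norm_num
    · exact two_count (e_le_q P) hq2 (h ▸ I.le_m) (by norm_num)
        (lt_of_lt_of_le (by norm_num) (Nat.pow_le_pow_left e _))

end CfsgLib.StabLength
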