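import Cfsg.Agent.StabLength.LinStep

/-!
# Tables of derived lengths for small solvable linear and permutation groups
-/

set_option autoImplicit false
set_option linter.style.haveILetI false

namespace CfsgLib.StabLength

universe u

/-- Permutation groups on at most `14` points. -/
def permBound (n : ℕ) : ℕ := [0, 0, 1, 2, 3, 3, 3, 3, 4, 5, 5, 5, 5, 5, 5].getD n 0

/-- Groups on `2 ^ n` vectors. -/
def twoBound (n : ℕ) : ℕ := [0, 0, 2, 2, 3, 3, 6, 6, 6, 6, 6, 6, 7, 7, 7].getD n 0

/-- Groups on `q ^ n` vectors, `q` any prime. -/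
def genBound (n : ℕ) : ℕ := [0, 1, 4, 5, 5, 6, 6].getD n 0

theorem prime_pow_small {q k n : ℕ} (hq : q.Prime) (h : q ^ k = n) (hn : 4 ≤ n) (hn' : n ≤ 14) :
    (k = 1 ∧ q = n) ∨ (n = 4 ∧ q = 2 ∧ k = 2) ∨ (n = 8 ∧ q = 2 ∧ k = 3) ∨
      (n = 9 ∧ q = 3 ∧ k = 2) := by
  subst h
  have hk : k < 4 := by
    by_contra! hk
    have : 2 ^ 4 ≤ q ^ k := (Nat.pow_le_pow_left hq.two_le 4).trans (Nat.pow_le_pow_right hq.pos hk)
    omega
  have h2 := hq.two_le
  interval_cases k
  · simp at hn
  · simp
  · have : q ≤ 3 := by nlinarith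
    interval_cases q <;> simp
  · have : q ≤ 2 := by
      by_contra! h3
      have : 3 ^ 3 ≤ q ^ 3 := Nat.pow_le_pow_left h3 3
      omega
    interval_cases q
    simp

theorem dlB_two_one : DLB.{u} 2 1 0 :=
  DLB.mono (dlB_one 2 Nat.prime_two) (by simp)

theorem dlB_any_one {q : ℕ} (hq : q.Prime) : DLB.{u} q 1 1 :=
  DLB.mono (dlB_one q hq) (by split_ifs <;> omega)

theorem dlP_two : DLP 2 1 := fun Ω _ hΩ G _ => dl_one_of_card_le (by
  refine (Subgroup.card_le_card_group G).trans ?_
  rw [Nat.card_perm, hΩ]; decide)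

theorem dlP_three : DLP 3 2 := fun Ω _ hΩ G hG => by
  haveI := hG
  refine dl_two_of_card_le ((Subgroup.card_le_card_group G).trans ?_)
  rw [Nat.card_perm, hΩ]; decide

theorem dlB_two_two : DLB.{u} 2 2 2 := ⟨fun hV _ hf =>
  dl_two_of_card_le ((SolvKGV.card_le_four hf (by rw [hV]; rfl)).trans (by norm_num))⟩

theorem no_inner_two {e m M : ℕ} (he0 : 0 < e) (hem : e * m ≤ 14) (hM : 2 ≤ M) (hMm : M ≤ m)
    (h : ∀ r, r.Prime → r ∣ M → r ∣ 2 ^ e - 1) : M = 3 ∧ e ≠ 1 ∧ 6 ≤ e * m := by
  have he : e ≤ 7 := by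
    by_contra! he
    have : 8 * 2 ≤ e * m := Nat.mul_le_mul he (hM.trans hMm)
    omega
  have hM' : e * M ≤ 14 := (Nat.mul_le_mul_left e hMm).trans hem
  have hM'' : M ≤ 14 := (Nat.le_mul_of_pos_left M he0).trans hM'
  have h2 := h 2 Nat.prime_two
  have h3 := h 3 Nat.prime_three
  have h5 := h 5 Nat.prime_five
  have h7 := h 7 (by norm_num)
  have h11 := h 11 (by norm_num)
  have h13 := h 13 (by norm_num)
  have h6 : e * 3 ≤ e * m ∨ M = 2 := by
    rcases (by omega : M = 2 ∨ 3 ≤ M) with h | h
    · exact Or.inr h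
    · exact Or.inl (Nat.mul_le_mul_left e (h.trans hMm))
  interval_cases e <;> interval_cases M <;> norm_num at * <;> omega

theorem dlP_four : DLP 4 3 := by
  refine dlP_step (fun k => [0, 0, 1, 2].getD k 0) (by norm_num) (fun k hk => ?_) (fun k hk => ?_)
    (fun s c h hs hc => ?_) (fun q k hq h => ⟨2, ?_, by norm_num⟩)
  · interval_cases k
    exacts [dlP_of_le_one (by norm_num), dlP_of_le_one (by norm_num), dlP_two, dlP_three]
  · interval_cases k <;> decide
  · have : s ≤ 2 := by nlinarith
    interval_cases s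
    obtain rfl : c = 2 := by omega
    decide
  · rcases prime_pow_small hq h le_rfl (by norm_num) with ⟨-, e⟩ | ⟨-, rfl, rfl⟩ | ⟨e, -, -⟩ | ⟨e, -, -⟩
    · subst e; norm_num at hq
    · exact dlB_two_two
    all_goals omega

/-- The step for permutation groups of at least five points. -/
theorem dlP_of_table {n : ℕ} (hn : 5 ≤ n) (hn' : n ≤ 14) (hsmall : ∀ k, k < n → DLP k (permBound k))
    (haff : ∀ q k, q.Prime → q ^ k = n → ∃ d, DLB.{0} q k d ∧ 1 + d ≤ permBound n) :
    DLP n (permBound n) := by
  refine dlP_step permBound (by omega) hsmall (fun k hk => ?_) (fun s c h hs hc => ?_) haff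
  · interval_cases n <;> interval_cases k <;> decide
  · have hs' : s ≤ 7 := by nlinarith
    have hc' : c ≤ 7 := by nlinarith
    subst h
    interval_cases s <;> interval_cases c <;> simp_all [permBound]

theorem dlP_le_seven : ∀ n, n ≤ 7 → DLP n (permBound n) := by
  intro n hn
  induction n using Nat.strong_induction_on with
  | _ n ih =>
    rcases (by omega : n ≤ 1 ∨ n = 2 ∨ n = 3 ∨ n = 4 ∨ 5 ≤ n) with h | rfl | rfl | rfl | h
    · exact dlP_of_le_one h
    · exact dlP_two
    · exact dlP_three
    · exact dlP_four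
    refine dlP_of_table h (by omega) (fun k hk => ih k hk (by omega)) fun q k hq hqk => ?_
    rcases prime_pow_small hq hqk (by omega) (by omega) with ⟨rfl, -⟩ | ⟨e, -, -⟩ | ⟨e, -, -⟩ | ⟨e, -, -⟩
    · exact ⟨1, dlB_any_one hq, by interval_cases n <;> decide⟩
    all_goals omega

theorem dlB_two_small : ∀ n, 0 < n → n ≤ 5 → DLB.{u} 2 n (twoBound n) := by
  intro n hn0 hn
  induction n using Nat.strong_induction_on with
  | _ n ih =>
    rcases (by omega : n = 1 ∨ n = 2 ∨ 3 ≤ n) with rfl | rfl | h
    · exact dlB_two_one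
    · exact dlB_two_two
    refine dlB_step Nat.prime_two twoBound permBound (fun k h0 hk => ih k hk h0 (by omega))
      (fun k h0 hk => by interval_cases n <;> interval_cases k <;> decide)
      (fun r hr hr2 => ⟨dlP_le_seven r ((Nat.le_of_dvd (by omega) hr).trans (by omega)), ?_⟩)
      (by interval_cases n <;> decide) fun e m M hem hM hMm hpr => ?_
    · have hrn := Nat.le_of_dvd (by omega) hr
      interval_cases n <;> interval_cases r <;> simp_all [permBound, twoBound]
    · have := (no_inner_two (Nat.pos_of_mul_pos_right (hem.symm ▸ (by omega : 0 < n))) (by omega)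
        hM hMm hpr).2.2
      omega

theorem dlB_gen_two {q : ℕ} (hq : q.Prime) : DLB.{u} q 2 4 := by
  refine dlB_step hq (fun _ => 1) permBound (fun k h0 hk => by
      obtain rfl : k = 1 := by omega
      exact dlB_any_one hq)
    (fun k _ _ => by norm_num)
    (fun r hr hr2 => ⟨dlP_le_seven r ((Nat.le_of_dvd (by norm_num) hr).trans (by norm_num)), ?_⟩)
    (by norm_num) fun e m M hem hM hMm _ => ⟨2, ?_, ?_⟩
  · obtain rfl : r = 2 := le_antisymm (Nat.le_of_dvd (by norm_num) hr) hr2
    decide
  · obtain rfl : M = 2 := by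
      rcases Nat.eq_zero_or_pos e with rfl | he0
      · simp at hem
      · have := (Nat.le_mul_of_pos_left m he0).trans_eq hem
        omega
    exact dInner_two
  · rw [if_pos (show e = 1 by nlinarith)]

theorem dlP_le : ∀ n, n ≤ 14 → DLP n (permBound n) := by
  intro n hn
  induction n using Nat.strong_induction_on with
  | _ n ih =>
    rcases le_or_gt n 7 with h | h
    · exact dlP_le_seven n h
    refine dlP_of_table (by omega) hn (fun k hk => ih k hk (by omega)) fun q k hq hqk => ?_
    rcases prime_pow_small hq hqk (by omega) hn with ⟨rfl, -⟩ | ⟨e, -, -⟩ | ⟨rfl, rfl, rfl⟩ |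
      ⟨rfl, rfl, rfl⟩
    · exact ⟨1, dlB_any_one hq, by interval_cases n <;> decide⟩
    · omega
    · exact ⟨2, dlB_two_small 3 (by norm_num) (by norm_num), by decide⟩
    · exact ⟨4, dlB_gen_two Nat.prime_three, by decide⟩

theorem dlB_two : ∀ n, 0 < n → n ≤ 14 → DLB.{u} 2 n (twoBound n) := by
  intro n hn0 hn
  induction n using Nat.strong_induction_on with
  | _ n ih =>
    rcases le_or_gt n 5 with h | h
    · exact dlB_two_small n hn0 h
    refine dlB_step Nat.prime_two twoBound permBound (fun k h0 hk => ih k hk h0 (by omega))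
      (fun k h0 hk => by interval_cases n <;> interval_cases k <;> decide)
      (fun r hr hr2 => ⟨dlP_le r ((Nat.le_of_dvd (by omega) hr).trans (by omega)), ?_⟩)
      (by interval_cases n <;> decide) fun e m M hem hM hMm hpr => ?_
    · have hrn := Nat.le_of_dvd (by omega) hr
      interval_cases n <;> interval_cases r <;> simp_all [permBound, twoBound]
    · obtain ⟨rfl, he, h6⟩ := no_inner_two (Nat.pos_of_mul_pos_right (hem.symm ▸ (by omega : 0 < n)))
        (by omega) hM hMm hpr
      refine ⟨3, dInner_three, ?_⟩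
      rw [if_neg he]
      interval_cases n <;> decide

theorem exp_le_of_dvd_pow {p r a j : ℕ} (hr : r.Prime) (hp : p.Prime) (h : r ^ a ∣ p ^ j) :
    a = 0 ∨ (r = p ∧ a ≤ j) := by
  rcases Nat.eq_zero_or_pos a with rfl | ha
  · exact Or.inl rfl
  have e : r = p := (Nat.prime_dvd_prime_iff_eq hr hp).1
    (hr.dvd_of_dvd_pow ((dvd_pow_self r ha.ne').trans h))
  subst e
  exact Or.inr ⟨rfl, (Nat.pow_dvd_pow_iff_le_right hr.one_lt).1 h⟩

theorem dlB_zero (q b : ℕ) : DLB.{u} q 0 b := by
  refine ⟨fun {H} _ _ _ {V} _ _ _ hV _ hf => ?_⟩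
  haveI : Subsingleton V := Finite.card_le_one_iff_subsingleton.1 (by rw [hV, pow_zero])
  haveI : Subsingleton H := ⟨fun a c => by
    rw [hf a fun v => Subsingleton.elim _ _, hf c fun v => Subsingleton.elim _ _]⟩
  exact dl_of_subsingleton b

/-- The outer group for small `M`. -/
theorem dInner_small {M : ℕ} (hM : 2 ≤ M) (hM' : M ≤ 6) :
    DInner.{u} M ([0, 0, 2, 3, 3, 4, 4].getD M 0) := by
  interval_cases M
  · exact dInner_two
  · exact dInner_three
  · refine dInner_of_primary fun r a hr h => ?_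
    rcases exp_le_of_dvd_pow hr Nat.prime_two (show r ^ a ∣ 2 ^ 4 from h) with rfl | ⟨rfl, ha⟩
    · exact dlB_zero _ _
    · rcases Nat.eq_zero_or_pos a with rfl | ha0
      · exact dlB_zero _ _
      · exact DLB.mono (dlB_two a ha0 (by omega)) (by interval_cases a <;> decide)
  · refine dInner_of_primary fun r a hr h => ?_
    rcases exp_le_of_dvd_pow hr Nat.prime_five (show r ^ a ∣ 5 ^ 2 from h) with rfl | ⟨rfl, ha⟩
    · exact dlB_zero _ _
    · interval_cases a
      exacts [dlB_zero _ _, DLB.mono (dlB_any_one hr) (by decide), dlB_gen_two hr]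
  · refine dInner_of_primary fun r a hr h => ?_
    have ha : a ≤ 2 := by
      by_contra! ha
      have h3 : r ^ 3 ∣ 6 ^ 2 := (pow_dvd_pow r ha).trans h
      have hr36 := Nat.le_of_dvd (by norm_num) h3
      have hr4 : r ≤ 3 := by
        by_contra! h4
        have : 4 ^ 3 ≤ r ^ 3 := Nat.pow_le_pow_left h4 3
        norm_num at hr36 this
        omega
      have := hr.two_le
      interval_cases r <;> norm_num at h3
    interval_cases a
    exacts [dlB_zero _ _, DLB.mono (dlB_any_one hr) (by decide), dlB_gen_two hr]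

theorem dlB_gen {q : ℕ} (hq : q.Prime) : ∀ n, n ≤ 6 → DLB.{u} q n (genBound n) := by
  intro n hn
  induction n using Nat.strong_induction_on with
  | _ n ih =>
    rcases (by omega : n = 0 ∨ n = 1 ∨ n = 2 ∨ 3 ≤ n) with rfl | rfl | rfl | h
    · exact dlB_zero _ _
    · exact dlB_any_one hq
    · exact dlB_gen_two hq
    refine dlB_step hq genBound permBound (fun k h0 hk => ih k hk (by omega))
      (fun k h0 hk => by interval_cases n <;> interval_cases k <;> decide)
      (fun r hr hr2 => ⟨dlP_le r ((Nat.le_of_dvd (by omega) hr).trans (by omega)), ?_⟩)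
      (by interval_cases n <;> decide) fun e m M hem hM hMm _ => ?_
    · have hrn := Nat.le_of_dvd (by omega) hr
      interval_cases n <;> interval_cases r <;> simp_all [permBound, genBound]
    · have he0 : 0 < e := by
        rcases Nat.eq_zero_or_pos e with rfl | h0
        · rw [zero_mul] at hem; omega
        · exact h0
      have hm6 : m ≤ 6 := (Nat.le_mul_of_pos_left m he0).trans (hem ▸ hn)
      refine ⟨_, dInner_small hM (hMm.trans hm6), ?_⟩
      subst hem
      have he3 : e ≤ 3 := by nlinarith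
      interval_cases e <;> interval_cases m <;> interval_cases M <;> simp_all [genBound]

end CfsgLib.StabLength
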